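import Cfsg.Agent.Lib.Char.Ndad.Section
import Cfsg.Agent.Lib.Thompson.FixedPointFree
import Cfsg.Agent.Lib.Char.Quotient

/-!
# An abelian section: the splitting over the derived group of `N`
-/

set_option autoImplicit false
set_option linter.unusedSectionVars false
set_option linter.style.haveILetI false
set_option maxHeartbeats 800000

namespace Cfsg.Lib.Char.Ndad

open Cfsg Cfsg.Lib.Char
open scoped commutatorElement

universe u

/-- The splitting `G = W L`, `N = W H`. -/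
structure Abel {G : Type u} [Group G] {S : Setup G} (D : Sect S) where
  x : G
  L : Subgroup G
  le_M : ⁅S.N, S.N⁆ ≤ D.M
  xq : x ^ S.q = 1
  inf_bot : ⁅S.N, S.N⁆ ⊓ L = ⊥
  split : ∀ g : G, ∃ w ∈ ⁅S.N, S.N⁆, ∃ l ∈ L, g = w * l
  inter : ∀ g : G, g ∈ S.N ⊓ L ↔ g ∈ S.N ∧ g * x = x * g
  comm : ∀ a ∈ S.N ⊓ L, ∀ b ∈ S.N ⊓ L, a * b = b * a
  xmem : x ∈ S.N ⊓ L
  xmov : ∃ y ∈ L, y * x ≠ x * y
  fpf : ∀ w ∈ ⁅S.N, S.N⁆, x * w = w * x → w = 1

namespace Sect

variable {G : Type u} [Group G] [Fintype G] [Group.IsSolvable G] {S : Setup G} (D : Sect S)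

include D

theorem exists_abel [Fintype S.N] [Fintype D.Qb] [Fintype D.M] (hQ : lcs D.Qb 1 = ⊥) :
    Nonempty (Abel D) := by
  classical
  haveI := Fact.mk S.hq
  have hQc : ∀ a b : D.Qb, a * b = b * a := fun a b => commutatorElement_eq_one_iff_mul_comm.1
    (Subgroup.mem_bot.1 (hQ ▸ comm_mem_one a b))
  have hWM : ⁅S.N, S.N⁆ ≤ D.M := by
    rw [Subgroup.commutator_le]
    intro a ha b hb
    refine (QuotientGroup.eq_one_iff (⁅a, b⁆ : G)).1 ?_
    show QuotientGroup.mk' D.M ⁅a, b⁆ = 1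
    rw [map_commutatorElement, commutatorElement_eq_one_iff_mul_comm]
    exact congrArg Subtype.val (hQc (D.toQ ⟨a, ha⟩) (D.toQ ⟨b, hb⟩))
  -- an element of order `q` moved by the complement
  obtain ⟨x₀, hx₀q, hx₀U⟩ : ∃ x₀ : D.Qb, x₀ ^ S.q = 1 ∧ x₀ ∉ D.sys.U := by
    obtain ⟨y, hy⟩ : ∃ y, y ∉ D.sys.U := by
      by_contra h
      push Not at h
      exact D.U_ne_top (eq_top_iff.2 fun y _ => h y)
    rw [Sys.mem_U] at hy
    push Not at hy
    obtain ⟨L, c, hLc⟩ := hy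
    set w := y⁻¹ * D.sys.act c y with hw
    have hw1 : w ≠ 1 := fun e => hLc (by rw [(inv_mul_eq_one.1 e).symm])
    obtain ⟨k, hk⟩ := IsPGroup.iff_orderOf.1 D.pGroup_Qb w
    have hk0 : k ≠ 0 := fun e => hw1 (orderOf_eq_one_iff.1 (by rw [hk, e, pow_zero]))
    obtain ⟨k', rfl⟩ := Nat.exists_eq_succ_of_ne_zero hk0
    refine ⟨w ^ S.q ^ k', by rw [← pow_mul, ← pow_succ, ← hk, pow_orderOf_eq_one], fun hU => ?_⟩
    have hdisp : w ^ S.q ^ k' = (y ^ S.q ^ k')⁻¹ * D.sys.act c (y ^ S.q ^ k') := by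
      rw [hw, (show Commute y⁻¹ (D.sys.act c y) from hQc _ _).mul_pow, inv_pow, map_pow]
    have hfix : D.sys.act c (w ^ S.q ^ k') = w ^ S.q ^ k' := by
      have h1 := D.sys.displacement_mem c hU
      rw [← lcs_one, hQ, Subgroup.mem_bot, inv_mul_eq_one] at h1
      exact h1.symm
    rw [hdisp] at hfix
    have h2 := D.sys.fixed_of_displacement hfix
    rw [h2, inv_mul_cancel] at hdisp
    have := orderOf_dvd_of_pow_eq_one hdisp
    rw [hk] at this
    exact absurd (Nat.le_of_dvd (pow_pos S.hq.pos _) this)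
      (not_le.2 (Nat.pow_lt_pow_right S.hq.one_lt (Nat.lt_succ_self k')))
  -- a Sylow subgroup
  obtain ⟨R⟩ : Nonempty (Sylow S.q S.N) := inferInstance
  let f : (R : Subgroup S.N) →* D.Qb := D.toQ.comp (R : Subgroup S.N).subtype
  have hfinj : Function.Injective f := by
    rw [injective_iff_map_eq_one]
    intro r hr
    obtain ⟨i, hi⟩ := R.2 r
    have hM : ((r : S.N) : G) ∈ D.M := (QuotientGroup.eq_one_iff _).1 (congrArg Subtype.val hr)
    have h1 : ((r : S.N) : G) ^ S.q ^ i = 1 := by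
      simpa using congrArg (fun z : (R : Subgroup S.N) => ((z : S.N) : G)) hi
    have h2 : ((r : S.N) : G) ^ Nat.card D.M = 1 :=
      congrArg Subtype.val (pow_card_eq_one' (x := (⟨_, hM⟩ : D.M)))
    exact Subtype.ext (Subtype.ext (RelDeg.eq_one_of_pow_coprime h2 h1 (D.cop_pow i)))
  have hfsurj : Function.Surjective f := by
    have h1 : ((R : Subgroup S.N).map D.toQ).index ∣ (R : Subgroup S.N).index :=
      Subgroup.index_map_dvd _ D.toQ_surj
    obtain ⟨i, hi⟩ := D.sys.index_pow ((R : Subgroup S.N).map D.toQ)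
    have h2 : ((R : Subgroup S.N).map D.toQ) = ⊤ := by
      rw [← Subgroup.index_eq_one]
      rcases Nat.eq_zero_or_pos i with h0 | h0
      · rw [hi, h0, pow_zero]
      · exact absurd ((hi ▸ dvd_pow_self D.sys.q h0.ne').trans h1) R.not_dvd_index
    intro x
    obtain ⟨r, hr, rfl⟩ := (h2 ▸ Subgroup.mem_top x : x ∈ (R : Subgroup S.N).map D.toQ)
    exact ⟨⟨r, hr⟩, rfl⟩
  obtain ⟨x₁, rfl⟩ := hfsurj x₀
  set x : G := ((x₁ : S.N) : G) with hx
  have hxq : x ^ S.q = 1 := by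
    have h1 : x₁ ^ S.q = 1 := hfinj (by rw [map_pow, map_one]; exact hx₀q)
    simpa using congrArg (fun w : (R : Subgroup S.N) => ((w : S.N) : G)) h1
  have hxfree : D.Free x := by
    refine ⟨x₁.1.2, hxq, fun θ hθ hmem => ?_⟩
    obtain ⟨y, T, c, hT, -, hc, hfix, -, -⟩ := D.exists_stab_data θ hθ
    have h1 := hT x₁.1 hmem
    rw [hQc y, mul_inv_cancel_right] at h1
    refine hx₀U (D.sys.mem_U_of_fixed hc ?_)
    show (D.toQ x₁.1)⁻¹ * D.sys.act c (D.toQ x₁.1) ∈ commutator D.Qb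
    rw [hfix _ h1, inv_mul_cancel]
    exact one_mem _
  set P : Subgroup G := (R : Subgroup S.N).map S.N.subtype with hP
  have hxP : x ∈ P := ⟨x₁.1, x₁.2, rfl⟩
  have hPN : P ≤ S.N := Subgroup.map_subtype_le _
  have hPM : ∀ g ∈ P, g ∈ D.M → g = 1 := by
    rintro _ ⟨r, hr, rfl⟩ hM
    have : f ⟨r, hr⟩ = 1 := Subtype.ext ((QuotientGroup.eq_one_iff _).2 hM)
    have h2 := hfinj (this.trans (map_one f).symm)
    simpa using congrArg (fun z : (R : Subgroup S.N) => ((z : S.N) : G)) h2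
  have hPc : ∀ a ∈ P, ∀ b ∈ P, a * b = b * a := by
    rintro _ ⟨a, ha, rfl⟩ _ ⟨b, hb, rfl⟩
    have h1 : (⟨a, ha⟩ : (R : Subgroup S.N)) * ⟨b, hb⟩ = ⟨b, hb⟩ * ⟨a, ha⟩ :=
      hfinj (by rw [map_mul, map_mul, hQc])
    simpa using congrArg (fun z : (R : Subgroup S.N) => ((z : S.N) : G)) h1
  have hNdec : ∀ n ∈ S.N, ∃ m ∈ D.M, ∃ p ∈ P, n = m * p := by
    intro n hn
    obtain ⟨r, hr⟩ := hfsurj (D.toQ ⟨n, hn⟩)
    have h1 : QuotientGroup.mk' D.M ((r : S.N) : G) = QuotientGroup.mk' D.M n :=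
      congrArg Subtype.val hr
    refine ⟨n * ((r : S.N) : G)⁻¹, ?_, _, ⟨r, r.2, rfl⟩, by simp⟩
    refine (QuotientGroup.eq_one_iff _).1 ?_
    show QuotientGroup.mk' D.M _ = 1
    rw [map_mul, map_inv, h1, mul_inv_cancel]
  -- the derived group lies in the commutator with the complement
  have hWle : ⁅S.N, S.N⁆ ≤ ⁅D.M, S.N⁆ := by
    rw [Subgroup.commutator_le]
    intro a ha b hb
    obtain ⟨m, hm, p, hp, rfl⟩ := hNdec a ha
    obtain ⟨m', hm', p', hp', rfl⟩ := hNdec b hb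
    refine (QuotientGroup.eq_one_iff (⁅m * p, m' * p'⁆ : G)).1 ?_
    show QuotientGroup.mk' ⁅D.M, S.N⁆ _ = 1
    rw [map_commutatorElement, commutatorElement_eq_one_iff_mul_comm]
    have hcm : ∀ m ∈ D.M, ∀ n ∈ S.N, Commute (QuotientGroup.mk' ⁅D.M, S.N⁆ m)
        (QuotientGroup.mk' ⁅D.M, S.N⁆ n) := fun m hm n hn => by
      rw [commute_iff_eq, ← commutatorElement_eq_one_iff_mul_comm, ← map_commutatorElement]
      exact (QuotientGroup.eq_one_iff _).2 (Subgroup.commutator_mem_commutator hm hn)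
    have hpp : Commute (QuotientGroup.mk' ⁅D.M, S.N⁆ p) (QuotientGroup.mk' ⁅D.M, S.N⁆ p') :=
      (show Commute p p' from hPc p hp p' hp').map _
    rw [map_mul, map_mul]
    exact ((hcm m hm _ (D.le hm')).mul_right (hcm m hm _ (hPN hp'))).mul_left
      ((hcm m' hm' _ (hPN hp)).symm.mul_right hpp)
  -- fixed points
  have hB : ∀ b ∈ D.M, b ∈ ⁅S.N, S.N⁆ → x * b = b * x → b = 1 := by
    intro b hbM hbW hxb
    refine D.free_fpf hxfree b ?_ hxb
    rw [← Subgroup.map_subtype_commutator]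
    refine ⟨⟨b, hbM⟩, mem_commutator_of_linear fun L => ?_, rfl⟩
    refine D.card_lin_cop L _ ?_
    set A := ∏ i ∈ Finset.range S.q, RelDeg.twHom D.M L (x ^ i) with hA
    have hkill : A ⟨b, hbM⟩ = 1 := by
      let T : Subgroup G :=
        { carrier := {y | ∃ hy : y ∈ D.M, A ⟨y, hy⟩ = 1}
          one_mem' := ⟨one_mem _, map_one _⟩
          mul_mem' := fun {a c} ha hc => ⟨mul_mem ha.1 hc.1, by
            rw [show (⟨a * c, mul_mem ha.1 hc.1⟩ : D.M) = ⟨a, ha.1⟩ * ⟨c, hc.1⟩ from rfl, map_mul,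
              ha.2, hc.2, one_mul]⟩
          inv_mem' := fun {a} ha => ⟨inv_mem ha.1, by
            rw [show (⟨a⁻¹, inv_mem ha.1⟩ : D.M) = ⟨a, ha.1⟩⁻¹ from rfl, map_inv, ha.2, inv_one]⟩ }
      have hle : ⁅D.M, S.N⁆ ≤ T := by
        rw [Subgroup.commutator_le]
        intro m hm n hn
        refine ⟨?_, ?_⟩
        · rw [commutatorElement_def, mul_assoc, mul_assoc]
          exact mul_mem hm (by rw [← mul_assoc]; exact D.normalM.conj_mem _ (inv_mem hm) n)
        · rw [show (⟨⁅m, n⁆, _⟩ : D.M) = ⟨m, hm⟩ * MulAut.conjNormal n ⟨m, hm⟩⁻¹ from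
            Subtype.ext (by simp [commutatorElement_def, mul_assoc]), map_mul]
          have h2 : A (MulAut.conjNormal n ⟨m, hm⟩⁻¹) = A ⟨m, hm⟩⁻¹ :=
            DFunLike.congr_fun (D.norm_invariant hxfree L hn) ⟨m, hm⟩⁻¹
          rw [h2, map_inv, mul_inv_cancel]
      exact (hle (hWle hbW)).2
    rw [hA, MonoidHom.finsetProd_apply, Finset.prod_congr rfl fun i _ =>
      show RelDeg.twHom D.M L (x ^ i) ⟨b, hbM⟩ = L ⟨b, hbM⟩ from congrArg L (Subtype.ext (by
        show (MulAut.conjNormal (x ^ i) (⟨b, hbM⟩ : D.M) : G) = b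
        rw [MulAut.conjNormal_apply,
          show x ^ i * b = b * x ^ i from ((show Commute x b from hxb).pow_left i).eq,
          mul_inv_cancel_right])), Finset.prod_const, Finset.card_range] at hkill
    exact hkill
  have hfpf : ∀ w ∈ ⁅S.N, S.N⁆, x * w = w * x → w = 1 := fun w hw h => hB w (hWM hw) hw h
  -- decomposition of `N`
  have hNsplit : ∀ n ∈ S.N, ∃ w ∈ ⁅S.N, S.N⁆, ∃ h ∈ S.N, h * x = x * h ∧ n = w * h := by
    intro n hn
    obtain ⟨m, hm, p, hp, rfl⟩ := hNdec n hn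
    obtain ⟨t, ht, c, hc, rfl⟩ := Cfsg.Lib.Coprime.le_commutator_sup_centralizer
      (A := Subgroup.zpowers x) (G := D.M) (by rw [Subgroup.normalizer_eq_top]; exact le_top)
      (by rw [Nat.card_zpowers]; exact (D.cop_order hxfree).symm) (Or.inr inferInstance) hm
    refine ⟨t, Subgroup.commutator_mono D.le (Subgroup.zpowers_le.2 (hPN hxP)) ht, c * p,
      mul_mem (D.le hc.1) (hPN hp), ?_, by group⟩
    have hcx : c * x = x * c :=
      (Subgroup.mem_centralizer_iff.1 hc.2 x (Subgroup.mem_zpowers x)).symm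
    rw [mul_assoc, hPc p hp x hxP, ← mul_assoc, hcx, mul_assoc]
  have hHc : ∀ a ∈ S.N, a * x = x * a → ∀ b ∈ S.N, b * x = x * b → a * b = b * a := by
    intro a ha hax b hb hbx
    refine commutatorElement_eq_one_iff_mul_comm.1
      (hfpf _ (Subgroup.commutator_mem_commutator ha hb) ?_)
    have h1 : Commute x a := hax.symm
    have h2 : Commute x b := hbx.symm
    exact (((h1.mul_right h2).mul_right h1.inv_right).mul_right h2.inv_right).eq
  refine ⟨⟨x, Subgroup.normalizer (P : Set G), hWM, hxq, ?_, fun g => ?_, fun g => ?_,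
    fun a ha b hb => ?_, ⟨hPN hxP, Subgroup.le_normalizer hxP⟩, ?_, hfpf⟩⟩
  case refine_3 =>
    refine ⟨fun ⟨hgN, hgL⟩ => ⟨hgN, ?_⟩, fun ⟨hgN, hgx⟩ => ⟨hgN, ?_⟩⟩
    · have h1 : g * x * g⁻¹ ∈ P := (Subgroup.mem_normalizer_iff.1 hgL x).1 hxP
      have h2 := hPM _ (mul_mem h1 (inv_mem hxP))
        (hWM (Subgroup.commutator_mem_commutator hgN (hPN hxP)))
      rwa [mul_inv_eq_one, mul_inv_eq_iff_eq_mul] at h2
    · refine Subgroup.mem_normalizer_iff.2 fun p => ⟨fun hp => ?_, fun hp => ?_⟩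
      · rwa [hHc g hgN hgx p (hPN hp) (hPc p hp x hxP), mul_inv_cancel_right]
      · have h1 : p = g⁻¹ * (g * p * g⁻¹) * g := by group
        rw [h1, hHc g⁻¹ (inv_mem hgN) (show Commute g⁻¹ x from (show Commute g x from hgx).inv_left) _
          (hPN hp) (hPc _ hp x hxP), inv_mul_cancel_right]
        exact hp
  case refine_4 =>
    have key : ∀ g, g ∈ S.N ⊓ Subgroup.normalizer (P : Set G) → g ∈ S.N ∧ g * x = x * g := by
      rintro g ⟨hgN, hgL⟩
      refine ⟨hgN, ?_⟩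
      have h1 : g * x * g⁻¹ ∈ P := (Subgroup.mem_normalizer_iff.1 hgL x).1 hxP
      have h2 := hPM _ (mul_mem h1 (inv_mem hxP))
        (hWM (Subgroup.commutator_mem_commutator hgN (hPN hxP)))
      rwa [mul_inv_eq_one, mul_inv_eq_iff_eq_mul] at h2
    exact hHc a (key a ha).1 (key a ha).2 b (key b hb).1 (key b hb).2
  case refine_1 =>
    refine eq_bot_iff.2 fun g hg => ?_
    have hgN : g ∈ S.N := Subgroup.commutator_le_left S.N S.N hg.1
    have h1 : g * x * g⁻¹ ∈ P := (Subgroup.mem_normalizer_iff.1 hg.2 x).1 hxP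
    have h2 := hPM _ (mul_mem h1 (inv_mem hxP))
      (hWM (Subgroup.commutator_mem_commutator hgN (hPN hxP)))
    rw [mul_inv_eq_one, mul_inv_eq_iff_eq_mul] at h2
    exact Subgroup.mem_bot.2 (hfpf g hg.1 h2.symm)
  case refine_2 =>
    obtain ⟨l, hl, n, hn, e⟩ := Subgroup.mem_sup_of_normal_right.1
      (Sylow.normalizer_sup_eq_top R ▸ Subgroup.mem_top g :
        g ∈ Subgroup.normalizer (P : Set G) ⊔ S.N)
    obtain ⟨w, hw, h, hh, hhx, e'⟩ := hNsplit (l * n * l⁻¹) (S.normalN.conj_mem n hn l)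
    refine ⟨w, hw, h * l, mul_mem (Subgroup.mem_normalizer_iff.2 fun p => ⟨fun hp => ?_, fun hp => ?_⟩) hl,
      ?_⟩
    · rwa [hHc h hh hhx p (hPN hp) (hPc p hp x hxP), mul_inv_cancel_right]
    · have h1 : p = h⁻¹ * (h * p * h⁻¹) * h := by group
      rw [h1, hHc h⁻¹ (inv_mem hh) (show Commute h⁻¹ x from (show Commute h x from hhx).inv_left) _
        (hPN hp) (hPc _ hp x hxP), inv_mul_cancel_right]
      exact hp
    · rw [← mul_assoc, ← e', inv_mul_cancel_right, e]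
  case refine_5 =>
    obtain ⟨L, c, hLc⟩ : ∃ (L : D.Qb →* ℂˣ) (c : D.Cb), L (D.sys.act c (D.toQ x₁.1)) ≠ L (D.toQ x₁.1) := by
      by_contra h
      push Not at h
      exact hx₀U (fun L c => h L c)
    obtain ⟨g, hg, -⟩ := D.exists_lift c
    obtain ⟨l, hl, n, hn, e⟩ := Subgroup.mem_sup_of_normal_right.1
      (Sylow.normalizer_sup_eq_top R ▸ Subgroup.mem_top g :
        g ∈ Subgroup.normalizer (P : Set G) ⊔ S.N)
    refine ⟨l, hl, fun hlx => hLc ?_⟩
    refine congrArg L ?_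
    rw [Sect.sys_act, D.actC_toQ hg, ← e,
      show MulAut.conjNormal (l * n) x₁.1 = MulAut.conjNormal l (MulAut.conjNormal n x₁.1) by
        rw [map_mul]; rfl]
    refine Subtype.ext ?_
    rw [coe_toQ, coe_toQ, MulAut.conjNormal_apply, MulAut.conjNormal_apply, map_mul, map_mul]
    have h3 : QuotientGroup.mk' D.M (n * ((x₁ : S.N) : G) * n⁻¹) = QuotientGroup.mk' D.M x := by
      rw [map_mul, map_mul, map_inv]
      have h4 : QuotientGroup.mk' D.M n * QuotientGroup.mk' D.M x =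
          QuotientGroup.mk' D.M x * QuotientGroup.mk' D.M n :=
        congrArg Subtype.val (hQc (D.toQ ⟨n, hn⟩) (D.toQ x₁.1))
      rw [h4, mul_inv_cancel_right]
    rw [h3, ← map_mul, ← map_mul, hlx, mul_inv_cancel_right]

end Sect

end Cfsg.Lib.Char.Ndad
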