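import Cfsg.Agent.Lib.Char.Ndad.Frame
import Mathlib.NumberTheory.Basic

/-!
# Points, stabilisers and a large subgroup moved by every outside element
-/

set_option autoImplicit false
set_option linter.unusedSectionVars false
set_option linter.style.haveILetI false

namespace Cfsg.Lib.Char.Ndad.Frame

open Cfsg Cfsg.Lib.Char

universe u v

variable {L : Type u} [Group L] [Finite L] {V : Type v} [CommGroup V] [Finite V] (F : Frame L V)

/-- The largest class. -/
def IsTop (σ : L) (s : ℕ) : Prop :=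
  1 < s ∧ s ∣ F.H.index ∧ F.ρ σ ^ s = 1 ∧ (∀ j : ℕ, σ ^ j ∈ F.H ↔ s ∣ j) ∧
    ∀ g : L, (∀ j : ℕ, g ^ j ∈ F.H → F.ρ (g ^ j) = 1) → g ∈ F.H ⊔ Subgroup.zpowers σ

include F

theorem ker_le : F.ρ.ker ≤ F.H := fun _ hg => F.mem_H_of_ker hg

theorem fixS_inf {w : V} (hw : w ≠ 1) : fixS F.ρ w ⊓ F.H = F.ρ.ker := by
  refine le_antisymm (fun g hg => F.fix_all hg.2 hw hg.1) fun g hg => ⟨?_, F.ker_le hg⟩
  show F.ρ g w = w
  rw [MonoidHom.mem_ker.1 hg, MulAut.one_apply]

/-- The index of a subgroup through the join with `H`. -/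
theorem index_eq (J : Subgroup L) : J.index = (F.H ⊔ J).index * (J ⊓ F.H).relIndex F.H := by
  haveI := F.normal
  have h1 : (F.H ⊓ J).index = F.H.relIndex J * J.index := by
    rw [← Subgroup.inf_relIndex_right, Subgroup.relIndex_mul_index inf_le_right]
  have h2 : (J ⊓ F.H).index = (J ⊓ F.H).relIndex F.H * (F.H.relIndex J * (F.H ⊔ J).index) := by
    rw [← Subgroup.relIndex_sup_right (H := J) (K := F.H), sup_comm J,
      Subgroup.relIndex_mul_index le_sup_left, Subgroup.relIndex_mul_index inf_le_right]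
  rw [inf_comm] at h1
  rw [h1, ← mul_assoc, mul_comm ((J ⊓ F.H).relIndex F.H), mul_assoc, mul_comm _ (F.H ⊔ J).index] at h2
  exact Nat.eq_of_mul_eq_mul_left (Nat.pos_of_ne_zero Subgroup.index_ne_zero_of_finite) h2

theorem card_G1 : Nat.card F.G1 = F.ρ.ker.relIndex F.H := (Subgroup.relIndex_ker (K := F.H) F.ρ).symm

variable {σ : L} {s : ℕ} (hT : F.IsTop σ s)

include hT

theorem sup_le_top {J : Subgroup L} (hJ : J ⊓ F.H ≤ F.ρ.ker) :
    F.H ⊔ J ≤ F.H ⊔ Subgroup.zpowers σ :=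
  sup_le le_sup_left fun g hg => hT.2.2.2.2 g fun j hj =>
    MonoidHom.mem_ker.1 (hJ ⟨pow_mem hg j, hj⟩)

/-- All stabilisers have the same image in the quotient. -/
theorem sup_fixS {w : V} (hw : w ≠ 1) : F.H ⊔ fixS F.ρ w = F.H ⊔ Subgroup.zpowers σ := by
  obtain ⟨w₀, hw₀, he₀⟩ := F.exists_fixed (g := σ) fun j hj => by
    obtain ⟨c, rfl⟩ := (hT.2.2.2.1 j).1 hj
    rw [map_pow, pow_mul, hT.2.2.1, one_pow]
  have h0 : F.H ⊔ fixS F.ρ w₀ = F.H ⊔ Subgroup.zpowers σ :=
    le_antisymm (F.sup_le_top hT (F.fixS_inf hw₀).le)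
      (sup_le_sup_left (Subgroup.zpowers_le.2 he₀) _)
  have hle := F.sup_le_top hT (F.fixS_inf hw).le
  have h1 := F.anti w₀ w hw₀ hw (by
    rw [F.index_eq, F.index_eq (fixS F.ρ w), F.fixS_inf hw₀, F.fixS_inf hw, h0]
    exact Nat.mul_dvd_mul_right (Subgroup.index_dvd_of_le hle) _)
  rw [F.index_eq, F.index_eq (fixS F.ρ w), F.fixS_inf hw₀, F.fixS_inf hw, h0] at h1
  have h2 := Nat.eq_of_mul_eq_mul_right
    (Nat.pos_of_ne_zero fun e => Subgroup.index_ne_zero_of_finite (H := F.ρ.ker.subgroupOf F.H) e) h1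
  have h3 := Subgroup.relIndex_mul_index hle
  rw [← h2] at h3
  exact le_antisymm hle (Subgroup.relIndex_eq_one.1
    ((Nat.mul_eq_right Subgroup.index_ne_zero_of_finite).1 h3))

theorem index_fixS {w : V} (hw : w ≠ 1) :
    (fixS F.ρ w).index = (F.H ⊔ Subgroup.zpowers σ).index * Nat.card F.G1 := by
  rw [F.index_eq, F.fixS_inf hw, F.sup_fixS hT hw, F.card_G1]

/-- A subgroup meeting `H` in the kernel has index a multiple of that of a stabiliser. -/
theorem index_dvd {J : Subgroup L} (hJ : J ⊓ F.H ≤ F.ρ.ker) {w : V} (hw : w ≠ 1) :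
    (fixS F.ρ w).index ∣ J.index := by
  rw [F.index_fixS hT hw, F.index_eq J, F.card_G1]
  exact mul_dvd_mul (Subgroup.index_dvd_of_le (F.sup_le_top hT hJ))
    (Subgroup.relIndex_dvd_of_le_left _ hJ)

theorem top_index : s * (F.H ⊔ Subgroup.zpowers σ).index = F.H.index := by
  haveI := F.normal
  have h1 : F.H.relIndex (F.H ⊔ Subgroup.zpowers σ) = s := by
    rw [sup_comm, Subgroup.relIndex_sup_right, ← QuotientGroup.ker_mk' F.H, Subgroup.relIndex_ker,
      MonoidHom.map_zpowers, Nat.card_zpowers]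
    refine Nat.dvd_antisymm (orderOf_dvd_of_pow_eq_one ?_) ?_
    · rw [← map_pow]
      exact (QuotientGroup.eq_one_iff _).2 ((hT.2.2.2.1 s).2 dvd_rfl)
    · rw [← hT.2.2.2.1, ← QuotientGroup.eq_one_iff]
      show QuotientGroup.mk' F.H (σ ^ _) = 1
      rw [map_pow, pow_orderOf_eq_one]
  conv_lhs => rw [← h1]
  exact Subgroup.relIndex_mul_index le_sup_left

theorem not_dvd_card : ¬ s ∣ Nat.card F.G1 := fun h => by
  obtain ⟨w, hw⟩ := F.nontriv
  refine F.notdvd w hw ?_
  rw [F.index_fixS hT hw, ← F.top_index hT, mul_comm s]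
  exact Nat.mul_dvd_mul_left _ h

omit hT

/-- An element of `H` of prime power order over a given one. -/
theorem exists_lift_pow {γ : MulAut V} (hγ : γ ∈ F.G1) {r a : ℕ} (hr : r.Prime)
    (he : γ ^ r ^ a = 1) : ∃ h ∈ F.H, ∃ c : ℕ, h ^ r ^ c = 1 ∧ F.ρ h = γ := by
  obtain ⟨h, hh, rfl⟩ := hγ
  obtain ⟨c, m, hm, hcm⟩ := Nat.exists_eq_pow_mul_and_not_dvd (orderOf_pos h).ne' r hr.ne_one
  have hord : orderOf (F.ρ h) ∣ r ^ a := orderOf_dvd_of_pow_eq_one he
  obtain ⟨u, hu⟩ := exists_pow_eq_self_of_coprime (x := F.ρ h) (n := m)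
    (Nat.Coprime.coprime_dvd_right hord
      (Nat.Coprime.pow_right a ((hr.coprime_iff_not_dvd).2 hm).symm))
  refine ⟨(h ^ m) ^ u, pow_mem (pow_mem hh m) u, c, ?_, by rw [map_pow, map_pow, hu]⟩
  rw [← pow_mul, mul_comm u, ← pow_mul, ← mul_assoc, mul_comm m, ← hcm, pow_mul,
    pow_orderOf_eq_one, one_pow]

/-- With another prime in the index, the part of `H` at a prime of the index is central. -/
theorem central_part {r r' : ℕ} (hr : r.Prime) (hr' : r'.Prime) (hne : r ≠ r')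
    (hrf : r ∣ F.H.index) (hrf' : r' ∣ F.H.index) {h : L} (hh : h ∈ F.H) {c : ℕ}
    (hc : h ^ r ^ c = 1) (y : L) : y * h = h * y := by
  classical
  have hf0 : F.H.index ≠ 0 := Subgroup.index_ne_zero_of_finite
  have hout : ∀ p : ℕ, p.Prime → p ∣ F.H.index → F.g₀ ^ (F.H.index / p) ∉ F.H := fun p hp hpf e =>
    absurd (Nat.le_of_dvd (Nat.div_pos (Nat.le_of_dvd (Nat.pos_of_ne_zero hf0) hpf) hp.pos)
      ((F.g₀_pow_mem _).1 e)) (not_le.2 (Nat.div_lt_self (Nat.pos_of_ne_zero hf0) hp.one_lt))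
  have hpow : ∀ p : ℕ, p ∣ F.H.index → (F.g₀ ^ (F.H.index / p)) ^ p ∈ F.H := fun p hpf => by
    rw [← pow_mul, Nat.div_mul_cancel hpf]; exact (F.g₀_pow_mem _).2 dvd_rfl
  set a := F.g₀ ^ (F.H.index / r)
  set b := F.g₀ ^ (F.H.index / r') with hb
  have hab : a * b = b * a := ((Commute.refl F.g₀).pow_pow _ _).eq
  let R : Subgroup L :=
    { carrier := {u | u ∈ F.H ∧ ∃ c : ℕ, u ^ r ^ c = 1}
      one_mem' := ⟨one_mem _, 0, one_pow _⟩
      mul_mem' := fun {u w} hu hw => ⟨mul_mem hu.1 hw.1, by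
        obtain ⟨i, hi⟩ := hu.2
        obtain ⟨j, hj⟩ := hw.2
        exact ⟨i + j, by rw [(show Commute u w from F.comm u hu.1 w hw.1).mul_pow, pow_add, pow_mul, hi,
          one_pow, one_mul, mul_comm, pow_mul, hj, one_pow]⟩⟩
      inv_mem' := fun {u} hu => ⟨inv_mem hu.1, by
        obtain ⟨i, hi⟩ := hu.2
        exact ⟨i, by rw [inv_pow, hi, inv_one]⟩⟩ }
  have hR : ∀ g u, u ∈ R → g * u * g⁻¹ ∈ R := fun g u hu => ⟨F.conj_mem hu.1, by
    obtain ⟨i, hi⟩ := hu.2
    exact ⟨i, by rw [conj_pow, hi, mul_one, mul_inv_cancel]⟩⟩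
  let D : Subgroup L :=
    { carrier := {z | ∃ u ∈ R, b * u * b⁻¹ * u⁻¹ = z}
      one_mem' := ⟨1, one_mem _, by group⟩
      mul_mem' := fun {z w} hz hw => by
        obtain ⟨u, hu, rfl⟩ := hz
        obtain ⟨t, ht, rfl⟩ := hw
        refine ⟨u * t, mul_mem hu ht, ?_⟩
        calc b * (u * t) * b⁻¹ * (u * t)⁻¹ = b * u * b⁻¹ * ((b * t * b⁻¹ * t⁻¹) * u⁻¹) := by group
          _ = b * u * b⁻¹ * (u⁻¹ * (b * t * b⁻¹ * t⁻¹)) := by
            rw [F.comm _ (mul_mem (F.conj_mem ht.1) (inv_mem ht.1)) _ (inv_mem hu.1)]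
          _ = _ := by group
      inv_mem' := fun {z} hz => by
        obtain ⟨u, hu, rfl⟩ := hz
        refine ⟨u⁻¹, inv_mem hu, ?_⟩
        rw [inv_inv, F.comm _ (F.conj_mem (inv_mem hu.1)) u hu.1]
        group }
  have hDR : ∀ z ∈ D, z ∈ R := by
    rintro _ ⟨u, hu, rfl⟩
    exact mul_mem (hR b u hu) (inv_mem hu)
  -- a fixed point of `a` on the displacements of `b`
  by_cases hD : D = ⊥
  · have h1 : b * h * b⁻¹ * h⁻¹ ∈ D := ⟨h, ⟨hh, c, hc⟩, rfl⟩
    rw [hD, Subgroup.mem_bot, mul_inv_eq_one, mul_inv_eq_iff_eq_mul] at h1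
    exact F.centfix b (hout r' hr' hrf') h hh h1 y
  exfalso
  haveI := Fact.mk hr
  have hDp : IsPGroup r D := fun z => by
    obtain ⟨i, hi⟩ := (hDR z z.2).2
    exact ⟨i, Subtype.ext (by simpa using hi)⟩
  haveI := (Subgroup.nontrivial_iff_ne_bot _).2 hD
  have hda : ∀ n : ℕ, ∀ z ∈ D, a ^ n * z * (a ^ n)⁻¹ ∈ D := by
    rintro n _ ⟨u, hu, rfl⟩
    have hc : Commute (a ^ n) b := (show Commute a b from hab).pow_left n
    refine ⟨a ^ n * u * (a ^ n)⁻¹, hR _ u hu, ?_⟩
    calc b * (a ^ n * u * (a ^ n)⁻¹) * b⁻¹ * (a ^ n * u * (a ^ n)⁻¹)⁻¹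
        = b * a ^ n * u * (b * a ^ n)⁻¹ * a ^ n * u⁻¹ * (a ^ n)⁻¹ := by group
      _ = _ := by rw [← hc.eq]; group
  let τ : Equiv.Perm D :=
    { toFun := fun z => ⟨a * z * a⁻¹, by simpa using hda 1 z z.2⟩
      invFun := fun z => ⟨a ^ (r - 1) * z * (a ^ (r - 1))⁻¹, hda _ z z.2⟩
      left_inv := fun z => Subtype.ext (by
        show a ^ (r - 1) * (a * z * a⁻¹) * (a ^ (r - 1))⁻¹ = z
        rw [show a ^ (r - 1) * (a * z * a⁻¹) * (a ^ (r - 1))⁻¹ =
          (a ^ (r - 1) * a) * z * (a ^ (r - 1) * a)⁻¹ by group, ← pow_succ,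
          Nat.sub_add_cancel hr.one_le, F.comm _ (hpow r hrf) z (hDR z z.2).1, mul_inv_cancel_right])
      right_inv := fun z => Subtype.ext (by
        show a * (a ^ (r - 1) * z * (a ^ (r - 1))⁻¹) * a⁻¹ = z
        rw [show a * (a ^ (r - 1) * z * (a ^ (r - 1))⁻¹) * a⁻¹ =
          (a * a ^ (r - 1)) * z * (a * a ^ (r - 1))⁻¹ by group, ← pow_succ',
          Nat.sub_add_cancel hr.one_le, F.comm _ (hpow r hrf) z (hDR z z.2).1, mul_inv_cancel_right]) }
  have hτ : τ ^ r = 1 := by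
    have hit : ∀ n : ℕ, ∀ z : D, ((τ ^ n) z : L) = a ^ n * z * (a ^ n)⁻¹ := by
      intro n
      induction n with
      | zero => intro z; simp
      | succ n ih =>
        intro z
        rw [pow_succ', Equiv.Perm.mul_apply]
        show a * ((τ ^ n) z : L) * a⁻¹ = _
        rw [ih, pow_succ', mul_inv_rev]
        group
    refine Equiv.ext fun z => Subtype.ext ?_
    rw [hit, F.comm _ (hpow r hrf) z (hDR z z.2).1, mul_inv_cancel_right]
    rfl
  have hP : IsPGroup r (Subgroup.zpowers τ) := fun x => ⟨1, Subtype.ext (by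
    obtain ⟨k, hk⟩ := Subgroup.mem_zpowers_iff.1 x.2
    rw [pow_one, SubmonoidClass.coe_pow, ← hk, ← zpow_natCast, zpow_comm, zpow_natCast, hτ,
      one_zpow]
    rfl)⟩
  obtain ⟨i, hi⟩ := hDp.exists_card_eq
  have hi0 : i ≠ 0 := fun e => (Finite.one_lt_card (α := D)).ne' (by rw [hi, e, pow_zero])
  have hτ1 : τ 1 = 1 := Subtype.ext (by show a * 1 * a⁻¹ = 1; group)
  have hfix1 : (1 : D) ∈ MulAction.fixedPoints (Subgroup.zpowers τ) D := fun x => by
    obtain ⟨k, hk⟩ := Subgroup.mem_zpowers_iff.1 x.2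
    show (x : Equiv.Perm D) 1 = 1
    rw [← hk]
    exact Equiv.Perm.zpow_apply_eq_self_of_apply_eq_self hτ1 k
  obtain ⟨z, hz, hz1⟩ := hP.exists_fixed_point_of_prime_dvd_card_of_fixed_point D
    (hi ▸ dvd_pow_self r hi0) hfix1
  have hza : a * (z : L) * a⁻¹ = z :=
    congrArg Subtype.val (hz ⟨τ, Subgroup.mem_zpowers τ⟩ : τ z = z)
  have hzc := F.centfix a (hout r hr hrf) z (hDR z z.2).1 (mul_inv_eq_iff_eq_mul.1 hza)
  obtain ⟨u, hu, huz⟩ := z.2
  have hbu : ∀ n : ℕ, b ^ n * u * (b ^ n)⁻¹ = (z : L) ^ n * u := by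
    intro n
    induction n with
    | zero => simp
    | succ n ih =>
      calc b ^ (n + 1) * u * (b ^ (n + 1))⁻¹ = b * (b ^ n * u * (b ^ n)⁻¹) * b⁻¹ := by
            rw [pow_succ', mul_inv_rev]; group
        _ = b * (z : L) ^ n * b⁻¹ * (b * u * b⁻¹) := by rw [ih]; group
        _ = (z : L) ^ n * ((z : L) * u) := by
            rw [(show Commute b ((z : L) ^ n) from (Commute.pow_right (hzc b) n)).eq,
              mul_inv_cancel_right, ← huz, inv_mul_cancel_right]
        _ = _ := by rw [← mul_assoc, ← pow_succ]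
  have e1 : (z : L) ^ r' = 1 := by
    have h1 := hbu r'
    rw [F.comm _ (hpow r' hrf') u hu.1, mul_inv_cancel_right] at h1
    exact mul_eq_right.1 h1.symm
  obtain ⟨j, hj⟩ := (hDR z z.2).2
  exact hz1 (Subtype.ext (RelDeg.eq_one_of_pow_coprime hj e1
    (Nat.Coprime.pow_left j ((Nat.coprime_primes hr hr').2 hne))).symm)

include hT

/-- The kernel of the norm of `σ` on the image of `H`. -/
theorem exists_free : ∃ E : Subgroup (MulAut V), E ≤ F.G1 ∧
    (∀ δ ∈ E, ∀ g ∉ F.H, F.ρ g * δ = δ * F.ρ g → δ = 1) ∧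
    ∀ n : ℕ, n ∣ Nat.card V → 1 < n → n < Nat.card V → ¬ Nat.card E ∣ n - 1 := by
  classical
  haveI := F.normal
  obtain ⟨hs1, hsf, hσs, hσmem, -⟩ := id hT
  set S := F.ρ σ with hS
  let N := nrmHom F.G1_comm (σ := S) (fun γ hγ => F.G1_conj hγ σ) s
  have hNapp : ∀ γ : F.G1, ((N γ : F.G1) : MulAut V) = ((γ : MulAut V) * S) ^ s := fun γ => by
    show nrm S s (γ : MulAut V) = _
    rw [nrm, hσs, inv_one, mul_one]
  haveI hcyc := F.G1_cyclic
  letI : CommGroup F.G1 := IsCyclic.commGroup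
  let P : N.ker →* N.ker := powMonoidHom s
  let E : Subgroup (MulAut V) := (P.range.map N.ker.subtype).map F.G1.subtype
  have hEmem : ∀ δ ∈ E, δ ∈ F.G1 ∧ ∃ γ ∈ F.G1, (γ * S) ^ s = 1 ∧ δ = γ ^ s := by
    rintro _ ⟨_, ⟨_, ⟨γ, rfl⟩, rfl⟩, rfl⟩
    refine ⟨((N.ker.subtype (P γ)) : F.G1).2, _, ((γ : N.ker) : F.G1).2, ?_, rfl⟩
    rw [← hNapp, MonoidHom.mem_ker.1 γ.2]
    rfl
  refine ⟨E, fun δ hδ => (hEmem δ hδ).1, ?_, ?_⟩
  · -- no outside element fixes a non-trivial member
    intro δ₀ hδ₀ g hg hgδ₀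
    by_contra hne
    obtain ⟨r, hr, hrd⟩ := Nat.exists_prime_and_dvd
      (show orderOf δ₀ ≠ 1 from fun e => hne (orderOf_eq_one_iff.1 e))
    set δ₁ := δ₀ ^ (orderOf δ₀ / r)
    have hδ₁o : orderOf δ₁ = r := orderOf_pow_orderOf_div (orderOf_pos δ₀).ne' hrd
    have hδ₁ : δ₁ ∈ E := pow_mem hδ₀ _
    have hgδ₁ : F.ρ g * δ₁ = δ₁ * F.ρ g := ((show Commute _ _ from hgδ₀).pow_right _).eq
    obtain ⟨-, γ₀, hγ₀, hγ₀N, hγ₀δ⟩ := hEmem δ₁ hδ₁
    -- an element of prime power order
    obtain ⟨a, m, hm, ham⟩ := Nat.exists_eq_pow_mul_and_not_dvd (orderOf_pos γ₀).ne' r hr.ne_one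
    set γ := γ₀ ^ m
    have hγ : γ ∈ F.G1 := pow_mem hγ₀ m
    have hγN : (γ * S) ^ s = 1 := by
      have h1 : N (⟨γ₀, hγ₀⟩ ^ m) = 1 := by
        rw [map_pow, show N ⟨γ₀, hγ₀⟩ = 1 from Subtype.ext (by rw [hNapp]; exact hγ₀N), one_pow]
      have h2 := congrArg Subtype.val h1
      rwa [hNapp] at h2
    have hγr : γ ^ r ^ a = 1 := by rw [← pow_mul, mul_comm, ← ham, pow_orderOf_eq_one]
    set δ := γ ^ s with hδ
    have hδeq : δ = δ₁ ^ m := by
      show (γ₀ ^ m) ^ s = δ₁ ^ m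
      rw [hγ₀δ, ← pow_mul, ← pow_mul, mul_comm]
    have hδ1 : δ ≠ 1 := fun e => by
      rw [hδeq] at e
      exact hm (hδ₁o ▸ orderOf_dvd_of_pow_eq_one e)
    have hgδ : F.ρ g * δ = δ * F.ρ g := by
      rw [hδeq]; exact ((show Commute _ _ from hgδ₁).pow_right m).eq
    have hcase : S * γ ≠ γ * S := fun e => hδ1 (by
      rw [← hγN, (show Commute γ S from e.symm).mul_pow, hσs, mul_one])
    by_cases hrf : r ∣ F.H.index
    · by_cases hother : ∃ r', r'.Prime ∧ r ≠ r' ∧ r' ∣ F.H.index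
      · obtain ⟨r', hr', hne', hrf'⟩ := hother
        obtain ⟨h, hh, c, hc, he⟩ := F.exists_lift_pow hγ hr hγr
        refine hcase ?_
        rw [← he, hS, ← map_mul, F.central_part hr hr' hne' hrf hrf' hh hc σ, map_mul]
      · push Not at hother
        have hpp : F.H.index = r ^ F.H.index.primeFactorsList.length :=
          Nat.eq_prime_pow_of_unique_prime_dvd Subgroup.index_ne_zero_of_finite fun {p} hp hpd =>
            by_contra fun h => hother p hp (Ne.symm h) hpd
        obtain ⟨b, -, hb⟩ := (Nat.dvd_prime_pow hr).1 (hpp ▸ hsf)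
        have hord : orderOf γ ∣ Nat.card F.G1 := Subgroup.orderOf_dvd_natCard F.G1 hγ
        obtain ⟨a', -, ha'⟩ := (Nat.dvd_prime_pow hr).1 (orderOf_dvd_of_pow_eq_one hγr)
        refine hδ1 (orderOf_dvd_iff_pow_eq_one.1 ?_)
        rw [ha', hb]
        refine pow_dvd_pow r (le_of_lt (Nat.lt_of_not_le fun hle => F.not_dvd_card hT ?_))
        rw [hb]
        exact (pow_dvd_pow r hle).trans (ha' ▸ hord)
    · -- coprime to the index
      obtain ⟨h, hh, c, hc, he⟩ := F.exists_lift_pow (pow_mem hγ s : δ ∈ F.G1) hr (a := a)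
        (by rw [← pow_mul, mul_comm, pow_mul, hγr, one_pow])
      have hcop : (r ^ c).Coprime F.H.index :=
        Nat.Coprime.pow_left c ((hr.coprime_iff_not_dvd).2 hrf)
      have hgh : g * h = h * g := F.comm_of_hom_comm hh hc hcop (by
        rw [map_mul, map_mul, map_inv, he, hgδ, mul_inv_cancel_right])
      have hSδ : S * δ = δ * S := by
        calc S * δ = F.ρ (σ * h) := by rw [map_mul, he]
          _ = F.ρ (h * σ) := by rw [F.centfix g hg h hh hgh σ]
          _ = δ * S := by rw [map_mul, he]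
      have hconj : S * γ * S⁻¹ ∈ Subgroup.zpowers γ :=
        F.G1_mem_zpowers hγ (F.G1_conj hγ σ) (by
          rw [conj_pow, pow_orderOf_eq_one, mul_one, mul_inv_cancel])
      obtain ⟨k, hk⟩ := Submonoid.mem_powers_iff _ _ |>.1 ((mem_powers_iff_mem_zpowers).2 hconj)
      have hkδ : δ ^ k = δ := by
        rw [hδ, ← pow_mul, mul_comm, pow_mul, hk, conj_pow, ← hδ, hSδ, mul_inv_cancel_right]
      have hk1 : (r : ℤ) ∣ (k : ℤ) - 1 := by
        have h1 : orderOf δ ∣ r ^ a := orderOf_dvd_of_pow_eq_one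
          (by rw [hδ, ← pow_mul, mul_comm, pow_mul, hγr, one_pow])
        have h2 : δ ^ ((k : ℤ) - 1) = 1 := by
          rw [zpow_sub, zpow_natCast, hkδ, zpow_one, mul_inv_cancel]
        obtain ⟨i, -, hi⟩ := (Nat.dvd_prime_pow hr).1 h1
        have hi0 : i ≠ 0 := fun e => hδ1 (orderOf_eq_one_iff.1 (by rw [hi, e, pow_zero]))
        exact (Int.natCast_dvd_natCast.2 (hi ▸ dvd_pow_self r hi0 : r ∣ orderOf δ)).trans
          (orderOf_dvd_iff_zpow_eq_one.2 h2)
      have hit : ∀ n : ℕ, S ^ n * γ * (S ^ n)⁻¹ = γ ^ (k ^ n) := by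
        intro n
        induction n with
        | zero => simp
        | succ n ih =>
          calc S ^ (n + 1) * γ * (S ^ (n + 1))⁻¹ = S * (S ^ n * γ * (S ^ n)⁻¹) * S⁻¹ := by
                rw [pow_succ', mul_inv_rev]; group
            _ = (γ ^ k) ^ (k ^ n) := by rw [ih, ← conj_pow, hk]
            _ = _ := by rw [← pow_mul, pow_succ']
      have hra : Commute (S ^ r ^ a) γ := by
        have h1 : (r : ℤ) ^ a ∣ (k : ℤ) ^ r ^ a - 1 := by
          have h2 := dvd_sub_pow_of_dvd_sub (p := r) (a := (k : ℤ)) (b := 1) hk1 a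
          rw [one_pow] at h2
          exact (pow_dvd_pow _ (Nat.le_succ a)).trans h2
        have h3 : γ ^ ((k : ℤ) ^ r ^ a - 1) = 1 := orderOf_dvd_iff_zpow_eq_one.1
          ((Int.natCast_dvd_natCast.2 (orderOf_dvd_of_pow_eq_one hγr)).trans (by exact_mod_cast h1))
        have h4 : γ ^ (k ^ r ^ a) = γ := by
          rw [zpow_sub, zpow_one, mul_inv_eq_one, ← Nat.cast_pow, zpow_natCast] at h3
          exact h3
        exact mul_inv_eq_iff_eq_mul.1 ((hit _).trans h4)
      have hrs : Nat.Coprime (r ^ a) (orderOf S) := Nat.Coprime.pow_left a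
        ((hr.coprime_iff_not_dvd).2 fun hd =>
          hrf (hd.trans ((orderOf_dvd_of_pow_eq_one hσs).trans hsf)))
      obtain ⟨j, hj⟩ := exists_pow_eq_self_of_coprime hrs
      exact hcase (hj ▸ (hra.pow_left j)).eq
  · -- covering the points by fixed sets
    intro n hnV hn1 hnV' hEn
    set M := Nat.card V with hM
    have hfreeE : Nat.card E ∣ M - 1 := NoDivide.card_dvd_of_free (1 : V)
      (fun (e : E) (w : V) => (e : MulAut V) w) (fun _ => rfl) (fun _ _ _ => rfl)
      (fun e => map_one (e : MulAut V))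
      (fun e w hw he => Subtype.ext (F.G1_free ((hEmem _ e.2).1) hw he))
    obtain ⟨m, hm⟩ := hnV
    have hm1 : 1 < m := by
      rcases m with _ | _ | m
      · rw [mul_zero] at hm; omega
      · simp at hm; omega
      · omega
    have hEm : Nat.card E ∣ m - 1 := by
      have h1 : M - 1 = m * (n - 1) + (m - 1) := by
        obtain ⟨n', rfl⟩ : ∃ n', n = n' + 1 := ⟨n - 1, by omega⟩
        rw [hm]
        simp only [Nat.add_sub_cancel]
        have : (n' + 1) * m = m * n' + m := by ring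
        omega
      exact (Nat.dvd_add_iff_right (hEn.mul_left m)).2 (h1 ▸ hfreeE)
    have hEM : (Nat.card E + 1) ^ 2 ≤ M := by
      have h1 := Nat.le_of_dvd (by omega) hEn
      have h2 := Nat.le_of_dvd (by omega) hEm
      rw [hm, sq]
      exact Nat.mul_le_mul (by omega) (by omega)
    -- the kernel
    have hcardE : Nat.card E = Nat.card P.range := by
      rw [Subgroup.card_map_of_injective F.G1.subtype_injective,
        Subgroup.card_map_of_injective N.ker.subtype_injective]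
    have hKE : 2 * Nat.card N.ker ≤ s * Nat.card E := by
      have h1 : Nat.card P.ker * Nat.card P.range = Nat.card N.ker := by
        rw [← Subgroup.index_ker, Subgroup.card_mul_index]
      have h2 : Nat.card P.ker = (Nat.card N.ker).gcd s := IsCyclic.card_powMonoidHom_ker N.ker s
      rw [← h1, hcardE, h2, ← mul_assoc]
      refine Nat.mul_le_mul_right _ ?_
      obtain ⟨d, hd⟩ := Nat.gcd_dvd_right (Nat.card N.ker) s
      have hd1 : d ≠ 1 := fun e => F.not_dvd_card hT (by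
        rw [e, mul_one] at hd
        rw [hd]
        exact (Nat.gcd_dvd_left _ _).trans (Subgroup.card_subgroup_dvd_card _))
      have hd0 : d ≠ 0 := fun e => by rw [e, mul_zero] at hd; omega
      conv_rhs => rw [hd]
      rw [mul_comm 2]
      exact Nat.mul_le_mul_left _ (by omega)
    -- the fixed sets
    haveI : Fintype V := Fintype.ofFinite V
    haveI : Fintype N.ker := Fintype.ofFinite _
    let fx : N.ker → Finset V := fun γ =>
      Finset.univ.filter fun w => (((γ : F.G1) : MulAut V) * S) w = w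
    haveI : Nonempty N.ker := ⟨1⟩
    obtain ⟨γm, -, hmax⟩ := Finset.exists_max_image (Finset.univ : Finset N.ker) (fun γ => (fx γ).card)
      Finset.univ_nonempty
    set Q := (fx γm).card with hQ
    have hone : ∀ γ, (1 : V) ∈ fx γ := fun γ => Finset.mem_filter.2 ⟨Finset.mem_univ _, map_one _⟩
    have hcover : ∀ w : V, w ≠ 1 → ∃ γ, w ∈ fx γ := by
      intro w hw
      obtain ⟨h, hh, t, ht, hht⟩ : ∃ h ∈ F.H, ∃ t ∈ fixS F.ρ w, h * t = σ :=
        Subgroup.mem_sup_of_normal_left.1 (by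
          rw [F.sup_fixS hT hw]; exact Subgroup.mem_sup_right (Subgroup.mem_zpowers σ))
      have hts : t ^ s ∈ F.H := by
        have e : (t : L ⧸ F.H) = (σ : L ⧸ F.H) := by
          rw [← hht, QuotientGroup.mk_mul, (QuotientGroup.eq_one_iff h).2 hh, one_mul]
        rw [← QuotientGroup.eq_one_iff, QuotientGroup.mk_pow, e, ← QuotientGroup.mk_pow,
          QuotientGroup.eq_one_iff, hσmem]
      have htρ := F.split_of_fixed hw ht s hts
      have hte : (F.ρ h)⁻¹ * S = F.ρ t := by rw [hS, ← hht, map_mul, inv_mul_cancel_left]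
      refine ⟨⟨⟨(F.ρ h)⁻¹, inv_mem ⟨h, hh, rfl⟩⟩, MonoidHom.mem_ker.2 (Subtype.ext ?_)⟩,
        Finset.mem_filter.2 ⟨Finset.mem_univ _, ?_⟩⟩
      · rw [hNapp]
        show ((F.ρ h)⁻¹ * S) ^ s = 1
        rw [hte, ← map_pow, htρ]
      · show ((F.ρ h)⁻¹ * S) w = w
        rw [hte]; exact ht
    have hQ2 : 2 ≤ Q := by
      obtain ⟨w, hw⟩ := F.nontriv
      obtain ⟨γ, hγ⟩ := hcover w hw
      refine le_trans ?_ (hmax γ (Finset.mem_univ _))
      exact Finset.one_lt_card.2 ⟨w, hγ, 1, hone γ, hw⟩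
    have hcov : M - 1 ≤ Nat.card N.ker * (Q - 1) := by
      calc M - 1 = (Finset.univ.erase (1 : V)).card := by
            rw [Finset.card_erase_of_mem (Finset.mem_univ _), Finset.card_univ, hM,
              Nat.card_eq_fintype_card]
        _ ≤ ((Finset.univ : Finset N.ker).biUnion fun γ => (fx γ).erase 1).card := by
            refine Finset.card_le_card fun w hw => ?_
            obtain ⟨γ, hγ⟩ := hcover w (Finset.ne_of_mem_erase hw)
            exact Finset.mem_biUnion.2 ⟨γ, Finset.mem_univ _,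
              Finset.mem_erase.2 ⟨Finset.ne_of_mem_erase hw, hγ⟩⟩
        _ ≤ ∑ γ : N.ker, ((fx γ).erase 1).card := Finset.card_biUnion_le
        _ ≤ ∑ _γ : N.ker, (Q - 1) := Finset.sum_le_sum fun γ _ => by
            rw [Finset.card_erase_of_mem (hone γ)]
            exact Nat.sub_le_sub_right (hmax γ (Finset.mem_univ _)) 1
        _ = Nat.card N.ker * (Q - 1) := by
            rw [Finset.sum_const, Finset.card_univ, smul_eq_mul, Nat.card_eq_fintype_card]
    -- independent translates of one fixed set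
    have hQM : Q ^ s ≤ M := by
      obtain ⟨h, hh, hhe⟩ : ((γm : F.G1) : MulAut V) ∈ F.G1 := (γm : F.G1).2
      set g := h * σ
      set G := F.ρ g with hG
      have hGe : G = ((γm : F.G1) : MulAut V) * S := by rw [hG, map_mul, hhe]
      set X := F.ρ F.x
      let y : ℕ → MulAut V := fun i => G ^ i * X * (G ^ i)⁻¹
      have hyG : ∀ i, y i ∈ F.G1 := fun i => by
        show G ^ i * X * (G ^ i)⁻¹ ∈ F.G1
        rw [hG, ← map_pow]; exact F.G1_conj F.x_mem _
      have hgmem : ∀ j : ℕ, g ^ j ∈ F.H → s ∣ j := fun j hj => by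
        rw [← hσmem, ← QuotientGroup.eq_one_iff, QuotientGroup.mk_pow]
        rwa [← QuotientGroup.eq_one_iff, QuotientGroup.mk_pow, QuotientGroup.mk_mul,
          (QuotientGroup.eq_one_iff h).2 hh, one_mul] at hj
      have key : ∀ i j : ℕ, i < j → j < s → ∀ w, y i w = y j w → w = 1 := by
        intro i j hij hjs w hw
        by_contra hw1
        have h1 : (y i)⁻¹ * y j = 1 := F.G1_free (mul_mem (inv_mem (hyG i)) (hyG j)) hw1 (by
          rw [MulAut.mul_apply, ← hw, MulAut.inv_apply_self])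
        have h2 : y j = y i := (inv_mul_eq_one.1 h1).symm
        obtain ⟨d, rfl⟩ : ∃ d, j = i + d := ⟨j - i, by omega⟩
        have hd : g ^ d ∉ F.H := fun hm => by
          have := Nat.le_of_dvd (by omega) (hgmem d hm); omega
        refine F.moved hd ?_
        rw [map_mul, map_mul, map_inv, map_pow]
        show G ^ d * X * (G ^ d)⁻¹ = X
        calc G ^ d * X * (G ^ d)⁻¹ = (G ^ i)⁻¹ * y (i + d) * G ^ i := by
              show _ = (G ^ i)⁻¹ * (G ^ (i + d) * X * (G ^ (i + d))⁻¹) * G ^ i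
              rw [pow_add, mul_inv_rev]; group
          _ = (G ^ i)⁻¹ * (G ^ i * X * (G ^ i)⁻¹) * G ^ i := by rw [h2]
          _ = X := by group
      let Φ : (Fin s → fx γm) → V := fun a => ∏ l : Fin s, (X ^ (l : ℕ)) (a l : V)
      have hΦ : Function.Injective Φ := by
        intro a b hab
        let v : ℕ → V := fun l => if hl : l < s then (a ⟨l, hl⟩ : V) * (b ⟨l, hl⟩ : V)⁻¹ else 1
        have hvfix : ∀ l, ∀ i : ℕ, (G ^ i) (v l) = v l := by
          intro l i
          by_cases hl : l < s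
          · have hf : ∀ c : fx γm, (G ^ i) (c : V) = c := fun c => by
              induction i with
              | zero => rfl
              | succ i ih =>
                rw [pow_succ', MulAut.mul_apply, ih, hGe]
                exact (Finset.mem_filter.1 c.2).2
            show (G ^ i) (dite _ _ _) = dite _ _ _
            rw [dif_pos hl, map_mul, map_inv, hf, hf]
          · show (G ^ i) (dite _ _ _) = dite _ _ _
            rw [dif_neg hl, map_one]
        have hzero : ∏ l ∈ Finset.range s, (X ^ l) (v l) = 1 := by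
          rw [← Fin.prod_univ_eq_prod_range (fun l => (X ^ l) (v l)) s,
            Finset.prod_congr rfl fun (l : Fin s) _ => show (X ^ (l : ℕ)) (v l) =
              (X ^ (l : ℕ)) (a l : V) * ((X ^ (l : ℕ)) (b l : V))⁻¹ by simp [v],
            Finset.prod_mul_distrib, Finset.prod_inv_distrib, mul_inv_eq_one]
          exact hab
        have hv := eq_one_of_vandermonde s y v (fun i _ j _ => F.G1_comm _ (hyG i) _ (hyG j))
          (fun i hi j hj hij w hw => by
            rcases lt_or_gt_of_ne hij with h1 | h1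
            · exact key i j h1 hj w hw
            · exact key j i h1 hi w hw.symm) fun i _ => by
          rw [← (G ^ i).map_eq_one_iff.2 hzero, map_prod]
          refine Finset.prod_congr rfl fun l _ => ?_
          show ((G ^ i * X * (G ^ i)⁻¹) ^ l) (v l) = _
          rw [conj_pow, MulAut.mul_apply, MulAut.mul_apply]
          congr 1
          congr 1
          exact (MulEquiv.symm_apply_eq _).2 (hvfix l i).symm
        funext l
        have h1 := hv l l.2
        simp only [v, dif_pos l.2, mul_inv_eq_one] at h1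
        exact Subtype.ext h1
      have h1 := Nat.card_le_card_of_injective Φ hΦ
      rwa [Nat.card_fun, Nat.card_eq_finsetCard, Nat.card_fin] at h1
    exact false_of_sizes hQ2 hs1 hQM hEM hcov hKE

end Cfsg.Lib.Char.Ndad.Frame
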