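import Cfsg.Agent.Lib.Char.Ndad.AbelianBase
import Cfsg.Agent.Lib.Char.Ndad.FrameFree

/-!
# The module of linear characters of the derived group of `N`
-/

set_option autoImplicit false
set_option linter.unusedSectionVars false
set_option linter.style.haveILetI false
set_option maxHeartbeats 800000

namespace Cfsg.Lib.Char.Ndad.Abel

open Cfsg Cfsg.Lib.Char
open scoped commutatorElement

universe u

variable {G : Type u} [Group G] {S : Setup G} {D : Sect S} (A : Abel D)

/-- The derived group of `N`. -/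
abbrev W (_A : Abel D) : Subgroup G := ⁅S.N, S.N⁆

instance normal_W : A.W.Normal :=
  haveI := S.normalN
  Subgroup.commutator_normal S.N S.N

/-- The abelian part of the complement. -/
abbrev HL : Subgroup A.L := S.N.subgroupOf A.L

variable [Fintype G]

theorem proj_bij : Function.Bijective ((QuotientGroup.mk' A.W).comp A.L.subtype) := by
  refine ⟨?_, fun y => ?_⟩
  · rw [injective_iff_map_eq_one]
    intro l hl
    exact Subtype.ext (Subgroup.mem_bot.1 (A.inf_bot ▸ ⟨(QuotientGroup.eq_one_iff _).1 hl, l.2⟩ :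
      (l : G) ∈ (⊥ : Subgroup G)))
  · obtain ⟨g, rfl⟩ := QuotientGroup.mk'_surjective A.W y
    obtain ⟨w, hw, l, hl, rfl⟩ := A.split g
    refine ⟨⟨l, hl⟩, ?_⟩
    show QuotientGroup.mk' A.W l = QuotientGroup.mk' A.W (w * l)
    rw [map_mul, show QuotientGroup.mk' A.W w = 1 from (QuotientGroup.eq_one_iff w).2 hw, one_mul]

/-- The projection on the complement. -/
noncomputable def pr : G →* A.L :=
  (MulEquiv.ofBijective _ A.proj_bij).symm.toMonoidHom.comp (QuotientGroup.mk' A.W)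

/-- The linear characters of the derived group as a module for the complement. -/
noncomputable def rho : A.L →* MulAut (A.W →* ℂˣ) where
  toFun l :=
    { toFun := fun v => RelDeg.twHom A.W v (l : G)⁻¹
      invFun := fun v => RelDeg.twHom A.W v (l : G)
      left_inv := fun v => MonoidHom.ext fun w => congrArg v (Subtype.ext (by simp [mul_assoc]))
      right_inv := fun v => MonoidHom.ext fun w => congrArg v (Subtype.ext (by simp [mul_assoc]))
      map_mul' := fun v v' => rfl }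
  map_one' := MulEquiv.ext fun v => MonoidHom.ext fun w => congrArg v (Subtype.ext (by simp))
  map_mul' a b := MulEquiv.ext fun v => MonoidHom.ext fun w =>
    congrArg v (Subtype.ext (by simp [mul_assoc]))

theorem rho_apply (l : A.L) (v : A.W →* ℂˣ) : A.rho l v = RelDeg.twHom A.W v (l : G)⁻¹ := rfl

include A

theorem mem_fixS_iff {v : A.W →* ℂˣ} {l : A.L} :
    l ∈ fixS A.rho v ↔ (l : G) ∈ inertia A.W (RelDeg.lin v) := by
  constructor
  · intro h
    have h1 := Subgroup.inv_mem _ ((RelDeg.mem_inertia_lin A.W (L := v)).2 (mem_fixS.1 h))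
    rwa [inv_inv] at h1
  · intro h
    exact mem_fixS.2 ((RelDeg.mem_inertia_lin A.W).1 (inv_mem h))

theorem pr_coe (l : A.L) : A.pr l = l :=
  (MulEquiv.ofBijective _ A.proj_bij).symm_apply_apply l

theorem pr_ker {g : G} : A.pr g = 1 ↔ g ∈ A.W := by
  constructor
  · intro h
    refine (QuotientGroup.eq_one_iff g).1 ?_
    exact (MulEquiv.ofBijective _ A.proj_bij).symm.map_eq_one_iff.1 h
  · intro h
    show (MulEquiv.ofBijective _ A.proj_bij).symm (QuotientGroup.mk' A.W g) = 1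
    rw [show QuotientGroup.mk' A.W g = 1 from (QuotientGroup.eq_one_iff g).2 h, map_one]

theorem pr_spec (g : G) : g * (A.pr g : G)⁻¹ ∈ A.W := by
  rw [← A.pr_ker, map_mul, map_inv, pr_coe, mul_inv_cancel]

theorem W_le_N : A.W ≤ S.N := Subgroup.commutator_le_left S.N S.N

theorem pr_mem_N {g : G} (hg : g ∈ S.N) : (A.pr g : G) ∈ S.N := by
  have h := mul_mem (inv_mem (A.W_le_N (A.pr_spec g))) hg
  rwa [mul_inv_rev, inv_inv, inv_mul_cancel_right] at h

theorem mem_N_of_pr {g : G} (hg : (A.pr g : G) ∈ S.N) : g ∈ S.N := by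
  have h := mul_mem (A.W_le_N (A.pr_spec g)) hg
  rwa [inv_mul_cancel_right] at h

theorem pr_surj : Function.Surjective A.pr := fun l => ⟨l, A.pr_coe l⟩

theorem mem_inertia_pr {θ : A.W → ℂ} (hθ : IsClassFunction A.W θ) (g : G) :
    g ∈ inertia A.W θ ↔ (A.pr g : G) ∈ inertia A.W θ := by
  have hw := le_inertia A.W hθ (A.pr_spec g)
  constructor
  · intro h
    have h2 := mul_mem (inv_mem hw) h
    rwa [mul_inv_rev, inv_inv, inv_mul_cancel_right] at h2
  · intro h
    have h2 := mul_mem hw h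
    rwa [inv_mul_cancel_right] at h2

theorem index_inertia {θ : A.W → ℂ} (hθ : IsClassFunction A.W θ) :
    (inertia A.W θ).index = ((inertia A.W θ).subgroupOf A.L).index := by
  rw [← Subgroup.index_comap_of_surjective ((inertia A.W θ).subgroupOf A.L) A.pr_surj]
  congr 1
  ext g
  rw [Subgroup.mem_comap, Subgroup.mem_subgroupOf, A.mem_inertia_pr hθ]

theorem fixS_eq (v : A.W →* ℂˣ) :
    fixS A.rho v = (inertia A.W (RelDeg.lin v)).subgroupOf A.L := by
  ext l
  rw [A.mem_fixS_iff, Subgroup.mem_subgroupOf]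

theorem x_fpf_surj (w : A.W) : ∃ u : A.W, w = u⁻¹ * MulAut.conjNormal A.x u := by
  have hinj : Function.Injective (fun u : A.W => u⁻¹ * MulAut.conjNormal A.x u) := by
    intro a b e
    have e1 : (a : G)⁻¹ * (A.x * a * A.x⁻¹) = (b : G)⁻¹ * (A.x * b * A.x⁻¹) := by
      simpa using congrArg Subtype.val e
    have e2 : A.x * ((b : G) * (a : G)⁻¹) = ((b : G) * (a : G)⁻¹) * A.x := by
      calc A.x * ((b : G) * (a : G)⁻¹) = A.x * b * A.x⁻¹ * (A.x * a * A.x⁻¹)⁻¹ * A.x := by group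
        _ = b * ((b : G)⁻¹ * (A.x * b * A.x⁻¹)) * ((a : G)⁻¹ * (A.x * a * A.x⁻¹))⁻¹ * (a : G)⁻¹ *
            A.x := by group
        _ = _ := by rw [← e1]; group
    exact Subtype.ext (mul_inv_eq_one.1 (A.fpf _ (mul_mem b.2 (inv_mem a.2)) e2)).symm
  obtain ⟨u, hu⟩ := (Finite.injective_iff_bijective.mp hinj).2 w
  exact ⟨u, hu.symm⟩

theorem eq_one_of_x_fixed {v : A.W →* ℂˣ} (h : A.x ∈ inertia A.W (RelDeg.lin v)) : v = 1 := by
  refine MonoidHom.ext fun w => ?_
  obtain ⟨u, rfl⟩ := A.x_fpf_surj w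
  have h1 := DFunLike.congr_fun ((RelDeg.mem_inertia_lin A.W).1 h) u
  rw [MonoidHom.one_apply, map_mul, map_inv, show v (MulAut.conjNormal A.x u) = v u from h1,
    inv_mul_cancel]

/-- Stabilisers of non-trivial linear characters. -/
theorem fix_facts [Fintype A.W] {v : A.W →* ℂˣ} (hv : v ≠ 1) :
    (fixS A.rho v).index ∈ charDegrees G ∧ (fixS A.rho v).index ≠ 1 ∧
      (∀ a ∈ fixS A.rho v, ∀ b ∈ fixS A.rho v, a * b = b * a) ∧
      ∀ χ : IrrCharacter G, classInner (fun w : A.W => (χ : G → ℂ) w) (RelDeg.lin v) ≠ 0 →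
        charDegree (χ : G → ℂ) = (fixS A.rho v).index := by
  classical
  have hθ := RelDeg.isIrr_lin A.W v
  set I := inertia A.W (RelDeg.lin v) with hI
  have hWI : A.W ≤ I := le_inertia A.W hθ.isClassFunction
  haveI := Fintype.ofFinite I
  set F := fixS A.rho v with hF
  have hidx : I.index = F.index := by rw [hF, A.fixS_eq, hI, ← A.index_inertia hθ.isClassFunction]
  -- the extension
  have hprI : ∀ i : I, (A.pr i : G) ∈ I := fun i => (A.mem_inertia_pr hθ.isClassFunction i).1 i.2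
  let ext : I →* ℂˣ := MonoidHom.mk' (fun i => v ⟨(i : G) * (A.pr i : G)⁻¹, A.pr_spec i⟩)
    fun i j => by
      have hmem : (A.pr i : G) * ((j : G) * (A.pr j : G)⁻¹) * (A.pr i : G)⁻¹ ∈ A.W :=
        (A.normal_W).conj_mem _ (A.pr_spec j) _
      have e : (⟨((i * j : I) : G) * (A.pr (i * j : I) : G)⁻¹, A.pr_spec _⟩ : A.W) =
          ⟨(i : G) * (A.pr i : G)⁻¹, A.pr_spec i⟩ * ⟨_, hmem⟩ := Subtype.ext (by
        simp only [Subgroup.coe_mul, map_mul, mul_inv_rev]; group)
      rw [e, map_mul]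
      congr 1
      have h1 := DFunLike.congr_fun ((RelDeg.mem_inertia_lin A.W).1 (hprI i))
        ⟨(j : G) * (A.pr j : G)⁻¹, A.pr_spec j⟩
      rw [← h1]
      exact congrArg v (Subtype.ext (by simp [mul_assoc]))
  have hres : ∀ w : A.W, ((ext ⟨w, hWI w.2⟩ : ℂˣ) : ℂ) = RelDeg.lin v w := fun w => by
    refine congrArg (fun z => ((v z : ℂˣ) : ℂ)) (Subtype.ext ?_)
    show (w : G) * (A.pr (w : G) : G)⁻¹ = w
    rw [A.pr_ker.2 w.2]
    simp
  let q : I →* F := (A.pr.comp I.subtype).codRestrict F fun i => A.mem_fixS_iff.2 (hprI i)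
  have hqs : Function.Surjective q := fun l => ⟨⟨(l : A.L), A.mem_fixS_iff.1 l.2⟩,
    Subtype.ext (A.pr_coe l)⟩
  have hdeg : ∀ β : IrrCharacter F, F.index * charDegree (β : F → ℂ) ∈ charDegrees G := by
    intro β
    have hψ := isIrrCharacter_mul_linear (β.2.comp_surjective q hqs) ext
    have hne : classInner (fun w : A.W =>
        (fun i : I => (β : F → ℂ) (q i) * (ext i : ℂ)) ⟨w, hWI w.2⟩) (RelDeg.lin v) ≠ 0 := by
      have e : (fun w : A.W => (fun i : I => (β : F → ℂ) (q i) * (ext i : ℂ)) ⟨w, hWI w.2⟩) =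
          (β : F → ℂ) 1 • RelDeg.lin v := by
        funext w
        show (β : F → ℂ) (q ⟨w, hWI w.2⟩) * (ext ⟨w, hWI w.2⟩ : ℂ) = _
        rw [hres, show q ⟨w, hWI w.2⟩ = 1 from Subtype.ext (A.pr_ker.2 w.2)]
        rfl
      rw [e, classInner_smul_left, classInner_irr_self hθ, mul_one]
      exact β.2.apply_one_ne_zero
    obtain ⟨hirr, -⟩ := clifford_induce A.W hθ hWI hI hψ hne
    refine ⟨⟨_, hirr⟩, charDegree_of_one_eq ?_⟩
    show indFun I (fun i : I => (β : F → ℂ) (q i) * (ext i : ℂ)) 1 = _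
    rw [indFun_apply_one, hidx]
    show _ * ((β : F → ℂ) (q 1) * (ext 1 : ℂ)) = _
    rw [map_one, map_one, Units.val_one, mul_one, β.2.apply_one_eq_charDegree]
    push_cast
    rfl
  have hne1 : F.index ≠ 1 := fun e => hv (A.eq_one_of_x_fixed
    (A.mem_fixS_iff.1 (Subgroup.index_eq_one.1 e ▸ Subgroup.mem_top _ : (⟨A.x, A.xmem.2⟩ : A.L) ∈ F)))
  have hmem : F.index ∈ charDegrees G := by
    have h := hdeg ⟨_, isIrrCharacter_one⟩
    rwa [show charDegree ((⟨_, isIrrCharacter_one⟩ : IrrCharacter F) : F → ℂ) = 1 by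
      simp [charDegree], mul_one] at h
  have hlin : ∀ β : IrrCharacter F, charDegree (β : F → ℂ) = 1 := fun β =>
    (Nat.mul_eq_left Subgroup.index_ne_zero_of_finite).1
      (S.eq_of_dvd hmem (hdeg β) hne1 (dvd_mul_right _ _)).symm
  have hcomm : ∀ a ∈ F, ∀ b ∈ F, a * b = b * a := fun a ha b hb => by
    have h1 := Subgroup.commutator_mem_commutator (Subgroup.mem_top (⟨a, ha⟩ : F))
      (Subgroup.mem_top (⟨b, hb⟩ : F))
    rw [← commutator_def, commutator_eq_bot_of_linear hlin, Subgroup.mem_bot,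
      commutatorElement_eq_one_iff_mul_comm] at h1
    exact congrArg Subtype.val h1
  refine ⟨hmem, hne1, hcomm, fun χ hχ => charDegree_of_one_eq ?_⟩
  rw [apply_one_of_abelian_inertia A.W hθ hI hWI (isIrrCharacter_linear ext) hres (fun a ha b hb => by
    rw [← A.pr_ker, map_mul, map_mul, map_mul, map_inv, map_inv,
      hcomm _ (A.mem_fixS_iff.2 (hprI ⟨a, ha⟩)) _ (A.mem_fixS_iff.2 (hprI ⟨b, hb⟩))]
    group) χ hχ, hidx]
  simp [RelDeg.lin]

theorem x_mem_HL : (⟨A.x, A.xmem.2⟩ : A.L) ∈ A.HL := A.xmem.1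

theorem index_HL : A.HL.index = S.N.index := by
  rw [← Subgroup.index_comap_of_surjective A.HL A.pr_surj]
  congr 1
  ext g
  rw [Subgroup.mem_comap, Subgroup.mem_subgroupOf]
  exact ⟨A.mem_N_of_pr, A.pr_mem_N⟩

theorem HL_comm : ∀ a ∈ A.HL, ∀ b ∈ A.HL, a * b = b * a := fun a ha b hb =>
  Subtype.ext (A.comm _ ⟨ha, a.2⟩ _ ⟨hb, b.2⟩)

/-- An element of the abelian part centralised by one outside element is central. -/
theorem centfix_aux : ∀ g ∉ A.HL, ∀ h ∈ A.HL, g * h = h * g → ∀ y : A.L, y * h = h * y := by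
  classical
  haveI := S.isCyclic_quot
  obtain ⟨z, hz⟩ := IsCyclic.exists_generator (α := G ⧸ S.N)
  obtain ⟨γ, rfl⟩ := QuotientGroup.mk_surjective z
  set γ₀ := A.pr γ with hγ₀
  haveI : A.HL.Normal := S.normalN.subgroupOf A.L
  have hconj : ∀ (y : A.L) (h : A.HL), y * (h : A.L) * y⁻¹ ∈ A.HL := fun y h =>
    Subgroup.Normal.conj_mem inferInstance _ h.2 y
  let δ : A.L → (A.HL →* A.HL) := fun y => MonoidHom.mk'
    (fun h => ⟨y * h * y⁻¹ * (h : A.L)⁻¹, mul_mem (hconj y h) (inv_mem h.2)⟩) fun a b => Subtype.ext (by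
      show y * (a * b : A.L) * y⁻¹ * ((a : A.L) * b)⁻¹ = y * a * y⁻¹ * (a : A.L)⁻¹ *
        (y * b * y⁻¹ * (b : A.L)⁻¹)
      calc y * ((a : A.L) * b) * y⁻¹ * ((a : A.L) * b)⁻¹
          = y * a * y⁻¹ * ((y * b * y⁻¹ * (b : A.L)⁻¹) * (a : A.L)⁻¹) := by group
        _ = y * a * y⁻¹ * ((a : A.L)⁻¹ * (y * b * y⁻¹ * (b : A.L)⁻¹)) := by
            rw [A.HL_comm _ (mul_mem (hconj y b) (inv_mem b.2)) _ (inv_mem a.2)]
        _ = _ := by group)
  -- one displacement group contains the other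
  have hle : ∀ g ∉ A.HL, (δ γ₀).range ≤ (δ g).range := by
    intro g hg
    letI : CommGroup A.HL := { (inferInstance : Group A.HL) with
      mul_comm := fun a b => Subtype.ext (A.HL_comm a a.2 b b.2) }
    set R := (δ g).range
    haveI : R.Normal := ⟨fun a ha b => by rwa [mul_comm b, mul_inv_cancel_right]⟩
    rintro _ ⟨h, rfl⟩
    refine (QuotientGroup.eq_one_iff _).1 ?_
    haveI := Fintype.ofFinite (A.HL ⧸ R)
    refine eq_one_of_forall_hom (fun a b => mul_comm a b) fun χ => ?_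
    let pN : S.N →* A.HL := (A.pr.comp S.N.subtype).codRestrict _ fun n => A.pr_mem_N n.2
    let Lc : S.N →* ℂˣ := (χ.comp (QuotientGroup.mk' R)).comp pN
    have key : ∀ (y : A.L) (n : S.N),
        Lc (MulAut.conjNormal (y : G) n) = χ (QuotientGroup.mk' R (δ y (pN n))) * Lc n := by
      intro y n
      show χ (QuotientGroup.mk' R (pN (MulAut.conjNormal (y : G) n))) =
        χ (QuotientGroup.mk' R (δ y (pN n))) * χ (QuotientGroup.mk' R (pN n))
      rw [← map_mul χ, ← map_mul]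
      refine congrArg (fun z => χ (QuotientGroup.mk' R z)) (Subtype.ext ?_)
      show A.pr (MulAut.conjNormal (y : G) n : S.N) = y * A.pr n * y⁻¹ * (A.pr n)⁻¹ * A.pr n
      rw [MulAut.conjNormal_apply, map_mul, map_mul, map_inv, pr_coe, inv_mul_cancel_right]
    have hfix : ∀ n, Lc (MulAut.conjNormal (g : G) n) = Lc n := fun n => by
      rw [key, show QuotientGroup.mk' R (δ g (pN n)) = 1 from
        (QuotientGroup.eq_one_iff _).2 ⟨_, rfl⟩, map_one, one_mul]
    have h1 := S.lin_fix Lc (fun hgN => hg hgN) hfix (γ₀ : G) ⟨((h : A.L) : G), h.2⟩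
    rw [key, mul_eq_right] at h1
    have e : pN ⟨((h : A.L) : G), h.2⟩ = h := Subtype.ext (A.pr_coe (h : A.L))
    rwa [e] at h1
  intro g hg h hh hgh y
  have hgen : ∀ y : A.L, ∃ t ∈ A.HL, ∃ k : ℕ, y = t * γ₀ ^ k := by
    intro y
    obtain ⟨k, hk⟩ := Submonoid.mem_powers_iff _ _ |>.1
      (mem_powers_iff_mem_zpowers.2 (hz ((y : G) : G ⧸ S.N)))
    refine ⟨y * (γ₀ ^ k)⁻¹, ?_, k, by group⟩
    rw [Subgroup.mem_subgroupOf]
    have e : y * (γ₀ ^ k)⁻¹ = A.pr ((y : G) * (γ ^ k)⁻¹) := by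
      rw [map_mul, map_inv, map_pow, pr_coe]
    rw [e]
    refine A.pr_mem_N ((QuotientGroup.eq_one_iff _).1 ?_)
    rw [QuotientGroup.mk_mul, QuotientGroup.mk_inv, QuotientGroup.mk_pow, hk, mul_inv_cancel]
  have hkerle : (δ γ₀).ker ≤ (δ g).ker := by
    intro t ht
    rw [MonoidHom.mem_ker] at ht ⊢
    have hc : γ₀ * (t : A.L) = t * γ₀ :=
      mul_inv_eq_iff_eq_mul.1 (mul_inv_eq_one.1 (congrArg Subtype.val ht))
    refine Subtype.ext (mul_inv_eq_one.2 (mul_inv_eq_iff_eq_mul.2 ?_))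
    obtain ⟨s, hs, k, rfl⟩ := hgen g
    rw [mul_assoc, ((show Commute γ₀ (t : A.L) from hc).pow_left k).eq, ← mul_assoc,
      A.HL_comm s hs _ t.2, mul_assoc]
  have hcard : Nat.card (δ g).ker ≤ Nat.card (δ γ₀).ker := by
    have e1 := Subgroup.card_mul_index (δ g).ker
    have e2 := Subgroup.card_mul_index (δ γ₀).ker
    rw [Subgroup.index_ker] at e1 e2
    have h1 := Nat.le_of_dvd Nat.card_pos (Subgroup.card_dvd_of_le (hle g hg))
    have h2 : Nat.card (δ γ₀).ker * Nat.card (δ γ₀).range ≤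
        Nat.card (δ γ₀).ker * Nat.card (δ g).range := Nat.mul_le_mul_left _ h1
    rw [e2, ← e1] at h2
    exact Nat.le_of_mul_le_mul_right h2 Nat.card_pos
  have hmem : (⟨h, hh⟩ : A.HL) ∈ (δ g).ker :=
    MonoidHom.mem_ker.2 (Subtype.ext (mul_inv_eq_one.2 (mul_inv_eq_iff_eq_mul.2 hgh)))
  rw [← Subgroup.eq_of_le_of_card_ge hkerle hcard, MonoidHom.mem_ker] at hmem
  have hc : γ₀ * h = h * γ₀ :=
    mul_inv_eq_iff_eq_mul.1 (mul_inv_eq_one.1 (congrArg Subtype.val hmem))
  obtain ⟨s, hs, k, rfl⟩ := hgen y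
  rw [mul_assoc, ((show Commute γ₀ h from hc).pow_left k).eq, ← mul_assoc, A.HL_comm s hs h hh,
    mul_assoc]

/-- The frame. -/
theorem exists_frame (hW : ∃ v : A.W →* ℂˣ, v ≠ 1) :
    ∃ F : Frame A.L (A.W →* ℂˣ), F.ρ = A.rho ∧ F.H = A.HL := by
  classical
  haveI := Fintype.ofFinite A.W
  haveI := S.isCyclic_quot
  haveI : Finite (A.W →* ℂˣ) := Nat.finite_of_card_ne_zero
    (by rw [card_linear_eq_index]; exact Subgroup.index_ne_zero_of_finite)
  obtain ⟨z, hz⟩ := IsCyclic.exists_generator (α := G ⧸ S.N)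
  obtain ⟨γ, rfl⟩ := QuotientGroup.mk_surjective z
  haveI hn : A.HL.Normal := S.normalN.subgroupOf A.L
  obtain ⟨ymov, hy, hymov⟩ := A.xmov
  have hqV : ¬ S.q ∣ Nat.card (A.W →* ℂˣ) := by
    rw [card_linear_eq_index]
    intro h
    exact S.hq.ne_one (Nat.dvd_one.1 (D.cop.gcd_eq_one ▸ Nat.dvd_gcd
      ((h.trans (Subgroup.index_dvd_card _)).trans (Subgroup.card_dvd_of_le A.le_M)) dvd_rfl))
  have hidx := A.index_HL
  have hstab : ∀ v : A.W →* ℂˣ, v ≠ 1 → (∃ g ∉ A.HL, A.rho g v = v) ∧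
      ¬ A.HL.index ∣ (fixS A.rho v).index := by
    intro v hv
    obtain ⟨hmem, hne1, -, -⟩ := A.fix_facts hv
    have hnd : ¬ A.HL.index ∣ (fixS A.rho v).index := by
      intro h
      rw [hidx] at h
      have he := S.eq_of_dvd S.index_mem hmem S.one_lt_index.ne' h
      refine S.not_dvd_index (he ▸ ?_)
      -- the index in the abelian part is divisible by `q`
      have hxnot : (⟨⟨A.x, A.xmem.2⟩, A.x_mem_HL⟩ : A.HL) ∉ (fixS A.rho v).subgroupOf A.HL :=
        fun hm => hv (A.eq_one_of_x_fixed (A.mem_fixS_iff.1 (Subgroup.mem_subgroupOf.1 hm)))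
      haveI : ((fixS A.rho v).subgroupOf A.HL).Normal := ⟨fun a ha b => by
        rwa [show b * a * b⁻¹ = a from Subtype.ext (by
          show (b : A.L) * a * (b : A.L)⁻¹ = a
          rw [A.HL_comm _ b.2 _ a.2, mul_inv_cancel_right])]⟩
      haveI := Fact.mk S.hq
      have ho : orderOf (QuotientGroup.mk' ((fixS A.rho v).subgroupOf A.HL)
          ⟨⟨A.x, A.xmem.2⟩, A.x_mem_HL⟩) = S.q := by
        refine orderOf_eq_prime ?_ fun e => hxnot ((QuotientGroup.eq_one_iff _).1 e)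
        rw [← map_pow, show (⟨⟨A.x, A.xmem.2⟩, A.x_mem_HL⟩ : A.HL) ^ S.q = 1 from
          Subtype.ext (Subtype.ext (by simpa using A.xq)), map_one]
      have h1 : S.q ∣ (fixS A.rho v).relIndex A.HL := by
        rw [← ho, Subgroup.relIndex, Subgroup.index_eq_card]; exact orderOf_dvd_natCard _
      refine h1.trans ?_
      rw [← Subgroup.inf_relIndex_right]
      have h2 : (fixS A.rho v ⊓ A.HL).relIndex A.HL ∣ (fixS A.rho v).index := by
        have e1 : (A.HL ⊓ fixS A.rho v).index = A.HL.relIndex (fixS A.rho v) * (fixS A.rho v).index := by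
          rw [← Subgroup.inf_relIndex_right, Subgroup.relIndex_mul_index inf_le_right]
        have e2 : (A.HL ⊓ fixS A.rho v).index =
            (fixS A.rho v ⊓ A.HL).relIndex A.HL *
              (A.HL.relIndex (fixS A.rho v) * (A.HL ⊔ fixS A.rho v).index) := by
          rw [← Subgroup.relIndex_sup_right (H := fixS A.rho v) (K := A.HL),
            sup_comm (fixS A.rho v), Subgroup.relIndex_mul_index le_sup_left, inf_comm (fixS A.rho v),
            Subgroup.relIndex_mul_index inf_le_left]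
        rw [e1, mul_left_comm] at e2
        exact ⟨_, Nat.eq_of_mul_eq_mul_left (Nat.pos_of_ne_zero Subgroup.index_ne_zero_of_finite) e2⟩
      exact h2
    refine ⟨?_, hnd⟩
    by_contra h
    push Not at h
    exact hnd (Subgroup.index_dvd_of_le fun g hg => by_contra fun hgH => h g hgH hg)
  refine ⟨
    { ρ := A.rho
      H := A.HL
      normal := hn
      comm := A.HL_comm
      g₀ := A.pr γ
      gen := fun y => by
        obtain ⟨k, hk⟩ := Submonoid.mem_powers_iff _ _ |>.1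
          (mem_powers_iff_mem_zpowers.2 (hz ((y : G) : G ⧸ S.N)))
        refine ⟨y * (A.pr γ ^ k)⁻¹, ?_, k, by group⟩
        rw [Subgroup.mem_subgroupOf, show y * (A.pr γ ^ k)⁻¹ = A.pr ((y : G) * (γ ^ k)⁻¹) by
          rw [map_mul, map_inv, map_pow, pr_coe]]
        refine A.pr_mem_N ((QuotientGroup.eq_one_iff _).1 ?_)
        rw [QuotientGroup.mk_mul, QuotientGroup.mk_inv, QuotientGroup.mk_pow, hk, mul_inv_cancel]
      centfix := A.centfix_aux
      q := S.q
      hq := S.hq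
      x := ⟨A.x, A.xmem.2⟩
      hx := A.x_mem_HL
      hxq := Subtype.ext (by simpa using A.xq)
      hxmov := ⟨⟨ymov, hy⟩, fun e => hymov (congrArg Subtype.val e)⟩
      hqV := hqV
      hqf := hidx ▸ S.not_dvd_index
      nontriv := hW
      stabCentral := fun v hv h hh he => by
        obtain ⟨g, hg, hgv⟩ := (hstab v hv).1
        exact A.centfix_aux g hg h hh ((A.fix_facts hv).2.2.1 g hgv h he)
      stabOut := fun v hv => (hstab v hv).1
      anti := fun v v' hv hv' h =>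
        S.eq_of_dvd (A.fix_facts hv).1 (A.fix_facts hv').1 (A.fix_facts hv).2.1 h
      notdvd := fun v hv => (hstab v hv).2 }, rfl, rfl⟩

end Cfsg.Lib.Char.Ndad.Abel
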