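import Cfsg.Agent.Lib.Char.Ndad.AbelianFrame
import Cfsg.Agent.Lib.Char.SectionParity.Reduce
import Cfsg.Agent.Lib.Char.LinearExt
import Cfsg.Agent.Lib.Char.AbelianInertia
import Cfsg.Agent.Lib.Char.Formulas

/-!
# An element of the abelian part fixing a non-linear character commutes with an outside element
-/

set_option autoImplicit false
set_option linter.unusedSectionVars false
set_option linter.style.haveILetI false
set_option maxHeartbeats 1000000

namespace Cfsg.Lib.Char.Ndad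

open Cfsg Cfsg.Lib.Char

universe u

/-- Endomorphisms with the same effect on a character have the same effect on the determinant. -/
theorem detHom_comp_eq {X : Type u} [Group X] [Fintype X] {m : ℕ}
    (σ : Representation ℂ X (Fin m → ℂ)) (c c' : X →* X)
    (h : ∀ x, σ.character (c x) = σ.character (c' x)) (x : X) :
    detHom σ (c x) = detHom σ (c' x) := by
  obtain ⟨φ⟩ := nonempty_equiv_of_character_eq (σ.comp c) (σ.comp c') (funext h)
  exact Units.ext (det_eq_of_equiv φ x).symm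

/-- A finite cyclic group embeds in the multiplicative group of `ℂ`. -/
theorem exists_injective_units (X : Type u) [Group X] [Finite X] [hX : IsCyclic X] :
    ∃ χ : X →* ℂˣ, Function.Injective χ := by
  obtain ⟨a, ha⟩ := hX.exists_generator
  obtain ⟨z, hz⟩ : ∃ z : ℂˣ, orderOf z = Nat.card X := by
    have h := Complex.isPrimitiveRoot_exp (Nat.card X) Nat.card_pos.ne'
    exact ⟨(h.isUnit Nat.card_pos.ne').unit, by
      rw [← orderOf_units, IsUnit.unit_spec, ← h.eq_orderOf]⟩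
  have ho : orderOf a = Nat.card X := orderOf_eq_card_of_forall_mem_zpowers ha
  refine ⟨monoidHomOfForallMemZpowers ha (g' := z) (by rw [hz, ho]),
    (injective_iff_map_eq_one _).2 fun y hy => ?_⟩
  obtain ⟨k, rfl⟩ := Subgroup.mem_zpowers_iff.1 (ha y)
  rw [map_zpow, monoidHomOfForallMemZpowers_apply_gen, ← orderOf_dvd_iff_zpow_eq_one, hz, ← ho,
    orderOf_dvd_iff_zpow_eq_one] at hy
  exact hy

/-- `isIrrCharacter_resTo` without normality. -/
theorem isIrr_resTo' {X : Type u} [Group X] [Finite X] {H T : Subgroup X} {θ : H → ℂ}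
    (hθ : IsIrrCharacter H θ) (hHT : H ≤ T) : IsIrrCharacter (H.subgroupOf T) (resTo H θ T) :=
  isIrrCharacter_comp_equiv (Subgroup.subgroupOfEquivOfLe hHT) hθ

/-- `classInner_resTo` without normality. -/
theorem classInner_resTo' {X : Type u} [Group X] [Finite X] {H T : Subgroup X} [Fintype H]
    [Fintype (H.subgroupOf T)] (θ : H → ℂ) (hHT : H ≤ T) (f : T → ℂ) :
    classInner (fun x : H.subgroupOf T => f x) (resTo H θ T) =
      classInner (fun h : H => f ⟨h, hHT h.2⟩) θ :=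
  classInner_comp_equiv (Subgroup.subgroupOfEquivOfLe hHT) (fun h : H => f ⟨h, hHT h.2⟩) θ

namespace Abel

variable {G : Type u} [Group G] {S : Setup G} {D : Sect S} (A : Abel D) [Fintype G]

theorem exists_outer_commute [Fintype A.W] (θ : IrrCharacter A.W)
    (hθ1 : charDegree (θ : A.W → ℂ) ≠ 1)
    (hcop : ∀ h ∈ A.HL, (orderOf (A.rho h)).Coprime (Nat.card A.W))
    (hcyc : IsCyclic (A.HL.map A.rho)) {h : A.L} (hh : h ∈ A.HL)
    (hhθ : (h : G) ∈ inertia A.W (θ : A.W → ℂ)) :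
    ∃ g ∉ A.HL, A.rho g * A.rho h = A.rho h * A.rho g := by
  classical
  haveI := Fintype.ofFinite S.N
  set T : Subgroup A.L := (inertia A.W (θ : A.W → ℂ)).subgroupOf A.L ⊓ A.HL with hT
  set M := Nat.card A.W ^ Nat.card A.L with hM
  let U : Subgroup A.L :=
    { carrier := {u | ∃ t ∈ T, t ^ M = u}
      one_mem' := ⟨1, one_mem _, one_pow _⟩
      mul_mem' := by
        rintro _ _ ⟨a, ha, rfl⟩ ⟨b, hb, rfl⟩
        exact ⟨a * b, mul_mem ha hb,
          (show Commute a b from A.HL_comm a ha.2 b hb.2).mul_pow M⟩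
      inv_mem' := by
        rintro _ ⟨a, ha, rfl⟩
        exact ⟨a⁻¹, inv_mem ha, inv_pow _ _⟩ }
  have hUT : U ≤ T := by
    rintro _ ⟨t, ht, rfl⟩
    exact pow_mem ht _
  have hUcop : (Nat.card U).Coprime (Nat.card A.W) := by
    refine Nat.coprime_of_dvd fun p hp hpU hpW => ?_
    haveI := Fact.mk hp
    obtain ⟨⟨u, t, ht, rfl⟩, hu⟩ := exists_prime_orderOf_dvd_card' p hpU
    obtain ⟨a, n, hn, han⟩ :=
      Nat.exists_eq_pow_mul_and_not_dvd (orderOf_pos t).ne' p hp.ne_one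
    refine hn (hu ▸ orderOf_dvd_of_pow_eq_one (Subtype.ext ?_))
    show (t ^ M) ^ n = 1
    rw [← pow_mul, ← orderOf_dvd_iff_pow_eq_one, han]
    refine mul_dvd_mul_right ((pow_dvd_pow_of_dvd hpW a).trans (pow_dvd_pow _ ?_)) n
    calc a ≤ p ^ a := (Nat.lt_pow_self hp.one_lt).le
      _ ≤ p ^ a * n := Nat.le_mul_of_pos_right _ (Nat.pos_of_ne_zero fun e => hn (e ▸ dvd_zero p))
      _ = orderOf t := han.symm
      _ ≤ _ := Nat.le_of_dvd Nat.card_pos (orderOf_dvd_natCard t)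
  obtain ⟨k, hk⟩ := exists_pow_eq_self_of_coprime (x := A.rho h) (n := M)
    ((hcop h hh).symm.pow_left _)
  set u₀ : A.L := (h ^ M) ^ k with hu₀
  have hu₀U : u₀ ∈ U := pow_mem (show h ^ M ∈ U from ⟨h, ⟨hhθ, hh⟩, rfl⟩) k
  have hu₀ρ : A.rho u₀ = A.rho h := by rw [hu₀, map_pow, map_pow, hk]
  -- the subgroup over `U`
  set J : Subgroup G := U.comap A.pr with hJ
  have hJN : J ≤ S.N := fun j hj => A.mem_N_of_pr (hUT hj).2
  have hWJ : A.W ≤ J := fun w hw => by
    show A.pr w ∈ U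
    rw [A.pr_ker.2 hw]
    exact one_mem _
  have hJconj : ∀ n ∈ S.N, ∀ j ∈ J, n * j * n⁻¹ ∈ J := fun n hn j hj => by
    show A.pr (n * j * n⁻¹) ∈ U
    rw [map_mul, map_mul, map_inv,
      A.HL_comm _ (A.pr_mem_N hn) _ (hUT hj).2, mul_inv_cancel_right]
    exact hj
  haveI : (A.W.subgroupOf J).Normal := A.normal_W.subgroupOf J
  haveI := Fintype.ofFinite J
  haveI := Fintype.ofFinite (A.W.subgroupOf J)
  obtain ⟨m, σ, hσ, hσe⟩ := isIrrCharacter_resTo A.W θ.2 hWJ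
  haveI := hσ
  have hidx : (A.W.subgroupOf J).index = Nat.card U := by
    let q : J →* U := (A.pr.comp J.subtype).codRestrict U fun j => j.2
    have hker : q.ker = A.W.subgroupOf J := by
      ext j
      rw [MonoidHom.mem_ker, Subgroup.mem_subgroupOf, ← A.pr_ker]
      exact Subtype.ext_iff
    have hsurj : Function.Surjective q := fun u => ⟨⟨((u : A.L) : G), by
      show A.pr ((u : A.L) : G) ∈ U
      rw [A.pr_coe]; exact u.2⟩, Subtype.ext (A.pr_coe _)⟩
    rw [← hker, Subgroup.index_ker, MonoidHom.range_eq_top.2 hsurj, Subgroup.card_top]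
  have hm : charDegree (θ : A.W → ℂ) = m := charDegree_of_one_eq (by
    have h1 := congrFun hσe 1
    rw [show σ.character 1 = (m : ℂ) by simp] at h1
    exact h1.symm)
  have hdim : Nat.Coprime (A.W.subgroupOf J).index (Module.finrank ℂ (Fin m → ℂ)) := by
    rw [hidx, Module.finrank_fin_fun, ← hm]
    exact hUcop.coprime_dvd_right (charDegree_dvd_card θ.2)
  have hinv : ∀ (j : J) (w : A.W.subgroupOf J),
      σ.character (MulAut.conjNormal j w) = σ.character w := by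
    intro j w
    rw [congrFun hσe, congrFun hσe]
    have h1 := (mem_inertia_iff A.W).1
      ((A.mem_inertia_pr θ.2.isClassFunction (j : G)).2 (hUT j.2).1)
      ⟨((w : J) : G), Subgroup.mem_subgroupOf.1 w.2⟩
    exact Eq.trans (congrArg (θ : A.W → ℂ) (Subtype.ext (by simp))) h1
  obtain ⟨μ₀, hμ₀, hμ₀o⟩ := exists_linear_extension_coprime (detHom σ)
    (fun j w => detHom_comp_eq σ (MulAut.conjNormal j : MulAut (A.W.subgroupOf J)).toMonoidHom (MonoidHom.id _) (hinv j) w)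
    (hidx ▸ hUcop.coprime_dvd_right (by
      refine (orderOf_dvd_of_pow_eq_one (MonoidHom.ext fun w => ?_)).trans
        (dvd_of_eq (Nat.card_congr (Subgroup.subgroupOfEquivOfLe hWJ).toEquiv))
      rw [MonoidHom.pow_apply, ← map_pow, pow_card_eq_one', map_one, MonoidHom.one_apply]))
  have hμ₀U : ∀ (u : A.L) (hu : u ∈ U) (hj : (u : G) ∈ J), μ₀ ⟨(u : G), hj⟩ = 1 := by
    intro u hu hj
    refine RelDeg.eq_one_of_pow_coprime (a := Nat.card U) (b := orderOf μ₀) ?_ ?_ ?_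
    · rw [← map_pow, show (⟨(u : G), hj⟩ : J) ^ Nat.card U = 1 from Subtype.ext
        (congrArg (fun z : U => ((z : A.L) : G)) (pow_card_eq_one' (x := (⟨u, hu⟩ : U)))), map_one]
    · rw [← MonoidHom.pow_apply, pow_orderOf_eq_one, MonoidHom.one_apply]
    · refine hUcop.coprime_dvd_right ?_
      rw [hμ₀o, ← Nat.card_congr (Subgroup.subgroupOfEquivOfLe hWJ).toEquiv]
      refine orderOf_dvd_of_pow_eq_one (MonoidHom.ext fun w => ?_)
      rw [MonoidHom.pow_apply, ← map_pow, pow_card_eq_one', map_one, MonoidHom.one_apply]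
  obtain ⟨χ, hχ⟩ := exists_injective_units (A.HL.map A.rho) (hX := hcyc)
  let ρJ : J →* A.HL.map A.rho := (A.rho.comp (A.pr.comp J.subtype)).codRestrict _
    fun j => Subgroup.mem_map_of_mem _ (hUT j.2).2
  set μ : J →* ℂˣ := μ₀ * χ.comp ρJ with hμ
  have hμW : ∀ w : A.W.subgroupOf J, μ w = detHom σ w := fun w => by
    rw [hμ, MonoidHom.mul_apply, hμ₀, MonoidHom.comp_apply, show ρJ w = 1 from Subtype.ext (by
      show A.rho (A.pr ((w : J) : G)) = 1
      rw [A.pr_ker.2 (Subgroup.mem_subgroupOf.1 w.2), map_one]), map_one, mul_one]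
  obtain ⟨ρ₀, hρ₀⟩ := exists_extension_of_det σ hinv hdim μ₀ hμ₀
  obtain ⟨ρ, hρ, hdet⟩ := exists_extension_det_eq hρ₀ hdim μ hμW
  haveI := isIrreducible_of_extension hρ
  have hη : IsIrrCharacter J ρ.character := isIrrCharacter_character ρ
  -- a character of `N` over the extension
  haveI : (J.subgroupOf S.N).Normal := ⟨fun a ha n => hJconj n n.2 a ha⟩
  haveI := Fintype.ofFinite (J.subgroupOf S.N)
  obtain ⟨ψ, hψ⟩ := RelDeg.exists_over (J.subgroupOf S.N) (isIrr_resTo' hη hJN)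
  have hψ1 : charDegree (ψ : S.N → ℂ) ≠ 1 := by
    intro e
    obtain ⟨c, hc⟩ : ∃ c : ℕ, classInner (fun x : J.subgroupOf S.N => (ψ : S.N → ℂ) x)
        (resTo J ρ.character S.N) = c := (ψ.2.isCharacter.comp (J.subgroupOf S.N).subtype).exists_nat_classInner
      (isIrr_resTo' hη hJN).isCharacter
    have h1 := clifford_degree (J.subgroupOf S.N) ψ.2 (isIrr_resTo' hη hJN) hψ
    rw [ψ.2.apply_one_eq_charDegree, e, hc, show resTo J ρ.character S.N 1 = (m : ℂ) by
      show ρ.character 1 = _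
      simp] at h1
    have h2 : 1 = c * (inertia (J.subgroupOf S.N) (resTo J ρ.character S.N)).index * m := by
      exact_mod_cast h1
    exact hθ1 (hm.trans (Nat.eq_one_of_mul_eq_one_left h2.symm))
  obtain ⟨g, hgN, hg⟩ := S.inertia_ne ψ hψ1
  have hψJ : classInner (fun j : J => (ψ : S.N → ℂ) ⟨(j : G), hJN j.2⟩) ρ.character ≠ 0 := by
    rwa [← classInner_resTo' ρ.character hJN]
  have hψW : classInner (fun w : A.W => (ψ : S.N → ℂ) ⟨(w : G), A.W_le_N w.2⟩)
      (θ : A.W → ℂ) ≠ 0 := by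
    refine SectionParity.classInner_ne_zero_trans (Subgroup.inclusion hWJ)
      (f := fun j : J => (ψ : S.N → ℂ) ⟨(j : G), hJN j.2⟩)
      (ψ.2.isCharacter.comp (Subgroup.inclusion hJN)) hη hψJ θ.2 ?_
    rw [show (fun w : A.W => ρ.character (Subgroup.inclusion hWJ w)) = (θ : A.W → ℂ) from
      funext fun w => by
        have h1 := congrFun hσe ⟨⟨(w : G), hWJ w.2⟩, Subgroup.mem_subgroupOf.2 w.2⟩
        refine Eq.trans ?_ h1
        exact congrArg (fun f => LinearMap.trace ℂ _ f)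
          (hρ ⟨⟨(w : G), hWJ w.2⟩, Subgroup.mem_subgroupOf.2 w.2⟩),
      classInner_irr_self θ.2]
    exact one_ne_zero
  -- an outside element fixing both characters
  haveI : (A.W.subgroupOf S.N).Normal := A.normal_W.subgroupOf S.N
  haveI := Fintype.ofFinite (A.W.subgroupOf S.N)
  have hψg : classInner (fun w : A.W => (ψ : S.N → ℂ) ⟨(w : G), A.W_le_N w.2⟩)
      (conjTwist A.W (θ : A.W → ℂ) g) ≠ 0 := by
    have e : conjTwist A.W (fun w : A.W => (ψ : S.N → ℂ) ⟨(w : G), A.W_le_N w.2⟩) g =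
        fun w : A.W => (ψ : S.N → ℂ) ⟨(w : G), A.W_le_N w.2⟩ := funext fun w => by
      rw [conjTwist_apply]
      exact (mem_inertia_iff S.N).1 hg ⟨(w : G), A.W_le_N w.2⟩
    rwa [← e, classInner_conjTwist]
  obtain ⟨n, hn⟩ := (mem_twistOrbit _).1 (mem_twistOrbit_of_constituent (A.W.subgroupOf S.N) ψ.2
    (isIrrCharacter_resTo A.W θ.2 A.W_le_N)
    (isIrrCharacter_resTo A.W (isIrrCharacter_conjTwist A.W θ.2 g) A.W_le_N)
    (by rwa [classInner_resTo A.W _ A.W_le_N]) (by rwa [classInner_resTo A.W _ A.W_le_N]))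
  have hgn : conjTwist A.W (θ : A.W → ℂ) g = conjTwist A.W (θ : A.W → ℂ) (n : G) := by
    funext w
    exact (congrFun hn ⟨⟨(w : G), A.W_le_N w.2⟩, Subgroup.mem_subgroupOf.2 w.2⟩).symm
  set y : G := g * (n : G)⁻¹ with hy
  have hyθ : y ∈ inertia A.W (θ : A.W → ℂ) := by
    rw [mem_inertia, hy, ← conjTwist_conjTwist, hgn, conjTwist_conjTwist, mul_inv_cancel,
      conjTwist_one]
  have hyψ : y ∈ inertia S.N (ψ : S.N → ℂ) :=
    mul_mem hg (inv_mem (le_inertia S.N ψ.2.isClassFunction n.2))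
  set l : A.L := A.pr y with hl
  have hlθ : (l : G) ∈ inertia A.W (θ : A.W → ℂ) := (A.mem_inertia_pr θ.2.isClassFunction y).1 hyθ
  have hlψ : (l : G) ∈ inertia S.N (ψ : S.N → ℂ) := by
    have h1 := mul_mem (inv_mem (le_inertia S.N ψ.2.isClassFunction (A.W_le_N (A.pr_spec y)))) hyψ
    rwa [mul_inv_rev, inv_inv, inv_mul_cancel_right] at h1
  have hlH : l ∉ A.HL := fun e => hgN (by
    have h1 := mul_mem (A.mem_N_of_pr (g := y) e) n.2
    rwa [hy, inv_mul_cancel_right] at h1)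
  refine ⟨l, hlH, ?_⟩
  have hlU : ∀ u ∈ U, l * u * l⁻¹ ∈ U := by
    rintro _ ⟨t, ht, rfl⟩
    refine ⟨l * t * l⁻¹, ⟨Subgroup.mem_subgroupOf.2 ?_, Subgroup.mem_subgroupOf.2 ?_⟩, conj_pow⟩
    · exact mul_mem (mul_mem hlθ (Subgroup.mem_subgroupOf.1 ht.1)) (inv_mem hlθ)
    · exact S.normalN.conj_mem _ (Subgroup.mem_subgroupOf.1 ht.2) _
  have hlJ : ∀ j ∈ J, (l : G) * j * (l : G)⁻¹ ∈ J := fun j hj => by
    show A.pr ((l : G) * j * (l : G)⁻¹) ∈ U
    rw [map_mul, map_mul, map_inv, A.pr_coe]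
    exact hlU _ hj
  let cl : J →* J := MonoidHom.mk' (fun j => ⟨(l : G) * j * (l : G)⁻¹, hlJ j j.2⟩)
    fun a b => Subtype.ext (by simp [mul_assoc])
  have hclb : Function.Bijective cl := Finite.injective_iff_bijective.1 fun a b e =>
    Subtype.ext (mul_left_cancel (mul_right_cancel (congrArg Subtype.val e)))
  let el : J ≃* J := MulEquiv.ofBijective cl hclb
  have hη' : IsIrrCharacter J (fun j => ρ.character (el j)) := isIrrCharacter_comp_equiv el hη
  have hψl : classInner (fun j : J => (ψ : S.N → ℂ) ⟨(j : G), hJN j.2⟩)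
      (fun j => ρ.character (el j)) ≠ 0 := by
    have e : (fun j : J => (ψ : S.N → ℂ) ⟨((el j : J) : G), hJN (el j).2⟩) =
        fun j : J => (ψ : S.N → ℂ) ⟨(j : G), hJN j.2⟩ := funext fun j =>
      (mem_inertia_iff S.N).1 hlψ ⟨(j : G), hJN j.2⟩
    rw [← e, classInner_comp_equiv el
      (fun j : J => (ψ : S.N → ℂ) ⟨(j : G), hJN j.2⟩) ρ.character]
    exact hψJ
  obtain ⟨n₁, hn₁⟩ := (mem_twistOrbit _).1 (mem_twistOrbit_of_constituent (J.subgroupOf S.N) ψ.2
    (isIrr_resTo' hη hJN) (isIrr_resTo' hη' hJN) hψ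
    (by rwa [classInner_resTo' _ hJN]))
  let cn : J →* J := MonoidHom.mk' (fun j => ⟨(n₁ : G) * j * (n₁ : G)⁻¹, hJconj _ n₁.2 j j.2⟩)
    fun a b => Subtype.ext (by simp [mul_assoc])
  have hu₀J : (u₀ : G) ∈ J := by
    show A.pr (u₀ : G) ∈ U
    rw [A.pr_coe]; exact hu₀U
  have key := detHom_comp_eq ρ cl cn (fun j =>
    (congrFun hn₁ ⟨⟨(j : G), hJN j.2⟩, Subgroup.mem_subgroupOf.2 j.2⟩).symm) ⟨(u₀ : G), hu₀J⟩
  rw [hdet] at key
  have hn₁eq : μ (cn ⟨(u₀ : G), hu₀J⟩) = μ ⟨(u₀ : G), hu₀J⟩ := by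
    set w : J := ⟨(n₁ : G) * (A.pr (n₁ : G) : G)⁻¹, hWJ (A.pr_spec _)⟩
    rw [show cn ⟨(u₀ : G), hu₀J⟩ = w * ⟨(u₀ : G), hu₀J⟩ * w⁻¹ from Subtype.ext (by
      show (n₁ : G) * u₀ * (n₁ : G)⁻¹ = (n₁ : G) * (A.pr (n₁ : G) : G)⁻¹ * u₀ *
        ((n₁ : G) * (A.pr (n₁ : G) : G)⁻¹)⁻¹
      have hc : ((u₀ : G)) * (A.pr (n₁ : G) : G) = (A.pr (n₁ : G) : G) * u₀ :=
        congrArg Subtype.val (A.HL_comm u₀ (hUT hu₀U).2 _ (A.pr_mem_N n₁.2))
      calc (n₁ : G) * u₀ * (n₁ : G)⁻¹ = (n₁ : G) * ((A.pr (n₁ : G) : G)⁻¹ *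
            ((u₀ : G) * (A.pr (n₁ : G) : G))) * (n₁ : G)⁻¹ := by rw [hc]; group
        _ = _ := by group), map_mul, map_mul, map_inv, mul_comm (μ w), mul_inv_cancel_right]
  rw [hn₁eq] at key
  have hμU : ∀ (u : A.L) (hu : u ∈ U) (hj : (u : G) ∈ J),
      μ ⟨(u : G), hj⟩ = χ ⟨A.rho u, Subgroup.mem_map_of_mem _ (hUT hu).2⟩ := fun u hu hj => by
    rw [hμ, MonoidHom.mul_apply, hμ₀U u hu hj, one_mul, MonoidHom.comp_apply]
    exact congrArg χ (Subtype.ext (congrArg A.rho (A.pr_coe u)))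
  rw [hμU u₀ hu₀U hu₀J, show cl ⟨(u₀ : G), hu₀J⟩ =
    ⟨((l * u₀ * l⁻¹ : A.L) : G), hlJ _ hu₀J⟩ from Subtype.ext (by simp [cl]),
    hμU _ (hlU _ hu₀U)] at key
  have h2 := congrArg Subtype.val (hχ key)
  simp only [map_mul, map_inv] at h2
  rw [hu₀ρ, mul_inv_eq_iff_eq_mul] at h2
  exact h2

end Abel

end Cfsg.Lib.Char.Ndad
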