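import Cfsg.Agent.Lib.Char.Clifford2
import Cfsg.Agent.Lib.Char.Linear
import Cfsg.Agent.Lib.Char.RelDegree
import Cfsg.Agent.Lib.Char.TwoDegrees
import Cfsg.Agent.Lib.Char.ThreeDegrees
import Cfsg.Agent.Lib.Char.Gallagher

/-!
# Twisting and characters over invariant linear characters
-/

set_option autoImplicit false
set_option linter.unusedSectionVars false
set_option linter.style.haveILetI false

namespace Cfsg.Lib.Char.Ndad

open Cfsg Cfsg.Lib.Char
open scoped commutatorElement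

universe u v

variable {Q : Type u} [Group Q] [Fintype Q]

/-- A character is multiplicative at an element where it has full norm. -/
theorem apply_mul_of_scalar {χ : Q → ℂ} (hχ : IsCharacter Q χ) {a : Q} {c : ℂ} (hc : ‖c‖ = 1)
    (ha : χ a = χ 1 * c) (g : Q) : χ (a * g) = c * χ g := by
  obtain ⟨n, ρ, rfl⟩ := hχ
  rcases Nat.eq_zero_or_pos n with rfl | hn
  · simp [Representation.character, Subsingleton.elim (ρ a * ρ g) 0, Subsingleton.elim (ρ g) 0]
  rw [Representation.char_one] at ha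
  obtain ⟨d, hd⟩ := (norm_character_eq_iff ρ a).1 (by rw [ha, norm_mul, hc, mul_one, Complex.norm_natCast])
  have hdc : d = c := by
    have h : d * (Module.finrank ℂ (Fin n → ℂ) : ℂ) = c * (Module.finrank ℂ (Fin n → ℂ) : ℂ) := by
      have h' : ρ.character a = d * (Module.finrank ℂ (Fin n → ℂ) : ℂ) := by
        show LinearMap.trace ℂ _ (ρ a) = _
        rw [hd, map_smul, LinearMap.trace_id, smul_eq_mul]
      rw [← h', ha, mul_comm]
    exact mul_right_cancel₀ (by simpa using hn.ne') h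
  show LinearMap.trace ℂ _ (ρ (a * g)) = _
  rw [show ρ (a * g) = d • ρ g by rw [map_mul, hd]; ext v; simp, map_smul, smul_eq_mul, hdc]
  rfl

/-- `χ` is a multiple of the linear character `lam` on `Z`. -/
def Over (Z : Subgroup Q) (lam : Z →* ℂˣ) (χ : Q → ℂ) : Prop := ∀ z : Z, χ z = χ 1 * (lam z : ℂ)

theorem norm_lam {Z : Subgroup Q} (lam : Z →* ℂˣ) (z : Z) : ‖(lam z : ℂ)‖ = 1 :=
  Complex.norm_eq_one_of_pow_eq_one (n := Nat.card Z)
    (by rw [← Units.val_pow_eq_pow_val, ← map_pow, pow_card_eq_one', map_one, Units.val_one])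
    Nat.card_pos.ne'

theorem Over.apply_mul {Z : Subgroup Q} {lam : Z →* ℂˣ} {χ : Q → ℂ} (h : Over Z lam χ)
    (hχ : IsCharacter Q χ) (z : Z) (g : Q) : χ ((z : Q) * g) = (lam z : ℂ) * χ g :=
  apply_mul_of_scalar hχ (norm_lam lam z) (h z) g

theorem Over.unique {Z : Subgroup Q} {lam lam' : Z →* ℂˣ} {χ : Q → ℂ} (h : Over Z lam χ)
    (h' : Over Z lam' χ) (hχ : IsIrrCharacter Q χ) : lam = lam' :=
  MonoidHom.ext fun z => Units.ext (mul_left_cancel₀ hχ.apply_one_ne_zero ((h z).symm.trans (h' z)))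

/-- An invariant linear character has a character over it. -/
theorem exists_over_lam (Z : Subgroup Q) [Z.Normal] (lam : Z →* ℂˣ)
    (hinv : ∀ (g : Q) (z : Z), lam (MulAut.conjNormal g z) = lam z) :
    ∃ χ : IrrCharacter Q, Over Z lam χ := by
  classical
  haveI := Fintype.ofFinite Z
  obtain ⟨χ, hχ⟩ := RelDeg.exists_over Z (isIrrCharacter_linear lam)
  refine ⟨χ, fun z => ?_⟩
  have hinv' : ∀ g, conjTwist Z (fun z : Z => (lam z : ℂ)) g = fun z : Z => (lam z : ℂ) := by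
    intro g
    funext w
    rw [conjTwist_apply]
    exact congrArg _ ((congrArg lam (Subtype.ext (MulAut.conjNormal_apply g w).symm)).trans (hinv g w))
  have h := clifford_invariant Z χ.2 (isIrrCharacter_linear lam) hinv' hχ
  have h1 := congrFun h z
  have h2 := congrFun h 1
  simp only [Pi.smul_apply, smul_eq_mul, OneMemClass.coe_one, map_one, Units.val_one, mul_one] at h1 h2
  rw [h1, h2]

/-- The elements that are central modulo the kernel of `lam`. -/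
def radical (Z : Subgroup Q) [Z.Normal] (lam : Z →* ℂˣ)
    (hinv : ∀ (g : Q) (z : Z), lam (MulAut.conjNormal g z) = lam z) : Subgroup Q where
  carrier := {x | ∀ y : Q, ∃ h : ⁅x, y⁆ ∈ Z, lam ⟨⁅x, y⁆, h⟩ = 1}
  one_mem' y := ⟨by simp, by
    rw [show (⟨⁅(1 : Q), y⁆, _⟩ : Z) = 1 from Subtype.ext (by simp), map_one]⟩
  mul_mem' {a b} ha hb y := by
    obtain ⟨h1, h2⟩ := ha y
    obtain ⟨h3, h4⟩ := hb y
    have e : ⁅a * b, y⁆ = a * ⁅b, y⁆ * a⁻¹ * ⁅a, y⁆ := by simp only [commutatorElement_def]; group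
    refine ⟨e ▸ mul_mem (Subgroup.Normal.conj_mem ‹_› _ h3 a) h1, ?_⟩
    rw [show (⟨⁅a * b, y⁆, _⟩ : Z) = MulAut.conjNormal a (⟨⁅b, y⁆, h3⟩ : Z) * ⟨⁅a, y⁆, h1⟩ from
      Subtype.ext (by simp [e]), map_mul, hinv, h2, h4, one_mul]
  inv_mem' {a} ha y := by
    obtain ⟨h1, h2⟩ := ha y
    have e : ⁅a⁻¹, y⁆ = a⁻¹ * ⁅a, y⁆⁻¹ * a⁻¹⁻¹ := by simp only [commutatorElement_def]; group
    refine ⟨e ▸ Subgroup.Normal.conj_mem ‹_› _ (inv_mem h1) a⁻¹, ?_⟩
    rw [show (⟨⁅a⁻¹, y⁆, _⟩ : Z) = MulAut.conjNormal a⁻¹ (⟨⁅a, y⁆, h1⟩⁻¹ : Z) from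
      Subtype.ext (by simp [e, mul_assoc]), hinv, map_inv, h2, inv_one]

theorem mem_radical {Z : Subgroup Q} [Z.Normal] {lam : Z →* ℂˣ}
    {hinv : ∀ (g : Q) (z : Z), lam (MulAut.conjNormal g z) = lam z} {x : Q} :
    x ∈ radical Z lam hinv ↔ ∀ y : Q, ∃ h : ⁅x, y⁆ ∈ Z, lam ⟨⁅x, y⁆, h⟩ = 1 := Iff.rfl

/-- A character over `lam` vanishes where a commutator value is non-trivial. -/
theorem Over.eq_zero {Z : Subgroup Q} {lam : Z →* ℂˣ} {χ : Q → ℂ} (hO : Over Z lam χ)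
    (hχ : IsCharacter Q χ) {x y : Q} (h : ⁅x, y⁆ ∈ Z) (hl : lam ⟨⁅x, y⁆, h⟩ ≠ 1) : χ x = 0 := by
  have hm := hO.apply_mul hχ ⟨⁅x, y⁆, h⟩ (y * x * y⁻¹)
  rw [show ⁅x, y⁆ * (y * x * y⁻¹) = x by simp only [commutatorElement_def]; group,
    hχ.isClassFunction] at hm
  by_contra h0
  exact hl (Units.ext ((mul_eq_right₀ h0).1 hm.symm))

/-- A character over `lam` has a linear extension as scalar on a central section. -/
theorem Over.exists_extension {Z : Subgroup Q} [Z.Normal] {lam : Z →* ℂˣ} {χ : IrrCharacter Q}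
    (hO : Over Z lam χ) (R : Subgroup Q) [R.Normal] (hZR : Z ≤ R)
    (hR : ∀ x ∈ R, ∀ y : Q, ∃ h : ⁅x, y⁆ ∈ Z, lam ⟨⁅x, y⁆, h⟩ = 1) :
    ∃ ω : R →* ℂˣ, Over R ω χ ∧ ∀ z : Z, ω ⟨z, hZR z.2⟩ = lam z := by
  classical
  haveI := Fintype.ofFinite R
  obtain ⟨θ, hθ⟩ := exists_irr_constituent_res R χ.2
  have hker : ∀ (x : R) (y : Q) (w : R), (w : Q) = ⁅(x : Q), y⁆ → (θ : R → ℂ) w = (θ : R → ℂ) 1 := by
    intro x y w hw
    obtain ⟨h, hl⟩ := hR x x.2 y
    refine apply_eq_of_constituent (χ.2.isCharacter.comp R.subtype) θ.2 hθ ?_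
    show (χ : Q → ℂ) w = (χ : Q → ℂ) ((1 : R) : Q)
    rw [hw, OneMemClass.coe_one, show ⁅(x : Q), y⁆ = ((⟨⁅(x : Q), y⁆, h⟩ : Z) : Q) from rfl, hO, hl,
      Units.val_one, mul_one]
  have hθ1 : (θ : R → ℂ) 1 = 1 := by
    have hK : commutator R ≤ charKer θ.2.isCharacter := by
      rw [commutator_def, Subgroup.commutator_le]
      intro a _ b _
      exact hker a b _ rfl
    have h1 := charDegree_eq_one_of_trivial (commutator R) le_rfl θ.2 fun w hw => hK hw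
    rw [θ.2.apply_one_eq_charDegree, h1, Nat.cast_one]
  obtain ⟨ω, hω⟩ := exists_hom_of_degree_one θ.2.isCharacter hθ1
  have hinv : ∀ g, conjTwist R (θ : R → ℂ) g = θ := by
    intro g
    funext w
    rw [conjTwist_apply]
    set w' : R := ⟨⁅(w : Q), g⁆⁻¹, inv_mem (hZR (hR w w.2 g).1)⟩
    have hk : (θ : R → ℂ) w' = (θ : R → ℂ) 1 := by
      refine (hker ⟨g * w * g⁻¹, ‹R.Normal›.conj_mem _ w.2 g⟩ g⁻¹ w' ?_)
      show ⁅(w : Q), g⁆⁻¹ = ⁅g * (w : Q) * g⁻¹, g⁻¹⁆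
      simp only [commutatorElement_def]; group
    rw [show (⟨g * w * g⁻¹, _⟩ : R) = w' * w from Subtype.ext (by
      show g * (w : Q) * g⁻¹ = ⁅(w : Q), g⁆⁻¹ * w
      simp only [commutatorElement_def]; group)]
    exact θ.2.isCharacter.apply_mul_of_mem_ker hk w
  have h := clifford_invariant R χ.2 θ.2 hinv hθ
  have hval : ∀ w : R, (χ : Q → ℂ) w = (χ : Q → ℂ) 1 * (ω w : ℂ) := by
    intro w
    have h1 := congrFun h w
    have h2 := congrFun h 1
    simp only [Pi.smul_apply, smul_eq_mul, OneMemClass.coe_one, hθ1, mul_one] at h1 h2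
    rw [h1, h2, congrFun hω w]
  refine ⟨ω, hval, fun z => Units.ext (mul_left_cancel₀ χ.2.apply_one_ne_zero ?_)⟩
  rw [← hval ⟨z, hZR z.2⟩]
  exact hO z

/-- The degree of a character supported on a scalar subgroup. -/
theorem Over.degree_sq {R : Subgroup Q} {ω : R →* ℂˣ} {χ : IrrCharacter Q} (hO : Over R ω χ)
    (hsupp : ∀ x ∉ R, (χ : Q → ℂ) x = 0) :
    charDegree (χ : Q → ℂ) ^ 2 = R.index := by
  classical
  have h := classInner_irr_self χ.2
  rw [classInner_self] at h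
  have hterm : ∀ x, (‖(χ : Q → ℂ) x‖ ^ 2 : ℝ) = if x ∈ R then (charDegree (χ : Q → ℂ) : ℝ) ^ 2 else 0 := by
    intro x
    split
    next hx =>
      rw [show x = ((⟨x, hx⟩ : R) : Q) from rfl, hO, norm_mul, norm_lam, mul_one,
        χ.2.apply_one_eq_charDegree, Complex.norm_natCast]
    next hx => simp [hsupp x hx]
  simp only [hterm, Finset.sum_ite, Finset.sum_const_zero, add_zero, Finset.sum_const,
    nsmul_eq_mul] at h
  have hc : ((Finset.univ.filter fun x => x ∈ R).card : ℕ) = Nat.card R := by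
    rw [Nat.card_eq_fintype_card, Fintype.card_subtype]
  rw [hc] at h
  have hQ : (Nat.card Q : ℂ) ≠ 0 := Nat.cast_ne_zero.2 Nat.card_pos.ne'
  push_cast at h
  rw [inv_mul_eq_iff_eq_mul₀ hQ, mul_one] at h
  have h' : Nat.card R * charDegree (χ : Q → ℂ) ^ 2 = Nat.card Q := by exact_mod_cast h
  exact Nat.eq_of_mul_eq_mul_left Nat.card_pos (h'.trans (Subgroup.card_mul_index R).symm)

/-- Characters invariant under twists by a fixed point free group of linear characters: if every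
twist of `ψ` is fixed by one of the given commuting automorphisms, none of which fixes a
non-trivial member of `Λ`, then `ψ` absorbs `Λ`. -/
theorem mul_eq_self {ι : Type v} (σ : ι → MulAut Q) (P : ι → Prop)
    (hcomm : ∀ i j, ∀ f : Q → ℂ, IsClassFunction Q f → ∀ x, f (σ i (σ j x)) = f (σ j (σ i x)))
    (Λ : Subgroup (Q →* ℂˣ)) [Finite Λ] (hinv : ∀ i, ∀ L ∈ Λ, L.comp (σ i).toMonoidHom ∈ Λ)
    (hfree : ∀ i, P i → ∀ L ∈ Λ, L.comp (σ i).toMonoidHom = L → L = 1) {ψ : Q → ℂ}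
    (hψ : IsClassFunction Q ψ)
    (hstab : ∀ L ∈ Λ, ∃ i, P i ∧ ∀ x, ψ (σ i x) * (L (σ i x) : ℂ) = ψ x * (L x : ℂ))
    (L : Q →* ℂˣ) (hL : L ∈ Λ) (x : Q) : ψ x * (L x : ℂ) = ψ x := by
  classical
  obtain ⟨g, hgP, hg⟩ := hstab 1 Λ.one_mem
  simp only [MonoidHom.one_apply, Units.val_one, mul_one] at hg
  obtain ⟨h, hhP, hh⟩ := hstab L hL
  let St : Subgroup (Q →* ℂˣ) :=
    { carrier := {M | M ∈ Λ ∧ ∀ x, ψ x * (M x : ℂ) = ψ x}
      one_mem' := ⟨Λ.one_mem, fun x => by simp⟩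
      mul_mem' := fun {a b} ha hb => ⟨mul_mem ha.1 hb.1, fun x => by
        rw [MonoidHom.mul_apply, Units.val_mul, ← mul_assoc, ha.2, hb.2]⟩
      inv_mem' := fun {a} ha => ⟨inv_mem ha.1, fun x => by
        conv_lhs => rw [← ha.2 x]
        rw [MonoidHom.inv_apply, Units.val_inv_eq_inv_val, mul_inv_cancel_right₀ (Units.ne_zero _)]⟩ }
  have key : ∀ i, P i → (∀ x, ψ (σ i x) = ψ x) → ∀ M ∈ Λ,
      (M.comp (σ i).toMonoidHom) * M⁻¹ ∈ St → M ∈ St := by
    intro i hi hfix M hM hd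
    have hstabSt : ∀ N ∈ St, N.comp (σ i).toMonoidHom ∈ St := fun N hN => ⟨hinv i N hN.1, fun x => by
      have := hN.2 (σ i x)
      rw [hfix x] at this
      simpa using this⟩
    haveI : Finite St := Finite.of_injective (fun N : St => (⟨N, N.2.1⟩ : Λ)) fun a b e =>
      Subtype.ext (congrArg (fun N : Λ => (N : Q →* ℂˣ)) e)
    let d : St → St := fun N => ⟨(N : Q →* ℂˣ).comp (σ i).toMonoidHom * (N : Q →* ℂˣ)⁻¹,
      mul_mem (hstabSt _ N.2) (inv_mem N.2)⟩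
    have heq : ∀ a b : Q →* ℂˣ, a ∈ Λ → b ∈ Λ →
        a.comp (σ i).toMonoidHom * a⁻¹ = b.comp (σ i).toMonoidHom * b⁻¹ → a = b := by
      intro a b ha hb e
      refine mul_inv_eq_one.1 (hfree i hi _ (mul_mem ha (inv_mem hb)) ?_)
      rw [MonoidHom.mul_comp, MonoidHom.inv_comp]
      calc a.comp (σ i).toMonoidHom * (b.comp (σ i).toMonoidHom)⁻¹
          = a.comp (σ i).toMonoidHom * a⁻¹ * (a * (b.comp (σ i).toMonoidHom)⁻¹) := MonoidHom.ext fun z => by simp [mul_assoc]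
        _ = b.comp (σ i).toMonoidHom * b⁻¹ * (a * (b.comp (σ i).toMonoidHom)⁻¹) := by rw [e]
        _ = a * b⁻¹ := MonoidHom.ext fun z => by
          simp only [MonoidHom.mul_apply, MonoidHom.inv_apply]
          rw [mul_comm (a z), mul_mul_mul_comm, mul_inv_cancel, one_mul, mul_comm]
    have hinj : Function.Injective d := fun a b e =>
      Subtype.ext (heq _ _ a.2.1 b.2.1 (congrArg Subtype.val e))
    obtain ⟨N, hN⟩ := (Finite.injective_iff_surjective.1 hinj) ⟨_, hd⟩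
    exact heq _ _ N.2.1 hM (congrArg Subtype.val hN) ▸ N.2
  set μ : Q →* ℂˣ := L * (L.comp (σ h).toMonoidHom)⁻¹ with hμ
  have hμΛ : μ ∈ Λ := mul_mem hL (inv_mem (hinv h L hL))
  have hψh : ∀ x, ψ (σ h x) = ψ x * (μ x : ℂ) := fun x => by
    rw [hμ, MonoidHom.mul_apply, MonoidHom.inv_apply, Units.val_mul, ← mul_assoc, ← hh x,
      MonoidHom.comp_apply, MulEquiv.coe_toMonoidHom, Units.val_inv_eq_inv_val,
      mul_inv_cancel_right₀ (Units.ne_zero _)]
  have hd : μ.comp (σ g).toMonoidHom * μ⁻¹ ∈ St := by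
    refine ⟨mul_mem (hinv g μ hμΛ) (inv_mem hμΛ), fun x => ?_⟩
    have e : ψ x * (μ (σ g x) : ℂ) = ψ x * (μ x : ℂ) := by
      rw [← hψh x, ← hg (σ h x), ← hcomm h g ψ hψ x, hψh, hg]
    rw [MonoidHom.mul_apply, MonoidHom.inv_apply, Units.val_mul, ← mul_assoc,
      MonoidHom.comp_apply, MulEquiv.coe_toMonoidHom, e, Units.val_inv_eq_inv_val,
      mul_inv_cancel_right₀ (Units.ne_zero _)]
  have hμ1 := key g hgP hg μ hμΛ hd
  have hfix : ∀ x, ψ (σ h x) = ψ x := fun x => (hψh x).trans (hμ1.2 x)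
  refine (key h hhP hfix L hL ⟨mul_mem (hinv h L hL) (inv_mem hL), fun x => ?_⟩).2 x
  have e := hh x
  rw [hfix] at e
  rw [MonoidHom.mul_apply, MonoidHom.inv_apply, Units.val_mul, ← mul_assoc, MonoidHom.comp_apply,
    MulEquiv.coe_toMonoidHom, e, Units.val_inv_eq_inv_val, mul_inv_cancel_right₀ (Units.ne_zero _)]

end Cfsg.Lib.Char.Ndad
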