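import Cfsg.Agent.Lib.Char.Ndad.AbelianOut
import Cfsg.Agent.Lib.Char.Ndad.Over
import Cfsg.Agent.Lib.Char.NoDivide.Count

/-!
# An abelian section: the derived group of `N` is abelian and one degree lies over it
-/

set_option autoImplicit false
set_option linter.unusedSectionVars false
set_option linter.style.haveILetI false
set_option maxHeartbeats 1000000

namespace Cfsg.Lib.Char.Ndad

open Cfsg Cfsg.Lib.Char
open scoped commutatorElement

universe u

/-- Linear characters separate the points outside the derived subgroup. -/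
theorem exists_lin_ne {X : Type u} [Group X] [Finite X] {w : X} (hw : w ∉ commutator X) :
    ∃ v : X →* ℂˣ, v w ≠ 1 := by
  haveI := Fintype.ofFinite (Abelianization X)
  by_contra h
  push Not at h
  exact hw ((QuotientGroup.eq_one_iff w).1
    (eq_one_of_forall_hom (a := Abelianization.of w) (fun a b => mul_comm a b)
      fun f => h (f.comp Abelianization.of)))

/-- A finite nilpotent group has a non-trivial invariant linear character on any non-trivial
normal subgroup. -/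
theorem exists_invariant_lin {X : Type u} [Group X] [Finite X] [Group.IsNilpotent X]
    (Z : Subgroup X) [Z.Normal] (hZ : Z ≠ ⊥) :
    ∃ lam : Z →* ℂˣ, lam ≠ 1 ∧ ∀ (g : X) (z : Z), lam (MulAut.conjNormal g z) = lam z := by
  set Y : Subgroup X := ⁅Z, (⊤ : Subgroup X)⁆ with hY
  have hYZ : Y ≤ Z := Subgroup.commutator_le_left Z ⊤
  obtain ⟨z₀, hz₀Z, hz₀⟩ : ∃ z ∈ Z, z ∉ Y := by
    by_contra h
    push Not at h
    obtain ⟨n, hn⟩ := (Subgroup.isNilpotent_iff_lowerCentralSeries (⊤ : Subgroup X)).1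
      inferInstance
    have key : ∀ n, Z ≤ (⊤ : Subgroup X).lowerCentralSeries n := by
      intro n
      induction n with
      | zero => exact le_top
      | succ n ih =>
        intro z hz
        exact Subgroup.commutator_mono ih le_rfl (h z hz)
    exact hZ (le_bot_iff.1 (hn ▸ key n))
  set YZ := Y.subgroupOf Z
  haveI : YZ.Normal := (inferInstance : Y.Normal).subgroupOf Z
  haveI := Fintype.ofFinite (Z ⧸ YZ)
  have hc : ∀ a b : Z ⧸ YZ, a * b = b * a := by
    intro a b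
    obtain ⟨a, rfl⟩ := QuotientGroup.mk_surjective a
    obtain ⟨b, rfl⟩ := QuotientGroup.mk_surjective b
    refine commutatorElement_eq_one_iff_mul_comm.1 ?_
    rw [← QuotientGroup.mk'_apply, ← QuotientGroup.mk'_apply, ← map_commutatorElement]
    exact (QuotientGroup.eq_one_iff _).2 (Subgroup.mem_subgroupOf.2 (by
      rw [show ((⁅a, b⁆ : Z) : X) = ⁅(a : X), (b : X)⁆ from rfl]
      exact Subgroup.commutator_mem_commutator a.2 (Subgroup.mem_top _)))
  obtain ⟨f, hf⟩ : ∃ f : Z ⧸ YZ →* ℂˣ, f (QuotientGroup.mk ⟨z₀, hz₀Z⟩) ≠ 1 := by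
    by_contra h
    push Not at h
    exact hz₀ (Subgroup.mem_subgroupOf.1 ((QuotientGroup.eq_one_iff _).1
      (eq_one_of_forall_hom hc h)))
  refine ⟨f.comp (QuotientGroup.mk' YZ), fun e => hf (DFunLike.congr_fun e ⟨z₀, hz₀Z⟩),
    fun g z => congrArg f ?_⟩
  refine QuotientGroup.eq.2 (Subgroup.mem_subgroupOf.2 ?_)
  show ((MulAut.conjNormal g z : Z) : X)⁻¹ * (z : X) ∈ Y
  rw [MulAut.conjNormal_apply, show (g * (z : X) * g⁻¹)⁻¹ * (z : X) = ⁅(z : X)⁻¹, g⁆⁻¹ by
    simp only [commutatorElement_def]; group]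
  exact inv_mem (Subgroup.commutator_mem_commutator (inv_mem z.2) (Subgroup.mem_top g))

namespace Abel

variable {G : Type u} [Group G] {S : Setup G} {D : Sect S} (A : Abel D) [Fintype G]

include A

theorem nilpotent_W : Group.IsNilpotent A.W := by
  refine Cfsg.Lib.Thompson.isNilpotent_of_fpf S.hq (MulAut.conjNormal A.x : MulAut A.W) ?_ ?_
  · intro w hw
    refine Subtype.ext (A.fpf (w : G) w.2 ?_)
    have h1 := congrArg Subtype.val hw
    rw [MulAut.conjNormal_apply, mul_inv_eq_iff_eq_mul] at h1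
    exact h1
  · have key : ∀ (n : ℕ) (w : A.W),
        (⇑(MulAut.conjNormal A.x : MulAut A.W))^[n] w = MulAut.conjNormal (A.x ^ n) w := by
      intro n
      induction n with
      | zero => intro w; simp
      | succ n ih =>
        intro w
        rw [Function.iterate_succ_apply', ih, pow_succ', map_mul, MulAut.mul_apply]
    funext w
    rw [key, A.xq, map_one]
    rfl

theorem exists_lin_ne_one (hW : A.W ≠ ⊥) : ∃ v : A.W →* ℂˣ, v ≠ 1 := by
  haveI := A.nilpotent_W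
  haveI : Nontrivial A.W := (Subgroup.nontrivial_iff_ne_bot _).2 hW
  obtain ⟨w, -, hw⟩ := SetLike.exists_of_lt
    (Group.IsSolvable.commutator_lt_top_of_nontrivial (G := A.W))
  obtain ⟨v, hv⟩ := exists_lin_ne hw
  exact ⟨v, fun e => hv (by rw [e, MonoidHom.one_apply])⟩

theorem prime_dvd_lin {r : ℕ} (hr : r.Prime) (hd : r ∣ Nat.card A.W) :
    r ∣ Nat.card (A.W →* ℂˣ) := by
  haveI := A.nilpotent_W
  haveI := Fact.mk hr
  rw [card_linear_eq_index]
  obtain ⟨P, C, hC, hcompl⟩ :=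
    Cfsg.Lib.Thompson.hasNormalPComplement_of_isNilpotent (G := A.W) (p := r)
  haveI := hC
  obtain ⟨k, hk⟩ := P.2.exists_card_eq
  have hcard : Nat.card (A.W ⧸ C) = r ^ k := by
    rw [← Subgroup.index_eq_card, hcompl.symm.index_eq_card, hk]
  have hk0 : k ≠ 0 := fun e => P.not_dvd_index (by
    have h1 := Subgroup.card_mul_index (P : Subgroup A.W)
    rw [hk, e, pow_zero, one_mul] at h1
    rwa [h1])
  haveI : Nontrivial (A.W ⧸ C) := Finite.one_lt_card_iff_nontrivial.1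
    (hcard ▸ Nat.one_lt_pow hk0 hr.one_lt)
  have hlt := Group.IsSolvable.commutator_lt_top_of_nontrivial (G := A.W ⧸ C)
  obtain ⟨i, hi, he⟩ := (Nat.dvd_prime_pow hr).1
    (hcard ▸ Subgroup.index_dvd_card (commutator (A.W ⧸ C)))
  have hi0 : i ≠ 0 := fun e => hlt.ne (Subgroup.index_eq_one.1 (by rw [he, e, pow_zero]))
  have hdvd := Subgroup.index_map_dvd (commutator A.W) (QuotientGroup.mk'_surjective C)
  rw [commutator_def, Subgroup.map_commutator, Subgroup.map_top_of_surjective _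
    (QuotientGroup.mk'_surjective C), ← commutator_def, ← commutator_def, he] at hdvd
  exact (dvd_pow_self r hi0).trans hdvd

/-- The automorphism of the derived group of `W` induced by conjugation. -/
noncomputable def cZ (g : G) : commutator A.W →* commutator A.W :=
  ((MulAut.conjNormal g : MulAut A.W).toMonoidHom.comp (commutator A.W).subtype).codRestrict _
    fun z => by
      have h := (Subgroup.characteristic_iff_map_le.1
        (inferInstance : (commutator A.W).Characteristic)) (MulAut.conjNormal g : MulAut A.W)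
      exact h ⟨z, z.2, rfl⟩

theorem cZ_apply (g : G) (z : commutator A.W) :
    ((A.cZ g z : commutator A.W) : A.W) = MulAut.conjNormal g (z : A.W) := rfl

theorem cZ_mul (g h : G) (z : commutator A.W) : A.cZ (g * h) z = A.cZ g (A.cZ h z) :=
  Subtype.ext (by rw [cZ_apply, cZ_apply, cZ_apply, map_mul, MulAut.mul_apply])

/-- The derived group of `N` is abelian. -/
theorem commutator_W_eq_bot [Fintype S.N] : commutator A.W = ⊥ := by
  classical
  by_contra hne
  haveI := A.nilpotent_W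
  haveI := Fintype.ofFinite A.W
  have hW : A.W ≠ ⊥ := fun e => hne (eq_bot_iff.2 fun z _ =>
    Subgroup.mem_bot.2 (Subtype.ext (Subgroup.mem_bot.1 (e.le z.2))))
  haveI : Finite (A.W →* ℂˣ) := Nat.finite_of_card_ne_zero
    (by rw [card_linear_eq_index]; exact Subgroup.index_ne_zero_of_finite)
  obtain ⟨F, hρ, hH⟩ := A.exists_frame (A.exists_lin_ne_one hW)
  obtain ⟨σ, s, hT⟩ := F.exists_top
  have hG1 : F.G1 = A.HL.map A.rho := by
    show F.H.map F.ρ = _
    rw [hρ, hH]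
  have hcopG1 := Cfsg.Lib.Solv.coprime_of_fpf_hom F.G1.subtype fun b hb v hv => by
    by_contra hv1
    exact hb (Subtype.ext (F.G1_free b.2 hv1 hv))
  have hcop : ∀ h ∈ A.HL, (orderOf (A.rho h)).Coprime (Nat.card A.W) := by
    intro h hh
    refine Nat.coprime_of_dvd fun r hr h1 h2 => hr.ne_one (Nat.dvd_one.1 ?_)
    rw [← hcopG1.gcd_eq_one]
    refine Nat.dvd_gcd (h1.trans ?_) (A.prime_dvd_lin hr h2)
    rw [hG1, ← Subgroup.orderOf_mk (A.rho h) (Subgroup.mem_map_of_mem _ hh)]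
    exact orderOf_dvd_natCard _
  have hcyc : IsCyclic (A.HL.map A.rho) := hG1 ▸ F.G1_cyclic
  -- every non-linear character is fixed by an element acting non-trivially
  have hfix : ∀ θ : IrrCharacter A.W, charDegree (θ : A.W → ℂ) ≠ 1 →
      ∃ h ∈ A.HL, A.rho h ≠ 1 ∧ (h : G) ∈ inertia A.W (θ : A.W → ℂ) := by
    intro θ hθ1
    by_contra h
    push Not at h
    obtain ⟨v, hv⟩ := A.exists_lin_ne_one hW
    have hle : (inertia A.W (θ : A.W → ℂ)).subgroupOf A.L ⊓ F.H ≤ F.ρ.ker := by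
      rw [hρ, hH]
      intro g hg
      exact MonoidHom.mem_ker.2 (by_contra fun hne => h g hg.2 hne (Subgroup.mem_subgroupOf.1 hg.1))
    have hdvd := F.index_dvd hT hle hv
    rw [hρ, ← A.index_inertia θ.2.isClassFunction] at hdvd
    obtain ⟨hmem, hne1, -, -⟩ := A.fix_facts hv
    obtain ⟨χ, hχ⟩ := RelDeg.exists_over A.W θ.2
    obtain ⟨c, hc⟩ : ∃ c : ℕ, classInner (fun w : A.W => (χ : G → ℂ) w) (θ : A.W → ℂ) = c :=
      (χ.2.isCharacter.comp A.W.subtype).exists_nat_classInner θ.2.isCharacter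
    have h1 := clifford_degree A.W χ.2 θ.2 hχ
    rw [χ.2.apply_one_eq_charDegree, θ.2.apply_one_eq_charDegree, hc] at h1
    have h2 : charDegree (χ : G → ℂ) = (inertia A.W (θ : A.W → ℂ)).index *
        (c * charDegree (θ : A.W → ℂ)) := by
      have h3 : charDegree (χ : G → ℂ) = c * (inertia A.W (θ : A.W → ℂ)).index *
          charDegree (θ : A.W → ℂ) := by exact_mod_cast h1
      rw [h3]; ring
    have h4 := S.eq_of_dvd hmem (S.deg_mem χ) hne1 (h2 ▸ dvd_mul_of_dvd_left hdvd _)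
    have h5 : (inertia A.W (θ : A.W → ℂ)).index * (c * charDegree (θ : A.W → ℂ)) ∣
        (inertia A.W (θ : A.W → ℂ)).index * 1 := by rw [← h2, ← h4, mul_one]; exact hdvd
    exact hθ1 (Nat.eq_one_of_mul_eq_one_left (Nat.dvd_one.1
      (Nat.dvd_of_mul_dvd_mul_left (Nat.pos_of_ne_zero Subgroup.index_ne_zero_of_finite) h5)))
  -- a non-linear character vanishes outside the derived group
  have hvan : ∀ θ : IrrCharacter A.W, charDegree (θ : A.W → ℂ) ≠ 1 →
      ∀ w : A.W, w ∉ commutator A.W → (θ : A.W → ℂ) w = 0 := by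
    intro θ hθ1 w hw
    obtain ⟨L, hL⟩ := exists_lin_ne hw
    have h := mul_eq_self (fun i : A.HL => (MulAut.conjNormal ((i : A.L) : G) : MulAut A.W))
      (fun i => A.rho (i : A.L) ≠ 1)
      (fun i j f _ w => by
        rw [← MulAut.mul_apply, ← MulAut.mul_apply, ← map_mul, ← map_mul]
        exact congrArg (fun l : A.L => f (MulAut.conjNormal (l : G) w)) (A.HL_comm i i.2 j j.2))
      (⊤ : Subgroup (A.W →* ℂˣ)) (fun _ _ _ => Subgroup.mem_top _)
      (fun i hi M _ hM => by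
        by_contra hM1
        refine hi ?_
        have h1 : (i : A.L) ∈ fixS A.rho M := A.mem_fixS_iff.2 ((RelDeg.mem_inertia_lin A.W).2 hM)
        rw [← hρ] at h1 ⊢
        exact F.fix_all (by rw [hH]; exact i.2) hM1 h1)
      θ.2.isClassFunction (fun M _ => by
        obtain ⟨h, hh, hh1, hhi⟩ := hfix ⟨_, isIrrCharacter_mul_linear θ.2 M⟩ (fun e => hθ1 (by
          have h1 := (isIrrCharacter_mul_linear θ.2 M).apply_one_eq_charDegree
          rw [show charDegree _ = 1 from e] at h1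
          refine charDegree_of_one_eq ?_
          simpa using h1))
        refine ⟨⟨h, hh⟩, hh1, fun y => ?_⟩
        have h2 := (mem_inertia_iff A.W).1 hhi y
        refine Eq.trans ?_ h2
        rw [show (MulAut.conjNormal (h : G) : MulAut A.W) y = ⟨(h : G) * y * (h : G)⁻¹,
          A.normal_W.conj_mem y y.2 h⟩ from Subtype.ext (MulAut.conjNormal_apply _ _)]
        rfl) L (Subgroup.mem_top _) w
    by_contra h0
    exact hL (Units.ext ((mul_eq_left₀ h0).1 h))
  -- invariant linear characters of the derived group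
  let Z : Subgroup A.W := commutator A.W
  let Zh : Subgroup (Z →* ℂˣ) :=
    { carrier := {lam | ∀ (g : A.W) (z : Z), lam (MulAut.conjNormal g z) = lam z}
      one_mem' := fun _ _ => rfl
      mul_mem' := fun {a b} ha hb g z => by simp [ha g z, hb g z]
      inv_mem' := fun {a} ha g z => by simp [ha g z] }
  haveI : Finite (Z →* ℂˣ) := Nat.finite_of_card_ne_zero
    (by rw [card_linear_eq_index]; exact Subgroup.index_ne_zero_of_finite)
  obtain ⟨lam₀, hlam₀, hlam₀i⟩ := exists_invariant_lin Z hne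
  have hnl : ∀ lam : Zh, lam ≠ 1 → ∀ θ : IrrCharacter A.W, Over Z (lam : Z →* ℂˣ) θ →
      charDegree (θ : A.W → ℂ) ≠ 1 := by
    intro lam hlam θ hO e
    obtain ⟨L, hL⟩ := exists_hom_of_degree_one θ.2.isCharacter
      (by rw [θ.2.apply_one_eq_charDegree, e, Nat.cast_one])
    refine hlam (Subtype.ext (MonoidHom.ext fun z => Units.ext ?_))
    have h1 := hO z
    rw [θ.2.apply_one_eq_charDegree, e, Nat.cast_one, one_mul, hL] at h1
    have h2 : L (z : A.W) = 1 := MonoidHom.mem_ker.1 (Abelianization.commutator_subset_ker L z.2)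
    rw [← h1]
    show (L (z : A.W) : ℂ) = _
    rw [h2]
    rfl
  -- uniqueness
  have huniq : ∀ lam : Zh, lam ≠ 1 → ∀ θ θ' : IrrCharacter A.W, Over Z (lam : Z →* ℂˣ) θ →
      Over Z (lam : Z →* ℂˣ) θ' → (θ' : A.W → ℂ) = θ := by
    intro lam hlam θ θ' hO hO'
    by_contra hne'
    have e : (θ' : A.W → ℂ) = ((θ' : A.W → ℂ) 1 / (θ : A.W → ℂ) 1) • (θ : A.W → ℂ) := by
      funext w
      by_cases hw : w ∈ Z
      · rw [Pi.smul_apply, smul_eq_mul, hO ⟨w, hw⟩, hO' ⟨w, hw⟩, ← mul_assoc,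
          div_mul_cancel₀ _ θ.2.apply_one_ne_zero]
      · rw [Pi.smul_apply, smul_eq_mul, hvan θ (hnl lam hlam θ hO) w hw,
          hvan θ' (hnl lam hlam θ' hO') w hw, mul_zero]
    have h1 := classInner_irr_ne θ'.2 θ.2 hne'
    rw [e, classInner_smul_left, classInner_irr_self θ.2, mul_one] at h1
    exact div_ne_zero θ'.2.apply_one_ne_zero θ.2.apply_one_ne_zero h1
  -- the pairing with a fixed element
  have hcm : ∀ a b : A.W, ⁅a, b⁆ ∈ Z := fun a b =>
    Subgroup.commutator_mem_commutator (Subgroup.mem_top a) (Subgroup.mem_top b)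
  let Φ : A.W → Zh → (A.W →* ℂˣ) := fun w₀ lam =>
    MonoidHom.mk' (fun w => (lam : Z →* ℂˣ) ⟨⁅w₀, w⁆, hcm w₀ w⟩) fun a b => by
      rw [show (⟨⁅w₀, a * b⁆, hcm w₀ (a * b)⟩ : Z) = ⟨⁅w₀, a⁆, hcm w₀ a⟩ *
        MulAut.conjNormal a (⟨⁅w₀, b⁆, hcm w₀ b⟩ : Z) from Subtype.ext (by
          rw [Subgroup.coe_mul, MulAut.conjNormal_apply]
          simp only [commutatorElement_def]; group), map_mul, lam.2 a]
  have hΦinj : ∀ w₀ : A.W, w₀ ∉ Z → ∀ lam : Zh, Φ w₀ lam = 1 → lam = 1 := by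
    intro w₀ hw₀ lam h
    by_contra hlam
    obtain ⟨θ, hO⟩ := exists_over_lam Z (lam : Z →* ℂˣ) lam.2
    set R := radical Z (lam : Z →* ℂˣ) lam.2
    have hZR : Z ≤ R := fun z hz y => ⟨hcm z y, by
      rw [show (⟨⁅z, y⁆, hcm z y⟩ : Z) = (⟨z, hz⟩ : Z) * MulAut.conjNormal y (⟨z, hz⟩ : Z)⁻¹ from
        Subtype.ext (by simp [commutatorElement_def, mul_assoc]), map_mul, lam.2 y, map_inv,
        mul_inv_cancel]⟩
    haveI : R.Normal := ⟨fun a ha b => by
      rw [show b * a * b⁻¹ = ⁅b, a⁆ * a by simp only [commutatorElement_def]; group]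
      exact mul_mem (hZR (hcm b a)) ha⟩
    obtain ⟨ω, hω, -⟩ := hO.exists_extension R hZR fun x hx => hx
    have hw₀R : w₀ ∈ R := fun y => ⟨hcm w₀ y, DFunLike.congr_fun h y⟩
    have h1 := hω ⟨w₀, hw₀R⟩
    rw [show ((⟨w₀, hw₀R⟩ : R) : A.W) = w₀ from rfl, hvan θ (hnl lam hlam θ hO) w₀ hw₀] at h1
    exact mul_ne_zero θ.2.apply_one_ne_zero (Units.ne_zero _) h1.symm
  -- counting
  obtain ⟨w₀, -, hw₀⟩ := SetLike.exists_of_lt
    (haveI : Nontrivial A.W := (Subgroup.nontrivial_iff_ne_bot _).2 hW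
     Group.IsSolvable.commutator_lt_top_of_nontrivial (G := A.W))
  let Φ₀ : Zh →* (A.W →* ℂˣ) := MonoidHom.mk' (Φ w₀) fun a b => MonoidHom.ext fun w => rfl
  have hΦ₀ : Function.Injective Φ₀ := (injective_iff_map_eq_one _).2 fun lam h => hΦinj w₀ hw₀ lam (DFunLike.ext _ _ fun w => DFunLike.congr_fun h w)
  have hn : Nat.card Φ₀.range = Nat.card Zh :=
    (Nat.card_congr (MonoidHom.ofInjective hΦ₀).toEquiv).symm
  have hn1 : Nat.card Zh ∣ Nat.card (A.W →* ℂˣ) := hn ▸ Subgroup.card_subgroup_dvd_card _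
  have hn2 : Nat.card Zh < Nat.card (A.W →* ℂˣ) := by
    obtain ⟨v, hv⟩ := exists_lin_ne hw₀
    refine lt_of_le_of_ne (Nat.le_of_dvd Nat.card_pos hn1) fun e => hv ?_
    rw [← hn, Subgroup.card_eq_iff_eq_top] at e
    obtain ⟨lam, hlam⟩ := (e ▸ Subgroup.mem_top v : v ∈ Φ₀.range)
    rw [← hlam]
    show (lam : Z →* ℂˣ) _ = 1
    rw [show (⟨⁅w₀, w₀⁆, hcm w₀ w₀⟩ : Z) = 1 from Subtype.ext (commutatorElement_self w₀),
      map_one]
  have hn3 : 1 < Nat.card Zh := Finite.one_lt_card_iff_nontrivial.2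
    ⟨⟨lam₀, hlam₀i⟩, 1, fun e => hlam₀ (congrArg Subtype.val e)⟩
  -- the action
  let act : A.L → Zh → Zh := fun l lam => ⟨(lam : Z →* ℂˣ).comp (A.cZ (l : G)⁻¹), fun g z => by
    show (lam : Z →* ℂˣ) (A.cZ (l : G)⁻¹ (MulAut.conjNormal g z)) = _
    rw [show A.cZ (l : G)⁻¹ (MulAut.conjNormal g z) =
      MulAut.conjNormal (MulAut.conjNormal (l : G)⁻¹ g : A.W) (A.cZ (l : G)⁻¹ z) from Subtype.ext (by
        rw [A.cZ_apply, MulAut.conjNormal_apply, MulAut.conjNormal_apply, A.cZ_apply]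
        simp only [map_mul, map_inv (MulAut.conjNormal (l : G)⁻¹ : MulAut A.W)]), lam.2]
    rfl⟩
  have hact : ∀ (a b : A.L) (lam : Zh), act (a * b) lam = act a (act b lam) := fun a b lam =>
    Subtype.ext (MonoidHom.ext fun z => congrArg (lam : Z →* ℂˣ) (by
      rw [Subgroup.coe_mul, mul_inv_rev, A.cZ_mul]))
  have hker : ∀ h ∈ A.HL, A.rho h = 1 → ∀ lam : Zh, act h lam = lam := by
    intro h _ hh1 lam
    refine mul_inv_eq_one.1 (hΦinj w₀ hw₀ _ ?_)
    refine MonoidHom.ext fun w => ?_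
    have hmod : ∀ y : A.W, (MulAut.conjNormal (h : G)⁻¹ y : A.W) * y⁻¹ ∈ Z := by
      intro y
      by_contra hy
      obtain ⟨v, hv⟩ := exists_lin_ne hy
      refine hv ?_
      have h1 := DFunLike.congr_fun (DFunLike.congr_fun hh1 v) y
      refine (map_mul v _ _).trans ?_
      rw [map_inv v y, mul_inv_eq_one]
      exact h1
    have e : (act h lam : Z →* ℂˣ) ⟨⁅w₀, w⁆, hcm w₀ w⟩ = (lam : Z →* ℂˣ) ⟨⁅w₀, w⁆, hcm w₀ w⟩ := by
      obtain ⟨z₁, hz₁, e₁⟩ : ∃ z, z ∈ Z ∧ MulAut.conjNormal (h : G)⁻¹ w₀ = z * w₀ :=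
        ⟨_, hmod w₀, (inv_mul_cancel_right _ _).symm⟩
      obtain ⟨z₂, hz₂, e₂⟩ : ∃ z, z ∈ Z ∧ MulAut.conjNormal (h : G)⁻¹ w = z * w :=
        ⟨_, hmod w, (inv_mul_cancel_right _ _).symm⟩
      have hcen : ∀ (z : Z) (y : A.W), (lam : Z →* ℂˣ) ⟨⁅(z : A.W), y⁆, hcm z y⟩ = 1 := fun z y => by
        rw [show (⟨⁅(z : A.W), y⁆, hcm z y⟩ : Z) = z * MulAut.conjNormal y z⁻¹ from
          Subtype.ext (by simp [commutatorElement_def, mul_assoc]), map_mul, lam.2 y, map_inv,
          mul_inv_cancel]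
      show (lam : Z →* ℂˣ) (A.cZ (h : G)⁻¹ ⟨⁅w₀, w⁆, hcm w₀ w⟩) = _
      rw [show A.cZ (h : G)⁻¹ ⟨⁅w₀, w⁆, hcm w₀ w⟩ =
          MulAut.conjNormal z₁ ((⟨⁅z₂, w₀⁆, hcm z₂ w₀⟩ : Z)⁻¹ *
            MulAut.conjNormal z₂ (⟨⁅w₀, w⁆, hcm w₀ w⟩ : Z)) * ⟨⁅z₁, z₂ * w⁆, hcm z₁ (z₂ * w)⟩
          from Subtype.ext (by
            rw [A.cZ_apply, map_commutatorElement, e₁, e₂]
            simp only [Subgroup.coe_mul, Subgroup.coe_inv, MulAut.conjNormal_apply,
              commutatorElement_def]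
            group), map_mul, lam.2, map_mul, map_inv, lam.2]
      have h1 : (lam : Z →* ℂˣ) ⟨⁅z₂, w₀⁆, hcm z₂ w₀⟩ = 1 := hcen ⟨z₂, hz₂⟩ w₀
      have h2 : (lam : Z →* ℂˣ) ⟨⁅z₁, z₂ * w⁆, hcm z₁ (z₂ * w)⟩ = 1 := hcen ⟨z₁, hz₁⟩ _
      rw [h1, h2, inv_one, one_mul, mul_one]
    show (act h lam : Z →* ℂˣ) _ * ((lam : Z →* ℂˣ) _)⁻¹ = 1
    rw [e, mul_inv_cancel]
  obtain ⟨E, hE, hEout, hEn⟩ := F.exists_free hT
  rw [hG1] at hE
  choose lift hlift using fun δ : E => hE δ.2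
  have hone : ∀ lam, act (lift 1) lam = lam := hker _ (hlift 1).1 (hlift 1).2
  refine hEn _ hn1 hn3 hn2 (NoDivide.card_dvd_of_free (1 : Zh) (fun δ => act (lift δ)) hone
    (fun x y lam => ?_) (fun x => Subtype.ext (MonoidHom.ext fun z => rfl))
    fun δ lam hlam he => ?_)
  · set k : A.L := (lift x * lift y)⁻¹ * lift (x * y) with hk
    have hkH : k ∈ A.HL := mul_mem (inv_mem (mul_mem (hlift x).1 (hlift y).1)) (hlift (x * y)).1
    have hk1 : A.rho k = 1 := by
      rw [hk, map_mul, map_inv, map_mul, (hlift x).2, (hlift y).2, (hlift (x * y)).2,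
        Subgroup.coe_mul, inv_mul_cancel]
    rw [show lift (x * y) = lift x * lift y * k by rw [hk, mul_inv_cancel_left], hact, hact,
      hker k hkH hk1]
  · obtain ⟨θ, hO⟩ := exists_over_lam Z (lam : Z →* ℂˣ) lam.2
    have hθ' : IsIrrCharacter A.W (conjTwist A.W (θ : A.W → ℂ) ((lift δ : A.L) : G)⁻¹) :=
      isIrrCharacter_conjTwist A.W θ.2 _
    have hO' : Over Z (lam : Z →* ℂˣ)
        (conjTwist A.W (θ : A.W → ℂ) ((lift δ : A.L) : G)⁻¹) := fun z => by
      rw [conjTwist_apply_one, conjTwist_apply]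
      have h1 := hO (A.cZ ((lift δ : A.L) : G)⁻¹ z)
      have h2 : (lam : Z →* ℂˣ) (A.cZ ((lift δ : A.L) : G)⁻¹ z) = (lam : Z →* ℂˣ) z :=
        DFunLike.congr_fun (congrArg Subtype.val he) z
      rw [h2] at h1
      refine Eq.trans ?_ h1
      exact congrArg (θ : A.W → ℂ) (Subtype.ext (by rw [A.cZ_apply, MulAut.conjNormal_apply]))
    have hθfix : ((lift δ : A.L) : G)⁻¹ ∈ inertia A.W (θ : A.W → ℂ) :=
      (mem_inertia _).2 (huniq lam hlam θ ⟨_, hθ'⟩ hO hO')
    obtain ⟨g, hg, hgc⟩ := A.exists_outer_commute θ (hnl lam hlam θ hO) hcop hcyc (hlift δ).1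
      (inv_mem_iff.1 hθfix)
    rw [(hlift δ).2] at hgc
    rw [← hρ] at hgc
    exact Subtype.ext (hEout (δ : MulAut (A.W →* ℂˣ)) δ.2 g (by rwa [hH]) hgc)

/-- The degrees and the derived length for an abelian section. -/
theorem abelian_result [Fintype S.N] :
    (∃ d : ℕ, ∀ ψ : IrrCharacter S.N, charDegree (ψ : S.N → ℂ) ≠ 1 → S.gdegN (ψ : S.N → ℂ) = d) ∧
      derivedSeries S.N 2 = ⊥ := by
  classical
  haveI := Fintype.ofFinite A.W
  have hc : ∀ a b : A.W, a * b = b * a := fun a b => commutatorElement_eq_one_iff_mul_comm.1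
    (Subgroup.mem_bot.1 (A.commutator_W_eq_bot ▸
      Subgroup.commutator_mem_commutator (Subgroup.mem_top a) (Subgroup.mem_top b)))
  have hmem : ∀ n : S.N, n ∈ commutator S.N → (n : G) ∈ A.W := fun n hn =>
    (Subgroup.map_subtype_commutator S.N).le ⟨n, hn, rfl⟩
  refine ⟨?_, ?_⟩
  swap
  · rw [← le_bot_iff, derivedSeries_succ, derivedSeries_one, Subgroup.commutator_le]
    intro a ha b hb
    refine Subgroup.mem_bot.2 (commutatorElement_eq_one_iff_mul_comm.2 (Subtype.ext ?_))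
    exact (congrArg (fun z : A.W => (z : G)) (hc ⟨_, hmem a ha⟩ ⟨_, hmem b hb⟩) :)
  haveI : Finite (A.W →* ℂˣ) := Nat.finite_of_card_ne_zero
    (by rw [card_linear_eq_index]; exact Subgroup.index_ne_zero_of_finite)
  -- every non-linear character lies over a non-trivial linear character
  have hover : ∀ ψ : IrrCharacter S.N, charDegree (ψ : S.N → ℂ) ≠ 1 → ∃ v : A.W →* ℂˣ, v ≠ 1 ∧
      classInner (fun w : A.W => (ψ : S.N → ℂ) ⟨(w : G), A.W_le_N w.2⟩) (RelDeg.lin v) ≠ 0 := by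
    intro ψ hψ
    set WN := A.W.subgroupOf S.N with hWN
    haveI : WN.Normal := A.normal_W.subgroupOf S.N
    haveI := Fintype.ofFinite WN
    obtain ⟨θ, hθ⟩ := exists_irr_constituent_res WN ψ.2
    have hWc : ∀ a b : WN, a * b = b * a := fun a b =>
      Subtype.ext (Subtype.ext (congrArg (fun z : A.W => (z : G))
        (hc ⟨((a : S.N) : G), Subgroup.mem_subgroupOf.1 a.2⟩
          ⟨((b : S.N) : G), Subgroup.mem_subgroupOf.1 b.2⟩) :))
    obtain ⟨v', hv'⟩ := exists_hom_of_degree_one θ.2.isCharacter (degree_eq_one_of_comm hWc θ.2)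
    refine ⟨v'.comp (Subgroup.subgroupOfEquivOfLe A.W_le_N).symm.toMonoidHom, fun e => ?_, ?_⟩
    · have hθ1 : (θ : WN → ℂ) = fun _ => 1 := by
        rw [hv']
        funext z
        have h1 := DFunLike.congr_fun e (Subgroup.subgroupOfEquivOfLe A.W_le_N z)
        rw [MonoidHom.comp_apply, MulEquiv.coe_toMonoidHom, MulEquiv.symm_apply_apply,
          MonoidHom.one_apply] at h1
        rw [h1, Units.val_one]
      refine hψ (charDegree_eq_one_of_trivial WN (fun n hn => Subgroup.mem_subgroupOf.2 (hmem n hn))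
        ψ.2 fun z hz => ?_)
      have h := clifford_invariant WN ψ.2 θ.2 (fun g => by rw [hθ1]; rfl) hθ
      have h1 := congrFun h ⟨z, hz⟩
      have h2 := congrFun h 1
      simp only [hθ1, Pi.smul_apply, smul_eq_mul, mul_one, OneMemClass.coe_one] at h1 h2
      rw [h1, h2]
    · have e : resTo A.W (RelDeg.lin (v'.comp
          (Subgroup.subgroupOfEquivOfLe A.W_le_N).symm.toMonoidHom)) S.N = (θ : WN → ℂ) := by
        rw [hv']
        funext z
        exact congrArg (fun y => ((v' y : ℂˣ) : ℂ)) (Subtype.ext (Subtype.ext rfl))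
      rw [← classInner_resTo A.W _ A.W_le_N, e]
      exact hθ
  -- one degree
  have hdeg : ∀ (ψ : IrrCharacter S.N) (v : A.W →* ℂˣ), v ≠ 1 →
      classInner (fun w : A.W => (ψ : S.N → ℂ) ⟨(w : G), A.W_le_N w.2⟩) (RelDeg.lin v) ≠ 0 →
      S.gdegN (ψ : S.N → ℂ) = (fixS A.rho v).index := by
    intro ψ v hv hψv
    obtain ⟨⟨χ, hχ, hχd⟩, -⟩ := S.degree_over ψ
    rw [← hχd]
    exact (A.fix_facts hv).2.2.2 χ (SectionParity.classInner_ne_zero_trans
      (Subgroup.inclusion A.W_le_N) (f := fun n : S.N => (χ : G → ℂ) n)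
      (χ.2.isCharacter.comp S.N.subtype) ψ.2 hχ (RelDeg.isIrr_lin A.W v) hψv)
  by_cases hv₀ : ∃ v : A.W →* ℂˣ, v ≠ 1
  · obtain ⟨v₀, hv₀⟩ := hv₀
    obtain ⟨F, hρ, -⟩ := A.exists_frame ⟨v₀, hv₀⟩
    obtain ⟨σ, s, hT⟩ := F.exists_top
    refine ⟨(fixS A.rho v₀).index, fun ψ hψ => ?_⟩
    obtain ⟨v, hv, hψv⟩ := hover ψ hψ
    rw [hdeg ψ v hv hψv, ← hρ, F.index_fixS hT hv, F.index_fixS hT hv₀]
  · refine ⟨0, fun ψ hψ => ?_⟩
    obtain ⟨v, hv, -⟩ := hover ψ hψ
    exact absurd ⟨v, hv⟩ hv₀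

end Abel

end Cfsg.Lib.Char.Ndad
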