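import Mathlib.GroupTheory.SpecificGroups.Cyclic
import Mathlib.Algebra.Group.Subgroup.Basic
import Mathlib.Tactic

/-!
# Norms in an abelian normalised subgroup, a Vandermonde argument and a size inequality
-/

set_option autoImplicit false
set_option linter.unusedSectionVars false
set_option linter.style.haveILetI false

namespace Cfsg.Lib.Char.Ndad

universe u

/-- Too many points for the fixed point sets. -/
theorem false_of_sizes {M Q s K E : ℕ} (hQ : 2 ≤ Q) (hs : 2 ≤ s) (hQM : Q ^ s ≤ M)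
    (hEM : (E + 1) ^ 2 ≤ M) (hcov : M - 1 ≤ K * (Q - 1)) (hKE : 2 * K ≤ s * E) : False := by
  set A := Nat.sqrt M with hA
  have hA1 : A * A ≤ M := Nat.sqrt_le M
  have hA2 : M < (A + 1) * (A + 1) := Nat.lt_succ_sqrt M
  have hEA : E + 1 ≤ A := Nat.le_sqrt'.2 hEM
  have hM4 : 4 ≤ M := le_trans (by
    calc (4 : ℕ) = 2 ^ 2 := rfl
      _ ≤ Q ^ 2 := Nat.pow_le_pow_left hQ 2
      _ ≤ Q ^ s := Nat.pow_le_pow_right (by omega) hs) hQM
  have hA3 : 2 ≤ A := Nat.le_sqrt'.2 (by omega)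
  have h1 : 2 * (M - 1) ≤ s * (A - 1) * (Q - 1) := by
    calc 2 * (M - 1) ≤ 2 * (K * (Q - 1)) := Nat.mul_le_mul_left _ hcov
      _ = 2 * K * (Q - 1) := by ring
      _ ≤ s * E * (Q - 1) := Nat.mul_le_mul_right _ hKE
      _ ≤ s * (A - 1) * (Q - 1) := Nat.mul_le_mul_right _ (Nat.mul_le_mul_left _ (by omega))
  have h2 : (A - 1) * (A + 1) ≤ M - 1 := by
    obtain ⟨B, hB⟩ : ∃ B, A = B + 1 := ⟨A - 1, by omega⟩
    rw [hB] at hA1 ⊢
    have : (B + 1 - 1) * (B + 1 + 1) + 1 = (B + 1) * (B + 1) := by simp only [Nat.add_sub_cancel]; ring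
    omega
  have h3 : (A - 1) * (2 * (A + 1)) ≤ (A - 1) * (s * (Q - 1)) := by
    calc (A - 1) * (2 * (A + 1)) = 2 * ((A - 1) * (A + 1)) := by ring
      _ ≤ 2 * (M - 1) := Nat.mul_le_mul_left _ h2
      _ ≤ s * (A - 1) * (Q - 1) := h1
      _ = (A - 1) * (s * (Q - 1)) := by ring
  have h4 := Nat.le_of_mul_le_mul_left h3 (by omega)
  have h5 : 4 * Q ^ s < s ^ 2 * (Q - 1) ^ 2 := by
    have := Nat.mul_le_mul h4 h4
    nlinarith
  have key : ∀ n, 2 ≤ n → n ^ 2 * (Q - 1) ^ 2 ≤ 4 * Q ^ n := by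
    intro n hn
    induction n, hn using Nat.le_induction with
    | base =>
      exact Nat.mul_le_mul_left 4 (Nat.pow_le_pow_left (Nat.sub_le _ _) 2)
    | succ k hk ih =>
      rw [pow_succ Q k]
      rcases Nat.lt_or_ge k 3 with hk3 | hk3
      · obtain rfl : k = 2 := by omega
        rcases Nat.lt_or_ge Q 3 with hQ3 | hQ3
        · obtain rfl : Q = 2 := by omega
          norm_num
        · calc (2 + 1) ^ 2 * (Q - 1) ^ 2 ≤ 4 * Q * (Q - 1) ^ 2 := Nat.mul_le_mul_right _ (by omega)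
            _ = Q * (2 ^ 2 * (Q - 1) ^ 2) := by ring
            _ ≤ Q * (4 * Q ^ 2) := Nat.mul_le_mul_left _ ih
            _ = _ := by ring
      · have hk2 : (k + 1) ^ 2 ≤ Q * k ^ 2 := by nlinarith
        calc (k + 1) ^ 2 * (Q - 1) ^ 2 ≤ Q * k ^ 2 * (Q - 1) ^ 2 := Nat.mul_le_mul_right _ hk2
          _ = Q * (k ^ 2 * (Q - 1) ^ 2) := by ring
          _ ≤ Q * (4 * Q ^ k) := Nat.mul_le_mul_left _ ih
          _ = _ := by ring
  exact absurd h5 (not_lt.2 (key s hs))

section Norm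

variable {X : Type u} [Group X]

/-- The norm of `c` along `n` steps of conjugation by `σ`. -/
def nrm (σ : X) (n : ℕ) (c : X) : X := (c * σ) ^ n * (σ ^ n)⁻¹

theorem nrm_zero (σ c : X) : nrm σ 0 c = 1 := by simp [nrm]

theorem nrm_succ (σ c : X) (n : ℕ) : nrm σ (n + 1) c = c * (σ * nrm σ n c * σ⁻¹) := by
  simp only [nrm, pow_succ', mul_inv_rev]
  simp only [mul_assoc, inv_mul_cancel_left]

theorem nrm_add (σ c : X) (b m : ℕ) :
    nrm σ (b + m) c = nrm σ b c * (σ ^ b * nrm σ m c * (σ ^ b)⁻¹) := by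
  simp only [nrm, pow_add, mul_inv_rev]
  group

theorem nrm_conj (σ c : X) (n : ℕ) : nrm σ n (σ * c * σ⁻¹) = σ * nrm σ n c * σ⁻¹ := by
  induction n with
  | zero => simp [nrm_zero]
  | succ n ih => rw [nrm_succ, ih, nrm_succ]; group

theorem nrm_conj_pow (σ c : X) (n b : ℕ) :
    nrm σ n (σ ^ b * c * (σ ^ b)⁻¹) = σ ^ b * nrm σ n c * (σ ^ b)⁻¹ := by
  induction b with
  | zero => simp
  | succ b ih =>
    rw [show σ ^ (b + 1) * c * (σ ^ (b + 1))⁻¹ = σ * (σ ^ b * c * (σ ^ b)⁻¹) * σ⁻¹ by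
      rw [pow_succ', mul_inv_rev]; group, nrm_conj, ih]
    rw [pow_succ', mul_inv_rev]; group

variable {A : Subgroup X} (hA : ∀ a ∈ A, ∀ b ∈ A, a * b = b * a) {σ : X}
  (hσ : ∀ a ∈ A, σ * a * σ⁻¹ ∈ A)

include hσ

omit hA in
theorem conj_pow_mem (n : ℕ) {a : X} (ha : a ∈ A) : σ ^ n * a * (σ ^ n)⁻¹ ∈ A := by
  induction n with
  | zero => simpa using ha
  | succ n ih =>
    rw [show σ ^ (n + 1) * a * (σ ^ (n + 1))⁻¹ = σ * (σ ^ n * a * (σ ^ n)⁻¹) * σ⁻¹ by
      rw [pow_succ', mul_inv_rev]; group]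
    exact hσ _ ih

omit hA in
theorem nrm_mem (n : ℕ) {c : X} (hc : c ∈ A) : nrm σ n c ∈ A := by
  induction n with
  | zero => rw [nrm_zero]; exact one_mem _
  | succ n ih => rw [nrm_succ]; exact mul_mem hc (hσ _ ih)

include hA

theorem nrm_mul (n : ℕ) {c d : X} (hc : c ∈ A) (hd : d ∈ A) :
    nrm σ n (c * d) = nrm σ n c * nrm σ n d := by
  induction n with
  | zero => simp [nrm_zero]
  | succ n ih =>
    rw [nrm_succ, ih, nrm_succ, nrm_succ]
    have h1 := hA _ hd _ (hσ _ (nrm_mem hσ n hc))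
    calc c * d * (σ * (nrm σ n c * nrm σ n d) * σ⁻¹)
        = c * (d * (σ * nrm σ n c * σ⁻¹)) * (σ * nrm σ n d * σ⁻¹) := by group
      _ = _ := by rw [h1]; group

/-- The norm as a homomorphism. -/
def nrmHom (n : ℕ) : A →* A :=
  MonoidHom.mk' (fun c => ⟨nrm σ n c, nrm_mem hσ n c.2⟩) fun c d =>
    Subtype.ext (nrm_mul hA hσ n c.2 d.2)

theorem nrm_mul_pow (b : ℕ) {c : X} (hc : c ∈ A) :
    ∀ j : ℕ, nrm σ (b * j) c = nrm σ b (nrm (σ ^ b) j c) := by
  have hσb : ∀ a ∈ A, σ ^ b * a * (σ ^ b)⁻¹ ∈ A := fun a ha => conj_pow_mem hσ b ha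
  intro j
  induction j with
  | zero => simp [nrm_zero, nrm]
  | succ j ih =>
    rw [show b * (j + 1) = b + b * j by ring, nrm_add, ih, nrm_succ (σ ^ b) c j,
      nrm_mul hA hσ b hc (hσb _ (nrm_mem hσb j hc)), nrm_conj_pow]

/-- Coprime split lifts give a split lift of the product. -/
theorem exists_lift_of_coprime {a b : ℕ} (hab : Nat.Coprime a b) (hz : σ ^ (a * b) ∈ A) {c d : X}
    (hc : c ∈ A) (hd : d ∈ A) (h1 : (c * σ ^ b) ^ a = 1) (h2 : (d * σ ^ a) ^ b = 1) :
    ∃ e ∈ A, (e * σ) ^ (a * b) = 1 := by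
  set z : A := ⟨σ ^ (a * b), hz⟩ with hzdef
  have hfix : ∀ m : ℕ, nrm σ m (z : X)⁻¹ = ((z : X)⁻¹) ^ m := by
    intro m
    induction m with
    | zero => simp [nrm_zero]
    | succ m ih =>
      rw [nrm_succ, ih, pow_succ']
      congr 1
      have hcomm : Commute σ (((z : X)⁻¹) ^ m) :=
        (((Commute.refl σ).pow_right (a * b)).inv_right).pow_right m
      rw [hcomm.eq, mul_inv_cancel_right]
  have key : ∀ (i j : ℕ), i * j = a * b → ∀ y ∈ A, (y * σ ^ j) ^ i = 1 →
      nrm σ (a * b) y = ((z : X)⁻¹) ^ j := by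
    intro i j hij y hy hy1
    rw [← hij, mul_comm i j, nrm_mul_pow hA hσ j hy, ← hfix j]
    congr 1
    rw [nrm, hy1, one_mul, ← pow_mul, mul_comm j i, hij]
  set N := nrmHom hA hσ (a * b)
  have e1 : N ⟨c, hc⟩ = (z⁻¹) ^ b := Subtype.ext (by
    simpa [N, nrmHom] using key a b rfl c hc h1)
  have e2 : N ⟨d, hd⟩ = (z⁻¹) ^ a := Subtype.ext (by
    simpa [N, nrmHom] using key b a (mul_comm b a) d hd h2)
  obtain ⟨i, j, hij⟩ := Nat.isCoprime_iff_coprime.mpr hab
  refine ⟨_, (⟨c, hc⟩ ^ j * ⟨d, hd⟩ ^ i : A).2, ?_⟩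
  have e3 : N (⟨c, hc⟩ ^ j * ⟨d, hd⟩ ^ i) = z⁻¹ := by
    rw [map_mul, map_zpow, map_zpow, e1, e2, ← zpow_natCast, ← zpow_mul, ← zpow_natCast z⁻¹ a,
      ← zpow_mul, ← zpow_add]
    rw [show (b : ℤ) * j + (a : ℤ) * i = 1 by linarith, zpow_one]
  have e4 := congrArg Subtype.val e3
  simp only [N, nrmHom, MonoidHom.mk'_apply, InvMemClass.coe_inv] at e4
  rw [nrm, mul_inv_eq_iff_eq_mul] at e4
  rw [e4, inv_mul_cancel]

end Norm

section Vandermonde

variable {V : Type u} [CommGroup V]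

/-- The quotient polynomial. -/
def quotCoef (z : MulAut V) (v : ℕ → V) (n l : ℕ) : V :=
  ∏ j ∈ Finset.range (n - l), (z ^ j) (v (l + 1 + j))

theorem quot_identity (z y : MulAut V) (hzy : Commute y z) :
    ∀ (n : ℕ) (v : ℕ → V), ∏ l ∈ Finset.range (n + 1), (y ^ l) (v l) =
      (∏ l ∈ Finset.range (n + 1), (z ^ l) (v l)) *
        y (∏ l ∈ Finset.range n, (y ^ l) (quotCoef z v n l)) *
        (z (∏ l ∈ Finset.range n, (y ^ l) (quotCoef z v n l)))⁻¹ := by
  intro n
  induction n with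
  | zero => intro v; simp
  | succ n ih =>
    intro v
    set v' : ℕ → V := fun l => v (l + 1) with hv'
    have hshift : ∀ l, quotCoef z v (n + 1) (l + 1) = quotCoef z v' n l := by
      intro l
      simp only [quotCoef, hv', Nat.succ_sub_succ]
      exact Finset.prod_congr rfl fun j _ => by congr 2; omega
    have h0 : quotCoef z v (n + 1) 0 = ∏ l ∈ Finset.range (n + 1), (z ^ l) (v' l) := by
      simp only [quotCoef, hv', Nat.sub_zero]
      exact Finset.prod_congr rfl fun j _ => by congr 2; omega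
    have hI := ih v'
    set P := ∏ l ∈ Finset.range (n + 1), (z ^ l) (v' l)
    set Qy := ∏ l ∈ Finset.range n, (y ^ l) (quotCoef z v' n l)
    have hc : ∀ a, y (z a) = z (y a) := fun a => DFunLike.congr_fun hzy.eq a
    have e : ∀ (w : MulAut V) (f : ℕ → V) (m : ℕ), ∏ l ∈ Finset.range (m + 1), (w ^ l) (f l) =
        w (∏ l ∈ Finset.range m, (w ^ l) (f (l + 1))) * f 0 := fun w f m => by
      rw [Finset.prod_range_succ', map_prod]
      simp [pow_succ']
    have e2 : ∏ l ∈ Finset.range (n + 1), (y ^ l) (quotCoef z v (n + 1) l) = y Qy * P := by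
      rw [e, h0, Finset.prod_congr rfl fun l _ => by rw [hshift l]]
    have eP : ∏ l ∈ Finset.range (n + 1), (z ^ l) (v (l + 1)) = P := rfl
    rw [e y v, e z v, e2, eP, hI]
    simp only [map_mul, map_inv, hc, mul_inv_rev]
    simp [mul_comm, mul_left_comm, mul_assoc]
    rw [mul_left_comm (z P) (y P), mul_inv_cancel_left]

/-- Separation by a Vandermonde matrix of commuting automorphisms. -/
theorem eq_one_of_vandermonde :
    ∀ (n : ℕ) (y : ℕ → MulAut V) (v : ℕ → V), (∀ i < n, ∀ j < n, Commute (y i) (y j)) →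
      (∀ i < n, ∀ j < n, i ≠ j → ∀ w : V, y i w = y j w → w = 1) →
      (∀ i < n, ∏ l ∈ Finset.range n, (y i ^ l) (v l) = 1) → ∀ l < n, v l = 1 := by
  intro n
  induction n with
  | zero => intro y v _ _ _ l hl; omega
  | succ n ih =>
    intro y v hc hd h
    set z := y n with hz
    have hw : ∀ l < n, quotCoef z v n l = 1 := by
      refine ih y _ (fun i hi j hj => hc i (by omega) j (by omega))
        (fun i hi j hj => hd i (by omega) j (by omega)) fun i hi => ?_
      have h1 := quot_identity z (y i) (hc i (by omega) n (by omega)) n v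
      rw [h i (by omega), h n (by omega), one_mul, eq_comm, mul_inv_eq_one] at h1
      exact hd i (by omega) n (by omega) (by omega) _ h1
    have hsucc : ∀ l < n, v (l + 1) = 1 := by
      intro l hl
      have h1 := hw l hl
      rw [quotCoef, show n - l = (n - (l + 1)) + 1 by omega, Finset.prod_range_succ'] at h1
      simp only [pow_succ', MulAut.mul_apply, ← map_prod, pow_zero, MulAut.one_apply,
        add_zero] at h1
      have h2 : ∏ j ∈ Finset.range (n - (l + 1)), (z ^ j) (v (l + 1 + (j + 1))) = 1 := by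
        rcases Nat.lt_or_ge (l + 1) n with hl' | hl'
        · rw [← hw (l + 1) hl', quotCoef]
          exact Finset.prod_congr rfl fun j _ => by congr 2; omega
        · rw [show n - (l + 1) = 0 by omega, Finset.prod_range_zero]
      rwa [h2, map_one, one_mul] at h1
    intro l hl
    rcases Nat.eq_zero_or_pos l with rfl | hl0
    · have h1 := h 0 hl
      rwa [Finset.prod_range_succ', Finset.prod_eq_one fun j hj => by
        rw [hsucc j (Finset.mem_range.1 hj), map_one], one_mul, pow_zero, MulAut.one_apply] at h1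
    · have := hsucc (l - 1) (by omega)
      rwa [Nat.sub_add_cancel hl0] at this

end Vandermonde

end Cfsg.Lib.Char.Ndad
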