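import Cfsg.Agent.Lib.Char.AbelianInertia
import Cfsg.Agent.Lib.Char.Extension
import Cfsg.Agent.Lib.Char.Gallagher
import Cfsg.Agent.Lib.Char.ThreeDegrees
import Cfsg.Agent.Lib.Char.MinimalDegrees
import Cfsg.Agent.Lib.Char.RelDegree

/-!
# Extensions to inertia groups and the degrees above
-/

set_option autoImplicit false
set_option linter.unusedSectionVars false
set_option linter.style.haveILetI false

namespace Cfsg.Lib.Char.Ndad

open Cfsg Cfsg.Lib.Char

universe u

variable {G : Type u} [Group G] [Fintype G]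

/-- An invariant character extends along a cyclic quotient. -/
theorem exists_extension_cyclic (N : Subgroup G) [N.Normal] {θ : N → ℂ}
    (hθ : IsIrrCharacter N θ) (hinv : ∀ g, conjTwist N θ g = θ) (hcyc : IsCyclic (G ⧸ N)) :
    ∃ χ : G → ℂ, IsIrrCharacter G χ ∧ (fun n : N => χ n) = θ := by
  obtain ⟨m, σ, hσ, rfl⟩ := hθ
  haveI := hσ
  obtain ⟨ρ, hρ⟩ := exists_extension_of_cyclic σ (fun g n =>
    (congrArg σ.character (Subtype.ext (MulAut.conjNormal_apply g n))).trans
      (congrFun (hinv g) n)) hcyc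
  haveI := isIrreducible_of_extension hρ
  exact ⟨ρ.character, isIrrCharacter_character ρ,
    funext fun n => congrArg (LinearMap.trace ℂ _) (hρ n)⟩

/-- An invariant character extends along a quotient with a normal Sylow subgroup of order prime to
the bottom and cyclic quotient. -/
theorem exists_extension_split (H R : Subgroup G) [H.Normal] [R.Normal] (hHR : H ≤ R) {θ : H → ℂ}
    (hθ : IsIrrCharacter H θ) (hinv : ∀ g, conjTwist H θ g = θ) {q : ℕ} (hq : q.Prime)
    (hHq : (Nat.card H).Coprime q) (hR : ∃ k, H.relIndex R = q ^ k) (hRq : ¬ q ∣ R.index)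
    (hcyc : IsCyclic (G ⧸ R)) :
    ∃ χ : G → ℂ, IsIrrCharacter G χ ∧ (fun n : H => χ n) = θ := by
  classical
  obtain ⟨m, σ, hσ, rfl⟩ := hθ
  haveI := hσ
  have hinv' : ∀ (g : G) (n : H), σ.character (MulAut.conjNormal g n) = σ.character n := fun g n =>
    (congrArg σ.character (Subtype.ext (MulAut.conjNormal_apply g n))).trans (congrFun (hinv g) n)
  -- an extension to a subgroup where the restricted character extends
  have pack : ∀ (P : Subgroup G) (hHP : H ≤ P) (η : P → ℂ), IsIrrCharacter P η →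
      (fun n : H.subgroupOf P => η n) = resTo H σ.character P →
        IsCharacter P η ∧ ∀ n : H, η ⟨n, hHP n.2⟩ = σ.character n := fun P hHP η hη hr =>
    ⟨hη.isCharacter, fun n => congrFun hr ⟨⟨n, hHP n.2⟩, Subgroup.mem_subgroupOf.2 n.2⟩⟩
  have hinvP : ∀ (P : Subgroup G) (t : P),
      haveI : (H.subgroupOf P).Normal := (inferInstance : H.Normal).subgroupOf P
      conjTwist (H.subgroupOf P) (resTo H σ.character P) t = resTo H σ.character P := by
    intro P t
    funext x
    exact congrFun (hinv (t : G)) ⟨((x : P) : G), Subgroup.mem_subgroupOf.1 x.2⟩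
  obtain ⟨ρ, hρ⟩ := exists_extension_of_local σ hinv' fun p hp => by
    haveI := Fact.mk hp
    obtain ⟨k, hk⟩ := hR
    rcases eq_or_ne p q with rfl | hpq
    · haveI : (H.subgroupOf R).Normal := (inferInstance : H.Normal).subgroupOf R
      obtain ⟨η, hη, hr⟩ := exists_extension_of_coprime (H.subgroupOf R)
        (isIrrCharacter_resTo H (isIrrCharacter_character σ) hHR) (hinvP R) (by
          rw [Nat.card_congr (Subgroup.subgroupOfEquivOfLe hHR).toEquiv,
            show (H.subgroupOf R).index = p ^ k from hk]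
          exact Nat.Coprime.pow_right k hHq)
      obtain ⟨h1, h2⟩ := pack R hHR η hη hr
      exact ⟨R, hHR, η, ((hp.coprime_iff_not_dvd).2 hRq).symm, h1, h2⟩
    · obtain ⟨P⟩ : Nonempty (Sylow p (G ⧸ H)) := inferInstance
      set P₀ := (P : Subgroup (G ⧸ H)).comap (QuotientGroup.mk' H) with hP₀
      have hHP : H ≤ P₀ := QuotientGroup.le_comap_mk' H _
      haveI : (H.subgroupOf P₀).Normal := (inferInstance : H.Normal).subgroupOf P₀
      have hcycP : IsCyclic (P₀ ⧸ H.subgroupOf P₀) := by
        let f : P₀ →* G ⧸ R := (QuotientGroup.mk' R).comp P₀.subtype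
        have hker : f.ker = H.subgroupOf P₀ := by
          refine le_antisymm (fun x hx => ?_) fun x hx => ?_
          · have hxR : (x : G) ∈ R := (QuotientGroup.eq_one_iff _).1 hx
            rw [Subgroup.mem_subgroupOf]
            obtain ⟨j, hj⟩ := P.2 ⟨QuotientGroup.mk' H x, x.2⟩
            have h1 : (QuotientGroup.mk' H x) ^ p ^ j = 1 := congrArg Subtype.val hj
            haveI : (H.subgroupOf R).Normal := (inferInstance : H.Normal).subgroupOf R
            have h2 : (QuotientGroup.mk' H x) ^ q ^ k = 1 := by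
              rw [← map_pow, ← hk]
              exact (QuotientGroup.eq_one_iff _).2 (Subgroup.mem_subgroupOf.1
                (Subgroup.pow_index_mem (H.subgroupOf R) ⟨(x : G), hxR⟩))
            exact (QuotientGroup.eq_one_iff _).1 (RelDeg.eq_one_of_pow_coprime h1 h2
              (Nat.Coprime.pow _ _ ((Nat.coprime_primes hp hq).2 hpq)))
          · exact (QuotientGroup.eq_one_iff _).2 (hHR (Subgroup.mem_subgroupOf.1 hx))
        haveI := hcyc
        haveI : IsCyclic f.range := Subgroup.isCyclic _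
        exact isCyclic_of_injective
          ((QuotientGroup.quotientKerEquivRange f).toMonoidHom.comp
            (QuotientGroup.quotientMulEquivOfEq hker.symm).toMonoidHom)
          ((QuotientGroup.quotientKerEquivRange f).injective.comp
            (QuotientGroup.quotientMulEquivOfEq hker.symm).injective)
      obtain ⟨η, hη, hr⟩ := exists_extension_cyclic (H.subgroupOf P₀)
        (isIrrCharacter_resTo H (isIrrCharacter_character σ) hHP) (hinvP P₀) hcycP
      obtain ⟨h1, h2⟩ := pack P₀ hHP η hη hr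
      refine ⟨P₀, hHP, η, ?_, h1, h2⟩
      rw [hP₀, Subgroup.index_comap_of_surjective _ (QuotientGroup.mk'_surjective H)]
      exact ((hp.coprime_iff_not_dvd).2 P.not_dvd_index).symm
  haveI := isIrreducible_of_extension hρ
  exact ⟨ρ.character, isIrrCharacter_character ρ,
    funext fun n => congrArg (LinearMap.trace ℂ _) (hρ n)⟩

variable (H : Subgroup G) [H.Normal] [Fintype H] {θ : H → ℂ}

/-- A character of the inertia group trivial on `H`, times an extension, induced. -/
theorem exists_gallagher_induced (hθ : IsIrrCharacter H θ) {I : Subgroup G}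
    (hI : I = inertia H θ) (hHI : H ≤ I) {η : I → ℂ} (hη : IsIrrCharacter I η)
    (hres : ∀ h : H, η ⟨h, hHI h.2⟩ = θ h)
    (β : IrrCharacter I)
    (hβ : ∀ h : I, (h : G) ∈ H → (β : I → ℂ) h = (β : I → ℂ) 1) :
    ∃ χ : IrrCharacter G, classInner (fun h : H => (χ : G → ℂ) h) θ ≠ 0 ∧
      (χ : G → ℂ) 1 = (I.index : ℂ) * θ 1 * (β : I → ℂ) 1 := by
  classical
  haveI := Fintype.ofFinite I
  haveI : (H.subgroupOf I).Normal := (inferInstance : H.Normal).subgroupOf I
  haveI := Fintype.ofFinite (H.subgroupOf I)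
  have hone : (fun _ : H.subgroupOf I => (1 : ℂ)) * resTo H θ I = resTo H θ I := by funext n; simp
  have hbij := gallagher_bijOn (H.subgroupOf I) (φ := fun _ : H.subgroupOf I => (1 : ℂ))
    (ϑ := resTo H θ I) isIrrCharacter_one (fun t => by funext n; rfl)
    (fun t => funext fun x => (mem_inertia_iff H).1 (hI ▸ t.2 : (t : G) ∈ inertia H θ) ⟨((x : I) : G), Subgroup.mem_subgroupOf.1 x.2⟩)
    (by rw [hone]; exact isIrrCharacter_resTo H hθ hHI) hη.isCharacter
    (fun x => hres ⟨((x : I) : G), Subgroup.mem_subgroupOf.1 x.2⟩)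
  have hmem : (β : I → ℂ) ∈ {γ : I → ℂ | IsIrrCharacter I γ ∧
      classInner (indFun (H.subgroupOf I) (fun _ : H.subgroupOf I => (1 : ℂ))) γ ≠ 0} := by
    refine ⟨β.2, ?_⟩
    rw [classInner_indFun (H.subgroupOf I) _ β.2.isClassFunction, ← classInner_conj_symm,
      show (fun n : H.subgroupOf I => (β : I → ℂ) n) = fun _ => (β : I → ℂ) 1 from
        funext fun n => hβ n (Subgroup.mem_subgroupOf.1 n.2),
      classInner_one_right, Finset.sum_const, Finset.card_univ, nsmul_eq_mul,
      Nat.card_eq_fintype_card, ← mul_assoc,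
      inv_mul_cancel₀ (Nat.cast_ne_zero.2 Fintype.card_ne_zero), one_mul]
    exact fun h0 => β.2.apply_one_ne_zero ((map_eq_zero _).1 h0)
  have hprod : IsIrrCharacter I ((β : I → ℂ) * η) := (hbij.mapsTo hmem).1
  have hprodH : (fun h : H => ((β : I → ℂ) * η) ⟨h, hHI h.2⟩) = (β : I → ℂ) 1 • θ := by
    funext h
    simp only [Pi.mul_apply, Pi.smul_apply, smul_eq_mul, hres h, hβ ⟨h, hHI h.2⟩ h.2]
  have hne : classInner (fun h : H => ((β : I → ℂ) * η) ⟨h, hHI h.2⟩) θ ≠ 0 := by
    rw [hprodH, classInner_smul_left, classInner_irr_self hθ, mul_one]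
    exact β.2.apply_one_ne_zero
  obtain ⟨hirr, hmult⟩ := clifford_induce H hθ hHI hI hprod hne
  refine ⟨⟨_, hirr⟩, by rw [hmult]; exact hne, ?_⟩
  show indFun I ((β : I → ℂ) * η) 1 = _
  rw [indFun_apply_one, Pi.mul_apply, show η 1 = θ 1 from hres 1]
  ring

/-- The degrees above when the inertia quotient is abelian and the character extends. -/
theorem apply_one_of_abelian_inertia (hθ : IsIrrCharacter H θ) {I : Subgroup G}
    (hI : I = inertia H θ) (hHI : H ≤ I) {η : I → ℂ} (hη : IsIrrCharacter I η)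
    (hres : ∀ h : H, η ⟨h, hHI h.2⟩ = θ h)
    (hab : ∀ x ∈ I, ∀ y ∈ I, x * y * x⁻¹ * y⁻¹ ∈ H) (χ : IrrCharacter G)
    (hχ : classInner (fun h : H => (χ : G → ℂ) h) θ ≠ 0) :
    (χ : G → ℂ) 1 = (I.index : ℂ) * θ 1 := by
  classical
  haveI := Fintype.ofFinite I
  haveI : (H.subgroupOf I).Normal := (inferInstance : H.Normal).subgroupOf I
  haveI := Fintype.ofFinite (H.subgroupOf I)
  obtain ⟨ψ, hψ, hψθ, hind, -⟩ := clifford_exists H hθ hHI hI χ.2 hχ
  have hone : (fun _ : H.subgroupOf I => (1 : ℂ)) * resTo H θ I = resTo H θ I := by funext n; simp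
  have hbij := gallagher_bijOn (H.subgroupOf I) (φ := fun _ : H.subgroupOf I => (1 : ℂ))
    (ϑ := resTo H θ I) isIrrCharacter_one (fun t => by funext n; rfl)
    (fun t => funext fun x => (mem_inertia_iff H).1 (hI ▸ t.2 : (t : G) ∈ inertia H θ) ⟨((x : I) : G), Subgroup.mem_subgroupOf.1 x.2⟩)
    (by rw [hone]; exact isIrrCharacter_resTo H hθ hHI) hη.isCharacter
    (fun x => hres ⟨((x : I) : G), Subgroup.mem_subgroupOf.1 x.2⟩)
  obtain ⟨β, ⟨hβ, hβc⟩, hβψ⟩ := hbij.surjOn (show ψ ∈ {ψ : I → ℂ | IsIrrCharacter I ψ ∧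
      classInner (indFun (H.subgroupOf I) ((fun _ => (1 : ℂ)) * resTo H θ I)) ψ ≠ 0} from ⟨hψ, by
    rw [hone, classInner_indFun_resTo_ne_zero H hHI hψ.isClassFunction]; exact hψθ⟩)
  have hker : ∀ n : H.subgroupOf I, β n = β 1 := fun n => apply_eq_of_constituent
    (isCharacter_indFun _ isIrrCharacter_one.isCharacter) hβ hβc (indFun_one_apply _ n)
  have hβ1 : β 1 = 1 := by
    have h1 : commutator I ≤ H.subgroupOf I := by
      rw [commutator_def, Subgroup.commutator_le]
      intro a _ b _
      rw [Subgroup.mem_subgroupOf]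
      exact hab a a.2 b b.2
    rw [hβ.apply_one_eq_charDegree, charDegree_eq_one_of_trivial (H.subgroupOf I) h1 hβ
      (fun n hn => hker ⟨n, hn⟩), Nat.cast_one]
  rw [← hind, indFun_apply_one, ← hβψ]
  show _ * (β 1 * η 1) = _
  rw [hβ1, one_mul, show η 1 = θ 1 from hres 1]

end Cfsg.Lib.Char.Ndad
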