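import Mathlib.FieldTheory.ChevalleyWarning
import Mathlib.LinearAlgebra.Matrix.SchurComplement
import Mathlib.LinearAlgebra.Matrix.ToLinearEquiv
import Mathlib.Algebra.MvPolynomial.NoZeroDivisors
import Mathlib.RingTheory.Polynomial.UniqueFactorization
import Mathlib.RingTheory.Localization.FractionRing
import Mathlib.Tactic

/-!
# Spaces of non-degenerate alternating forms

A vector space of alternating forms on a space of dimension `n`, all of whose non-zero members are
non-degenerate, has dimension at most `n / 2`: the determinant of the general member is the square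
of a polynomial of degree at most `n / 2`, and Chevalley-Warning gives a non-trivial zero.
-/

set_option autoImplicit false

namespace Cfsg.Lib.Char.Ndad.Forms

open Matrix

/-- The determinant of an alternating matrix over a field is a square. -/
theorem det_alt_isSquare {K : Type*} [Field K] :
    ∀ (m : ℕ) {ι : Type} [Fintype ι] [DecidableEq ι] (M : Matrix ι ι K), Fintype.card ι = m →
      (∀ i, M i i = 0) → (∀ i j, M j i = -M i j) → IsSquare M.det := by
  intro m
  induction m using Nat.strong_induction_on with
  | _ m ih =>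
  intro ι _ _ M hcard hd hs
  by_cases hι : IsEmpty ι
  · exact ⟨1, by simp⟩
  obtain ⟨i₀⟩ := not_isEmpty_iff.1 hι
  by_cases hrow : ∀ k, M i₀ k = 0
  · exact ⟨0, by rw [Matrix.det_eq_zero_of_row_eq_zero i₀ hrow, mul_zero]⟩
  push Not at hrow
  obtain ⟨k, hk⟩ := hrow
  have hne : i₀ ≠ k := fun h => hk (h ▸ hd i₀)
  let p : ι → Prop := fun i => i = i₀ ∨ i = k
  let e : {i // p i} ⊕ {i // ¬ p i} ≃ ι := Equiv.sumCompl p
  set A : Matrix {i // p i} {i // p i} K := M.submatrix Subtype.val Subtype.val
  set B : Matrix {i // p i} {i // ¬ p i} K := M.submatrix Subtype.val Subtype.val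
  set C : Matrix {i // ¬ p i} {i // p i} K := M.submatrix Subtype.val Subtype.val
  set D : Matrix {i // ¬ p i} {i // ¬ p i} K := M.submatrix Subtype.val Subtype.val
  have hM : M.submatrix e e = Matrix.fromBlocks A B C D := by
    ext (i | i) (j | j) <;> rfl
  let u : {i // p i} := ⟨i₀, Or.inl rfl⟩
  let v : {i // p i} := ⟨k, Or.inr rfl⟩
  have huniv : (Finset.univ : Finset {i // p i}) = {u, v} := by
    ext ⟨i, hi⟩
    rcases hi with rfl | rfl <;> simp [u, v]
  have huv : u ≠ v := fun h => hne (congrArg Subtype.val h)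
  -- the inverse of the leading block
  obtain ⟨c, hc⟩ : ∃ c, M i₀ k = c := ⟨_, rfl⟩
  rw [hc] at hk
  let A' : Matrix {i // p i} {i // p i} K :=
    fun a b => if a = b then 0 else if a = u then -c⁻¹ else c⁻¹
  have hk' : M k i₀ = -c := hc ▸ hs i₀ k
  have hAA : A * A' = 1 := by
    ext a b
    rw [Matrix.mul_apply, huniv, Finset.sum_pair huv]
    rcases a with ⟨a, rfl | rfl⟩ <;> rcases b with ⟨b, rfl | rfl⟩ <;>
      simp [A, A', u, v, hd, hne, hne.symm, hk', Matrix.one_apply, hk, hc]
  letI : Invertible A := invertibleOfRightInverse A A' hAA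
  have hinv : ⅟A = A' := invOf_eq_right_inv hAA
  have hA : IsSquare A.det := by
    refine ⟨c, ?_⟩
    have hcd : Fintype.card {i // p i} = 2 := by
      rw [← Finset.card_univ, huniv, Finset.card_pair huv]
    let f : Fin 2 → {i // p i} := ![u, v]
    have hf : Function.Bijective f := by
      rw [Fintype.bijective_iff_injective_and_card]
      refine ⟨?_, by simp [hcd]⟩
      intro a b h
      fin_cases a <;> fin_cases b <;> first | rfl | exact absurd h huv | exact absurd h huv.symm
    rw [← Matrix.det_submatrix_equiv_self (Equiv.ofBijective f hf) A, Matrix.det_fin_two]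
    simp [A, f, u, v, hd, hk', hc]
  rw [← Matrix.det_submatrix_equiv_self e M, hM, Matrix.det_fromBlocks₁₁, hinv]
  refine hA.mul (ih _ ?_ _ rfl ?_ ?_)
  · rw [← hcard]
    exact Fintype.card_subtype_lt (x := i₀) fun h => h (Or.inl rfl)
  all_goals
    intro i
    try intro j
    simp only [Matrix.sub_apply, Matrix.mul_apply, huniv, Finset.sum_pair huv]
    simp [A', B, C, D, u, v, hne, hne.symm, hd]
    try rw [hs i.1 j.1, hs i.1 i₀, hs i.1 k, hs j.1 i₀, hs j.1 k]
    try ring
    try (rw [hs i.1 i₀, hs i.1 k]; ring)

/-- The general member of a space of forms. -/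
noncomputable def generic {F : Type*} [CommRing F] {n d : ℕ} (M : Fin d → Matrix (Fin n) (Fin n) F) :
    Matrix (Fin n) (Fin n) (MvPolynomial (Fin d) F) :=
  fun i k => ∑ j, MvPolynomial.C (M j i k) * MvPolynomial.X j

theorem eval_generic {F : Type*} [CommRing F] {n d : ℕ} (M : Fin d → Matrix (Fin n) (Fin n) F)
    (x : Fin d → F) : MvPolynomial.eval x (generic M).det = (∑ j, x j • M j).det := by
  rw [RingHom.map_det]
  congr 1
  ext i k
  simp [generic, Matrix.sum_apply, mul_comm]

theorem totalDegree_det_generic {F : Type*} [CommRing F] [Nontrivial F] {n d : ℕ}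
    (M : Fin d → Matrix (Fin n) (Fin n) F) : (generic M).det.totalDegree ≤ n := by
  have hent : ∀ i k, (generic M i k).totalDegree ≤ 1 := fun i k => by
    refine (MvPolynomial.totalDegree_finsetSum_le fun j _ => ?_)
    refine (MvPolynomial.totalDegree_mul _ _).trans ?_
    simp [MvPolynomial.totalDegree_C, MvPolynomial.totalDegree_X]
  rw [Matrix.det_apply]
  refine MvPolynomial.totalDegree_finsetSum_le fun s _ => ?_
  refine (MvPolynomial.totalDegree_smul_le _ _).trans ?_
  refine (MvPolynomial.totalDegree_finset_prod _ _).trans ?_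
  refine (Finset.sum_le_sum fun i _ => hent (s i) i).trans ?_
  simp

/-- Few parameters: at most half the dimension. -/
theorem two_mul_le {F : Type} [Field F] [Fintype F] {n d : ℕ} (hn : 0 < n)
    (M : Fin d → Matrix (Fin n) (Fin n) F) (hd : ∀ j i, M j i i = 0)
    (hs : ∀ j i k, M j k i = -M j i k)
    (hnd : ∀ x : Fin d → F, x ≠ 0 → (∑ j, x j • M j).det ≠ 0) : 2 * d ≤ n := by
  classical
  by_contra hlt
  push Not at hlt
  set R := MvPolynomial (Fin d) F
  let K := FractionRing R
  obtain ⟨g, hg⟩ := det_alt_isSquare n ((generic M).map (algebraMap R K))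
    (Fintype.card_fin n) (fun i => by simp [generic, hd, Matrix.map_apply])
    (fun i k => by
      rw [Matrix.map_apply, Matrix.map_apply, ← map_neg, generic, generic, ← Finset.sum_neg_distrib]
      exact congrArg _ (Finset.sum_congr rfl fun j _ => by rw [hs j i k, map_neg, neg_mul]))
  rw [show (generic M).map (algebraMap R K) = (algebraMap R K).mapMatrix (generic M) from rfl,
    ← RingHom.map_det] at hg
  have hgint : IsIntegral R g := IsIntegral.of_pow two_pos (by
    rw [pow_two, ← hg]; exact isIntegral_algebraMap)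
  obtain ⟨f, hf⟩ := IsIntegrallyClosed.algebraMap_eq_of_integral hgint
  have hsq : (generic M).det = f * f := IsFractionRing.injective R K (by rw [map_mul, hf]; exact hg)
  have heval : ∀ x, (∑ j, x j • M j).det = MvPolynomial.eval x f * MvPolynomial.eval x f := fun x => by
    rw [← eval_generic, hsq, map_mul]
  have hne : f ≠ 0 := by
    rintro rfl
    let x : Fin d → F := fun _ => 1
    refine hnd x (fun h => one_ne_zero (congrFun h ⟨0, by omega⟩)) ?_
    rw [heval, map_zero, mul_zero]
  have hdeg : f.totalDegree < Fintype.card (Fin d) := by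
    have h := totalDegree_det_generic M
    rw [hsq, MvPolynomial.totalDegree_mul_of_isDomain hne hne] at h
    simp only [Fintype.card_fin]
    omega
  obtain ⟨p, hp⟩ := CharP.exists F
  haveI : Fact p.Prime := ⟨CharP.char_is_prime F p⟩
  have hdvd := char_dvd_card_solutions p hdeg
  have hzero : MvPolynomial.eval (0 : Fin d → F) f = 0 := by
    have h := heval 0
    simp only [Pi.zero_apply, zero_smul, Finset.sum_const_zero] at h
    haveI := Fin.pos_iff_nonempty.1 hn
    rw [Matrix.det_zero] at h
    exact mul_self_eq_zero.1 h.symm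
  have hone : Fintype.card {x : Fin d → F // MvPolynomial.eval x f = 0} = 1 :=
    Fintype.card_eq_one_iff.2 ⟨⟨0, hzero⟩, fun ⟨x, hx⟩ => Subtype.ext <| by
      by_contra hx0
      exact hnd x hx0 (by rw [heval, hx, mul_zero])⟩
  rw [hone] at hdvd
  exact (Fact.out : p.Prime).ne_one (Nat.dvd_one.1 hdvd)

/-- The bilinear version. -/
theorem two_finrank_le {F : Type} [Field F] [Fintype F] {V W : Type*} [AddCommGroup V] [Module F V]
    [AddCommGroup W] [Module F W] [Module.Finite F V] [Module.Finite F W] [Nontrivial V]
    (B : V →ₗ[F] V →ₗ[F] W) (halt : ∀ x, B x x = 0)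
    (hnd : ∀ φ : W →ₗ[F] F, φ ≠ 0 → ∀ x, (∀ y, φ (B x y) = 0) → x = 0) :
    2 * Module.finrank F W ≤ Module.finrank F V := by
  classical
  set bV := Module.finBasis F V
  set bW := Module.finBasis F W
  refine two_mul_le Module.finrank_pos (fun j => Matrix.of fun i k => bW.coord j (B (bV i) (bV k)))
    (fun j i => by simp [halt]) (fun j i k => ?_) fun x hx hdet => ?_
  · have h := halt (bV i + bV k)
    simp only [map_add, LinearMap.add_apply, halt, zero_add, add_zero] at h
    show bW.coord j (B (bV k) (bV i)) = -bW.coord j (B (bV i) (bV k))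
    rw [← map_neg, eq_neg_of_add_eq_zero_left (a := B (bV k) (bV i)) h]
  obtain ⟨v, hv, hmul⟩ := Matrix.exists_vecMul_eq_zero_iff.2 hdet
  set φ : W →ₗ[F] F := ∑ j, x j • bW.coord j with hφ
  have hφne : φ ≠ 0 := by
    intro h
    apply hx
    funext j
    have := LinearMap.congr_fun h (bW j)
    simpa [hφ, Finsupp.single_apply] using this
  refine hv ?_
  have h0 : (∑ i, v i • bV i) = 0 := by
    refine hnd φ hφne _ fun y => ?_
    have hk : ∀ k, φ (B (∑ i, v i • bV i) (bV k)) = 0 := fun k => by
      have h := congrFun hmul k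
      rw [Pi.zero_apply] at h
      rw [← h]
      simp only [Matrix.vecMul, dotProduct, Matrix.sum_apply, Matrix.smul_apply, Matrix.of_apply, map_sum,
        LinearMap.sum_apply, map_smul, LinearMap.smul_apply, hφ, smul_eq_mul]
    have e : (φ.comp (B (∑ i, v i • bV i))) = 0 := bV.ext fun k => by simpa using hk k
    exact LinearMap.congr_fun e y
  funext i
  exact Fintype.linearIndependent_iff.1 bV.linearIndependent v h0 i

end Cfsg.Lib.Char.Ndad.Forms
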