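import Cfsg.Agent.Lib.Char.Ndad.Count
import Cfsg.Agent.Lib.Char.NoDivide.Count
import Cfsg.Agent.Lib.Char.RelDegree
import Cfsg.Agent.Lib.Solv.FixedPointFree
import Mathlib.GroupTheory.Index
import Mathlib.GroupTheory.PGroup

/-!
# An abelian normal subgroup with cyclic quotient acting on a module, stabilisers of which form an
antichain
-/

set_option autoImplicit false
set_option linter.unusedSectionVars false
set_option linter.style.haveILetI false

namespace Cfsg.Lib.Char.Ndad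

open Cfsg Cfsg.Lib.Char

universe u v

/-- In a finite cyclic group the solutions of `b ^ orderOf a = 1` are the powers of `a`. -/
theorem mem_zpowers_of_pow {A : Type u} [Group A] [Finite A] [IsCyclic A] {a b : A}
    (h : b ^ orderOf a = 1) : b ∈ Subgroup.zpowers a := by
  letI : CommGroup A := IsCyclic.commGroup
  have hle : Subgroup.zpowers a ≤ (powMonoidHom (orderOf a) : A →* A).ker :=
    Subgroup.zpowers_le.2 (pow_orderOf_eq_one a)
  have hcard : Nat.card (powMonoidHom (orderOf a) : A →* A).ker ≤ Nat.card (Subgroup.zpowers a) := by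
    rw [IsCyclic.card_powMonoidHom_ker, Nat.card_zpowers,
      Nat.gcd_eq_right (orderOf_dvd_natCard a)]
  rw [Subgroup.eq_of_le_of_card_ge hle hcard]
  exact h

/-- A commutative group acting freely on a non-trivial module is cyclic. -/
theorem isCyclic_of_free {B : Type u} [CommGroup B] [Finite B] {V : Type v} [CommGroup V]
    [Finite V] (φ : B →* MulAut V) (hfpf : ∀ b : B, b ≠ 1 → ∀ w : V, φ b w = w → w = 1)
    (hV : ∃ w : V, w ≠ 1) : IsCyclic B := by
  by_contra hnc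
  obtain ⟨p, a, b, hp, ha1, ha, hb, hind⟩ :=
    Cfsg.Lib.Coprime.exists_two_independent_of_not_isCyclic hnc
  haveI := Fact.mk hp
  obtain ⟨w, hw⟩ := hV
  have hne : ∀ i j : ℕ, i < p → j < p → a ^ i * b ^ j = 1 → i = 0 ∧ j = 0 := by
    intro i j hi hj h
    have hj0 : j = 0 := by
      by_contra hj0
      refine hind ?_
      obtain ⟨m, hm⟩ := exists_pow_eq_self_of_coprime (x := b) (n := j)
        (Nat.Coprime.coprime_dvd_right (orderOf_dvd_of_pow_eq_one hb)
          (((hp.coprime_iff_not_dvd).2 fun hd =>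
            absurd (Nat.le_of_dvd (Nat.pos_of_ne_zero hj0) hd) (by omega)).symm))
      rw [← hm, eq_inv_of_mul_eq_one_right h]
      exact pow_mem (inv_mem (Subgroup.npow_mem_zpowers a i)) m
    refine ⟨?_, hj0⟩
    rw [hj0, pow_zero, mul_one] at h
    by_contra hi0
    have := Nat.le_of_dvd (Nat.pos_of_ne_zero hi0)
      ((orderOf_eq_prime ha ha1) ▸ orderOf_dvd_of_pow_eq_one h)
    omega
  have hwp := Cfsg.Lib.Solv.pow_eq_one_of_commuting_fpf φ hfpf (Commute.all a b) hp ha hb hne w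
  have hcop := Cfsg.Lib.Solv.coprime_of_fpf_hom φ hfpf
  have hpB : p ∣ Nat.card B := (orderOf_eq_prime ha ha1) ▸ orderOf_dvd_natCard a
  exact hw (RelDeg.eq_one_of_pow_coprime hwp (pow_card_eq_one' (x := w))
    (hcop.coprime_dvd_left hpB))

/-- The stabiliser of a point. -/
def fixS {L : Type u} [Group L] {V : Type v} [CommGroup V] (ρ : L →* MulAut V) (w : V) :
    Subgroup L where
  carrier := {g | ρ g w = w}
  one_mem' := by simp
  mul_mem' {a b} ha hb := by simp only [Set.mem_setOf_eq, map_mul, MulAut.mul_apply] at *; rw [hb, ha]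
  inv_mem' {a} ha := by
    simp only [Set.mem_setOf_eq] at *
    conv_lhs => rw [← ha]
    rw [← MulAut.mul_apply, ← map_mul, inv_mul_cancel, map_one, MulAut.one_apply]

theorem mem_fixS {L : Type u} [Group L] {V : Type v} [CommGroup V] {ρ : L →* MulAut V} {w : V}
    {g : L} : g ∈ fixS ρ w ↔ ρ g w = w := Iff.rfl

/-- The hypotheses. -/
structure Frame (L : Type u) [Group L] (V : Type v) [CommGroup V] where
  ρ : L →* MulAut V
  H : Subgroup L
  normal : H.Normal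
  comm : ∀ a ∈ H, ∀ b ∈ H, a * b = b * a
  g₀ : L
  gen : ∀ y, ∃ h ∈ H, ∃ k : ℕ, y = h * g₀ ^ k
  centfix : ∀ g ∉ H, ∀ h ∈ H, g * h = h * g → ∀ y : L, y * h = h * y
  q : ℕ
  hq : q.Prime
  x : L
  hx : x ∈ H
  hxq : x ^ q = 1
  hxmov : ∃ y : L, y * x ≠ x * y
  hqV : ¬ q ∣ Nat.card V
  hqf : ¬ q ∣ H.index
  nontriv : ∃ w : V, w ≠ 1
  stabCentral : ∀ w : V, w ≠ 1 → ∀ h ∈ H, ρ h w = w → ∀ y : L, y * h = h * y
  stabOut : ∀ w : V, w ≠ 1 → ∃ g ∉ H, ρ g w = w
  anti : ∀ w w' : V, w ≠ 1 → w' ≠ 1 → (fixS ρ w).index ∣ (fixS ρ w').index →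
    (fixS ρ w).index = (fixS ρ w').index
  notdvd : ∀ w : V, w ≠ 1 → ¬ H.index ∣ (fixS ρ w).index

namespace Frame

variable {L : Type u} [Group L] [Finite L] {V : Type v} [CommGroup V] [Finite V] (F : Frame L V)

include F

theorem conj_mem {g h : L} (hh : h ∈ F.H) : g * h * g⁻¹ ∈ F.H := F.normal.conj_mem h hh g

theorem hom_comm {a b : L} (ha : a ∈ F.H) (hb : b ∈ F.H) : F.ρ a * F.ρ b = F.ρ b * F.ρ a := by
  rw [← map_mul, ← map_mul, F.comm a ha b hb]

theorem mk_gen (y : L) :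
    haveI := F.normal
    ∃ k : ℕ, (y : L ⧸ F.H) = (F.g₀ : L ⧸ F.H) ^ k := by
  haveI := F.normal
  obtain ⟨h, hh, k, rfl⟩ := F.gen y
  exact ⟨k, by rw [QuotientGroup.mk_mul, (QuotientGroup.eq_one_iff h).2 hh, one_mul,
    QuotientGroup.mk_pow]⟩

theorem isCyclic_quot :
    haveI := F.normal
    IsCyclic (L ⧸ F.H) := by
  haveI := F.normal
  refine ⟨⟨(F.g₀ : L ⧸ F.H), fun y => ?_⟩⟩
  obtain ⟨y, rfl⟩ := QuotientGroup.mk_surjective y
  obtain ⟨k, hk⟩ := F.mk_gen y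
  exact ⟨k, by simp [hk]⟩

theorem g₀_pow_mem (j : ℕ) : F.g₀ ^ j ∈ F.H ↔ F.H.index ∣ j := by
  haveI := F.normal
  have ho : orderOf (F.g₀ : L ⧸ F.H) = F.H.index := by
    rw [Subgroup.index_eq_card]
    refine orderOf_eq_card_of_forall_mem_zpowers fun y => ?_
    obtain ⟨y, rfl⟩ := QuotientGroup.mk_surjective y
    obtain ⟨k, hk⟩ := F.mk_gen y
    exact ⟨k, by simp [hk]⟩
  rw [← ho, orderOf_dvd_iff_pow_eq_one, ← QuotientGroup.mk_pow, QuotientGroup.eq_one_iff]

theorem pow_index_mem (g : L) : g ^ F.H.index ∈ F.H := by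
  haveI := F.normal
  exact Subgroup.pow_index_mem F.H g

theorem eq_of_le {w w' : V} (hw : w ≠ 1) (hw' : w' ≠ 1) (h : fixS F.ρ w ≤ fixS F.ρ w') :
    fixS F.ρ w = fixS F.ρ w' := by
  have h1 := F.anti w' w hw' hw (Subgroup.index_dvd_of_le h)
  have h2 := Subgroup.relIndex_mul_index h
  rw [← h1] at h2
  exact le_antisymm h (Subgroup.relIndex_eq_one.1
    ((Nat.mul_eq_right Subgroup.index_ne_zero_of_finite).1 h2))

/-- An element of `H` fixing one point fixes all. -/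
theorem fix_all {h : L} (hh : h ∈ F.H) {w : V} (hw : w ≠ 1) (he : F.ρ h w = w) : F.ρ h = 1 := by
  have hcen := F.stabCentral w hw h hh he
  refine MulEquiv.ext fun u => ?_
  by_contra hu
  rw [MulAut.one_apply] at hu
  let φ : V → V := fun z => F.ρ h z * z⁻¹
  have hφ : ∀ z, fixS F.ρ z ≤ fixS F.ρ (φ z) := by
    intro z g hg
    rw [mem_fixS] at hg ⊢
    show F.ρ g (F.ρ h z * z⁻¹) = F.ρ h z * z⁻¹
    rw [map_mul, map_inv, hg, ← MulAut.mul_apply, ← map_mul, hcen g, map_mul, MulAut.mul_apply, hg]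
  have hφu : φ u ≠ 1 := fun e => hu (mul_inv_eq_one.1 e)
  have hu1 : u ≠ 1 := fun e => hu (by rw [e, map_one])
  have hφwu : φ (w * u) = φ u := by
    show F.ρ h (w * u) * (w * u)⁻¹ = F.ρ h u * u⁻¹
    rw [map_mul, he, mul_inv_rev, mul_comm u⁻¹, ← mul_assoc, mul_comm w, mul_assoc (F.ρ h u),
      mul_inv_cancel, mul_one]
  have hwu1 : w * u ≠ 1 := fun e => hφu (by rw [← hφwu, e]; simp [φ])
  have h1 : fixS F.ρ u = fixS F.ρ (w * u) := by
    rw [F.eq_of_le hu1 hφu (hφ u), F.eq_of_le hwu1 (hφwu ▸ hφu) (hφ _), hφwu]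
  have h2 : fixS F.ρ u ≤ fixS F.ρ w := by
    intro g hg
    have h3 : g ∈ fixS F.ρ (w * u) := h1 ▸ hg
    rw [mem_fixS] at hg h3 ⊢
    rw [map_mul, hg] at h3
    exact mul_right_cancel h3
  have h4 : h ∈ fixS F.ρ u := F.eq_of_le hu1 hw h2 ▸ he
  exact hu h4

/-- An element of `H` that acts trivially is central. -/
theorem central_of_ker {h : L} (hh : h ∈ F.H) (he : F.ρ h = 1) (y : L) : y * h = h * y := by
  obtain ⟨w, hw⟩ := F.nontriv
  exact F.stabCentral w hw h hh (by rw [he, MulAut.one_apply]) y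

/-- An element outside `H` commuting with an element of order prime to `f` modulo the kernel
commutes with it. -/
theorem comm_of_hom_comm {g h : L} (hh : h ∈ F.H) {r : ℕ} (hr : h ^ r = 1)
    (hcop : r.Coprime F.H.index) (he : F.ρ (g * h * g⁻¹) = F.ρ h) : g * h = h * g := by
  set t := g * h * g⁻¹ * h⁻¹ with ht
  have htH : t ∈ F.H := mul_mem (F.conj_mem hh) (inv_mem hh)
  have ht1 : F.ρ t = 1 := by rw [ht, map_mul, map_inv, he, mul_inv_cancel]
  have htc := F.central_of_ker htH ht1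
  have hgh : g * h * g⁻¹ = t * h := by rw [ht, inv_mul_cancel_right]
  have hit : ∀ n : ℕ, g ^ n * h * (g ^ n)⁻¹ = t ^ n * h := by
    intro n
    induction n with
    | zero => simp
    | succ n ih =>
      calc g ^ (n + 1) * h * (g ^ (n + 1))⁻¹ = g * (g ^ n * h * (g ^ n)⁻¹) * g⁻¹ := by
            rw [pow_succ', mul_inv_rev]; group
        _ = g * t ^ n * g⁻¹ * (g * h * g⁻¹) := by rw [ih]; group
        _ = t ^ n * (t * h) := by
            rw [(show Commute g (t ^ n) from (Commute.pow_right (htc g) n)).eq, mul_inv_cancel_right,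
              hgh]
        _ = _ := by rw [← mul_assoc, ← pow_succ]
  have e1 : t ^ F.H.index = 1 := by
    have h1 := hit F.H.index
    rw [F.comm _ (F.pow_index_mem g) h hh, mul_inv_cancel_right] at h1
    exact mul_eq_right.1 h1.symm
  have e2 : t ^ r = 1 := by
    have h1 : (t * h) ^ r = 1 := by rw [← hgh, conj_pow, hr, mul_one, mul_inv_cancel]
    rwa [(show Commute t h from (htc h).symm).mul_pow, hr, mul_one] at h1
  rw [← mul_inv_eq_iff_eq_mul, ← mul_inv_eq_one, ← ht]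
  exact RelDeg.eq_one_of_pow_coprime e2 e1 hcop

theorem x_coprime : F.q.Coprime F.H.index := (F.hq.coprime_iff_not_dvd).2 F.hqf

/-- Every element outside `H` moves the chosen element modulo the kernel. -/
theorem moved {g : L} (hg : g ∉ F.H) : F.ρ (g * F.x * g⁻¹) ≠ F.ρ F.x := fun he => by
  obtain ⟨y, hy⟩ := F.hxmov
  exact hy (F.centfix g hg F.x F.hx (F.comm_of_hom_comm F.hx F.hxq F.x_coprime he) y)

theorem mem_H_of_ker {g : L} (hg : F.ρ g = 1) : g ∈ F.H := by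
  by_contra hgH
  exact F.moved hgH (by rw [map_mul, map_mul, map_inv, hg, one_mul, inv_one, mul_one])

theorem x_ne : F.ρ F.x ≠ 1 := fun he => by
  obtain ⟨y, hy⟩ := F.hxmov
  exact hy (F.central_of_ker F.hx he y)

theorem orderOf_x : orderOf (F.ρ F.x) = F.q := by
  haveI := Fact.mk F.hq
  exact orderOf_eq_prime (by rw [← map_pow, F.hxq, map_one]) F.x_ne

/-- The image of `H`. -/
def G1 : Subgroup (MulAut V) := F.H.map F.ρ

theorem G1_comm : ∀ a ∈ F.G1, ∀ b ∈ F.G1, a * b = b * a := by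
  rintro _ ⟨a, ha, rfl⟩ _ ⟨b, hb, rfl⟩
  exact F.hom_comm ha hb

theorem G1_free {γ : MulAut V} (hγ : γ ∈ F.G1) {w : V} (hw : w ≠ 1) (he : γ w = w) : γ = 1 := by
  obtain ⟨h, hh, rfl⟩ := hγ
  exact F.fix_all hh hw he

theorem G1_conj {γ : MulAut V} (hγ : γ ∈ F.G1) (g : L) : F.ρ g * γ * (F.ρ g)⁻¹ ∈ F.G1 := by
  obtain ⟨h, hh, rfl⟩ := hγ
  exact ⟨g * h * g⁻¹, F.conj_mem hh, by simp⟩

theorem x_mem : F.ρ F.x ∈ F.G1 := ⟨F.x, F.hx, rfl⟩

theorem G1_cyclic : IsCyclic F.G1 := by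
  letI : CommGroup F.G1 := { (inferInstance : Group F.G1) with
    mul_comm := fun a b => Subtype.ext (F.G1_comm a a.2 b b.2) }
  haveI : Finite (MulAut V) := inferInstance
  exact isCyclic_of_free F.G1.subtype (fun b hb w hw => by
    by_contra hw1
    exact hb (Subtype.ext (F.G1_free b.2 hw1 hw))) F.nontriv

theorem G1_mem_zpowers {a b : MulAut V} (ha : a ∈ F.G1) (hb : b ∈ F.G1) (h : b ^ orderOf a = 1) :
    b ∈ Subgroup.zpowers a := by
  haveI := F.G1_cyclic
  have h1 : (⟨b, hb⟩ : F.G1) ∈ Subgroup.zpowers (⟨a, ha⟩ : F.G1) :=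
    mem_zpowers_of_pow (Subtype.ext (by
      rw [← Subgroup.orderOf_coe]; simpa using h))
  obtain ⟨i, hi⟩ := Subgroup.mem_zpowers_iff.1 h1
  exact Subgroup.mem_zpowers_iff.2 ⟨i, by simpa using congrArg Subtype.val hi⟩

theorem x_fpf {c : MulAut V} (hc : c ∈ Subgroup.zpowers (F.ρ F.x)) (hc1 : c ≠ 1) (w : V)
    (he : c w = w) : w = 1 := by
  by_contra hw
  exact hc1 (F.G1_free (Subgroup.zpowers_le.2 F.x_mem hc) hw he)

/-- Split elements fix a non-trivial point. -/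
theorem exists_fixed {g : L} (hg : ∀ j : ℕ, g ^ j ∈ F.H → F.ρ (g ^ j) = 1) :
    ∃ w : V, w ≠ 1 ∧ F.ρ g w = w := by
  by_contra hno
  push Not at hno
  obtain ⟨v, hv⟩ := F.nontriv
  set X := F.ρ F.x with hX
  set G := F.ρ g with hG
  set n := orderOf G with hn
  have hXq : X ^ F.q = 1 := by rw [hX, ← map_pow, F.hxq, map_one]
  -- orbit products of conjugates of `g`
  have hin : ∀ i : ℕ, ∀ u : V, ∏ j ∈ Finset.range n, (X ^ i * G ^ j * (X ^ i)⁻¹) u = 1 := by
    intro i u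
    by_contra hne
    set w := (X ^ i)⁻¹ (∏ j ∈ Finset.range n, (X ^ i * G ^ j * (X ^ i)⁻¹) u) with hw
    refine hno w (fun e => hne ((X ^ i)⁻¹.injective (by rw [← hw, e, map_one]))) ?_
    simp only [hw, map_prod, MulAut.mul_apply, MulAut.inv_apply_self]
    have h1 := Finset.prod_range_succ' (fun j => (G ^ j) ((X ^ i)⁻¹ u)) n
    have h2 := Finset.prod_range_succ (fun j => (G ^ j) ((X ^ i)⁻¹ u)) n
    rw [h1, hn, pow_orderOf_eq_one, pow_zero, ← hn] at h2
    have h3 := mul_right_cancel h2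
    simp only [pow_succ', MulAut.mul_apply] at h3
    exact h3
  have htot : ∏ i ∈ Finset.range F.q, ∏ j ∈ Finset.range n, (X ^ i * G ^ j * (X ^ i)⁻¹) v = 1 :=
    Finset.prod_eq_one fun i _ => hin i v
  rw [Finset.prod_comm] at htot
  have hrow : ∀ j ∈ Finset.range n, j ≠ 0 →
      ∏ i ∈ Finset.range F.q, (X ^ i * G ^ j * (X ^ i)⁻¹) v = 1 := by
    intro j hj hj0
    have hjH : g ^ j ∉ F.H := fun hm => by
      have h1 := hg j hm
      rw [map_pow] at h1
      exact absurd (Nat.le_of_dvd (Nat.pos_of_ne_zero hj0) (orderOf_dvd_of_pow_eq_one h1))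
        (not_le.2 (Finset.mem_range.1 hj))
    set Y := G ^ j * X * (G ^ j)⁻¹ with hY
    have hYG : Y ∈ F.G1 := by
      rw [hY, hG, ← map_pow]; exact F.G1_conj F.x_mem _
    set c := X * Y⁻¹ with hc
    have hc1 : c ≠ 1 := fun e => F.moved hjH (by
      rw [map_mul, map_mul, map_inv, map_pow, ← hX, ← hG, ← hY]
      exact (mul_inv_eq_one.1 e).symm)
    have hcG : c ∈ F.G1 := mul_mem F.x_mem (inv_mem hYG)
    have hXY : Commute X Y⁻¹ := F.G1_comm _ F.x_mem _ (inv_mem hYG)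
    have hcq : c ^ F.q = 1 := by
      rw [hc, hXY.mul_pow, hXq, inv_pow, hY, conj_pow, hXq, mul_one, mul_inv_cancel, inv_one, mul_one]
    have hterm : ∀ i : ℕ, X ^ i * G ^ j * (X ^ i)⁻¹ = c ^ i * G ^ j := by
      intro i
      rw [hc, hXY.mul_pow, inv_pow, hY, conj_pow]
      group
    simp only [hterm, MulAut.mul_apply]
    by_contra hne
    refine hne (by_contra fun _ => hc1 (F.G1_free hcG hne ?_))
    rw [map_prod, Finset.prod_congr rfl fun i _ => show c ((c ^ i) ((G ^ j) v)) =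
      (c ^ (i + 1)) ((G ^ j) v) from (DFunLike.congr_fun (pow_succ' c i) _).symm]
    have h1 := Finset.prod_range_succ' (fun i => (c ^ i) ((G ^ j) v)) F.q
    have h2 := Finset.prod_range_succ (fun i => (c ^ i) ((G ^ j) v)) F.q
    rw [h1, hcq, pow_zero] at h2
    exact mul_right_cancel h2
  rw [Finset.prod_eq_single_of_mem 0 (Finset.mem_range.2 (orderOf_pos G)) hrow] at htot
  simp only [pow_zero, mul_one, mul_inv_cancel, MulAut.one_apply, Finset.prod_const,
    Finset.card_range] at htot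
  exact hv (RelDeg.eq_one_of_pow_coprime htot (pow_card_eq_one' (x := v))
    ((F.hq.coprime_iff_not_dvd).2 F.hqV))

theorem split_of_fixed {g : L} {w : V} (hw : w ≠ 1) (he : F.ρ g w = w) :
    ∀ j : ℕ, g ^ j ∈ F.H → F.ρ (g ^ j) = 1 := fun j hj =>
  F.fix_all hj hw (mem_fixS.1 (pow_mem (mem_fixS.2 he : g ∈ fixS F.ρ w) j))

/-- Order `a` in the quotient is realised by a split element. -/
def Split (a : ℕ) : Prop :=
  a ∣ F.H.index ∧ ∃ h ∈ F.H, F.ρ (h * F.g₀ ^ (F.H.index / a)) ^ a = 1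

theorem split_of_dvd {a b : ℕ} (hab : a ∣ b) (hb : F.Split b) : F.Split a := by
  haveI := F.normal
  obtain ⟨hbf, h, hh, he⟩ := hb
  obtain ⟨c, rfl⟩ := hab
  have ha0 : a ≠ 0 := fun e => by
    rw [e, zero_mul, zero_dvd_iff] at hbf; exact Subgroup.index_ne_zero_of_finite hbf
  have hc0 : c ≠ 0 := fun e => by
    rw [e, mul_zero, zero_dvd_iff] at hbf; exact Subgroup.index_ne_zero_of_finite hbf
  obtain ⟨k, hk⟩ := hbf
  have e1 : F.H.index / a = k * c := by
    rw [hk, show a * c * k = k * c * a by ring, Nat.mul_div_cancel _ (Nat.pos_of_ne_zero ha0)]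
  have e2 : F.H.index / (a * c) = k := by
    rw [hk, Nat.mul_div_cancel_left _ (Nat.mul_pos (Nat.pos_of_ne_zero ha0) (Nat.pos_of_ne_zero hc0))]
  rw [e2] at he
  set σ := h * F.g₀ ^ k with hσ
  refine ⟨⟨c * k, by rw [hk]; ring⟩, σ ^ c * (F.g₀ ^ (k * c))⁻¹, ?_, ?_⟩
  · rw [← QuotientGroup.eq_one_iff, QuotientGroup.mk_mul, QuotientGroup.mk_inv, QuotientGroup.mk_pow,
      hσ, QuotientGroup.mk_mul, (QuotientGroup.eq_one_iff h).2 hh, one_mul, ← QuotientGroup.mk_pow,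
      ← pow_mul, mul_inv_cancel]
  · rw [e1, inv_mul_cancel_right, map_pow, ← pow_mul, mul_comm c a, he]

theorem split_mul {a b : ℕ} (hab : a.Coprime b) (ha : F.Split a) (hb : F.Split b) :
    F.Split (a * b) := by
  obtain ⟨haf, h, hh, he⟩ := ha
  obtain ⟨hbf, h', hh', he'⟩ := hb
  have hdvd := hab.mul_dvd_of_dvd_of_dvd haf hbf
  obtain ⟨k, hk⟩ := hdvd
  have ha0 : 0 < a := Nat.pos_of_ne_zero fun e => by
    rw [e, zero_mul, zero_mul] at hk; exact Subgroup.index_ne_zero_of_finite hk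
  have hb0 : 0 < b := Nat.pos_of_ne_zero fun e => by
    rw [e, mul_zero, zero_mul] at hk; exact Subgroup.index_ne_zero_of_finite hk
  have e1 : F.H.index / a = k * b := by
    rw [hk, show a * b * k = k * b * a by ring, Nat.mul_div_cancel _ ha0]
  have e2 : F.H.index / b = k * a := by
    rw [hk, show a * b * k = k * a * b by ring, Nat.mul_div_cancel _ hb0]
  have e3 : F.H.index / (a * b) = k := by
    rw [hk, Nat.mul_div_cancel_left _ (Nat.mul_pos ha0 hb0)]
  rw [e1, map_mul, map_pow, pow_mul] at he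
  rw [e2, map_mul, map_pow, pow_mul] at he'
  have hz : (F.ρ F.g₀ ^ k) ^ (a * b) ∈ F.G1 := by
    refine ⟨F.g₀ ^ (k * (a * b)), (F.g₀_pow_mem _).2 ⟨1, by rw [hk]; ring⟩, ?_⟩
    rw [map_pow, pow_mul]
  obtain ⟨e, ⟨h₃, hh₃, rfl⟩, h3⟩ := exists_lift_of_coprime F.G1_comm (σ := F.ρ F.g₀ ^ k)
    (fun γ hγ => by rw [← map_pow]; exact F.G1_conj hγ _) hab hz ⟨h, hh, rfl⟩ ⟨h', hh', rfl⟩ he he'
  exact ⟨⟨k, hk⟩, h₃, hh₃, by rw [e3, map_mul, map_pow]; exact h3⟩

/-- A split element in the largest class. -/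
theorem exists_top : ∃ (σ : L) (s : ℕ), 1 < s ∧ s ∣ F.H.index ∧ F.ρ σ ^ s = 1 ∧
    (∀ j : ℕ, σ ^ j ∈ F.H ↔ s ∣ j) ∧
    ∀ g : L, (∀ j : ℕ, g ^ j ∈ F.H → F.ρ (g ^ j) = 1) → g ∈ F.H ⊔ Subgroup.zpowers σ := by
  classical
  haveI := F.normal
  haveI := F.isCyclic_quot
  have hf0 : F.H.index ≠ 0 := Subgroup.index_ne_zero_of_finite
  -- a split element determines a split order
  have hof : ∀ g : L, (∀ j : ℕ, g ^ j ∈ F.H → F.ρ (g ^ j) = 1) →
      ∃ a, F.Split a ∧ a = orderOf (g : L ⧸ F.H) := by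
    intro g hg
    set a := orderOf (g : L ⧸ F.H) with ha
    have haf : a ∣ F.H.index := by rw [Subgroup.index_eq_card]; exact orderOf_dvd_natCard _
    refine ⟨a, ⟨haf, ?_⟩, rfl⟩
    have hu : ((F.g₀ ^ (F.H.index / a) : L) : L ⧸ F.H) ^ a = 1 := by
      rw [← QuotientGroup.mk_pow, ← pow_mul, Nat.div_mul_cancel haf, QuotientGroup.eq_one_iff,
        F.g₀_pow_mem]
    obtain ⟨i, hi⟩ := Submonoid.mem_powers_iff _ _ |>.1
      ((mem_powers_iff_mem_zpowers).2 (mem_zpowers_of_pow (a := (g : L ⧸ F.H)) hu))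
    refine ⟨g ^ i * (F.g₀ ^ (F.H.index / a))⁻¹, ?_, ?_⟩
    · rw [← QuotientGroup.eq_one_iff, QuotientGroup.mk_mul, QuotientGroup.mk_inv,
        QuotientGroup.mk_pow, hi, mul_inv_cancel]
    · rw [inv_mul_cancel_right, ← map_pow, ← pow_mul]
      refine hg _ ?_
      rw [← QuotientGroup.eq_one_iff, QuotientGroup.mk_pow, mul_comm, pow_mul, ha, pow_orderOf_eq_one,
        one_pow]
  set D := F.H.index.divisors.filter F.Split with hD
  have h1 : F.Split 1 := by
    refine ⟨one_dvd _, (F.g₀ ^ F.H.index)⁻¹, inv_mem ((F.g₀_pow_mem _).2 dvd_rfl), ?_⟩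
    rw [Nat.div_one, inv_mul_cancel, map_one, one_pow]
  have hmemD : ∀ a, F.Split a → a ∈ D := fun a ha =>
    Finset.mem_filter.2 ⟨Nat.mem_divisors.2 ⟨ha.1, hf0⟩, ha⟩
  obtain ⟨s, hsD, hmax⟩ := D.exists_max_image id ⟨1, hmemD 1 h1⟩
  have hs := (Finset.mem_filter.1 hsD).2
  have hall : ∀ a, F.Split a → a ∣ s := by
    intro a ha
    have hs0 : s ≠ 0 := fun e => hf0 (by simpa [e] using hs.1)
    have ha0 : a ≠ 0 := fun e => hf0 (by simpa [e] using ha.1)
    have hl : F.Split (Nat.lcm a s) := by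
      rw [← Nat.factorizationLCMLeft_mul_factorizationLCMRight ha0 hs0]
      exact F.split_mul (Nat.coprime_factorizationLCMLeft_factorizationLCMRight a s)
        (F.split_of_dvd (Nat.factorizationLCMLeft_dvd_left a s) ha)
        (F.split_of_dvd (Nat.factorizationLCMRight_dvd_right a s) hs)
    have h2 : Nat.lcm a s ≤ s := hmax _ (hmemD _ hl)
    have h3 : s ∣ Nat.lcm a s := Nat.dvd_lcm_right a s
    have h4 : 0 < Nat.lcm a s := Nat.pos_of_ne_zero (Nat.lcm_ne_zero ha0 hs0)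
    exact (le_antisymm h2 (Nat.le_of_dvd h4 h3)) ▸ Nat.dvd_lcm_left a s
  obtain ⟨hsf, h, hh, he⟩ := hs
  have hdiv : ∀ j, F.H.index ∣ F.H.index / s * j ↔ s ∣ j := fun j => by
    have hk : 0 < F.H.index / s := Nat.div_pos (Nat.le_of_dvd (Nat.pos_of_ne_zero hf0) hsf)
      (Nat.pos_of_ne_zero fun e => hf0 (by simpa [e] using hsf))
    nth_rw 1 [← Nat.div_mul_cancel hsf]
    exact Nat.mul_dvd_mul_iff_left hk
  have hσq : ((h * F.g₀ ^ (F.H.index / s) : L) : L ⧸ F.H) =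
      ((F.g₀ ^ (F.H.index / s) : L) : L ⧸ F.H) := by
    rw [QuotientGroup.mk_mul, (QuotientGroup.eq_one_iff h).2 hh, one_mul]
  have hmemσ : ∀ j : ℕ, (h * F.g₀ ^ (F.H.index / s)) ^ j ∈ F.H ↔ s ∣ j := fun j => by
    rw [← QuotientGroup.eq_one_iff, QuotientGroup.mk_pow, hσq, ← QuotientGroup.mk_pow, ← pow_mul,
      QuotientGroup.eq_one_iff, F.g₀_pow_mem, hdiv]
  refine ⟨h * F.g₀ ^ (F.H.index / s), s, ?_, hsf, he, fun j => ?_, fun g hg => ?_⟩
  · obtain ⟨w, hw⟩ := F.nontriv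
    obtain ⟨g, hgH, hg⟩ := F.stabOut w hw
    obtain ⟨a, ha, hao⟩ := hof g (F.split_of_fixed hw hg)
    have ha1 : a ≠ 1 := fun e => hgH ((QuotientGroup.eq_one_iff g).1
      (orderOf_eq_one_iff.1 (hao ▸ e)))
    have ha0 : a ≠ 0 := fun e => hf0 (by simpa [e] using ha.1)
    have hs0 : s ≠ 0 := fun e => hf0 (by simpa [e] using hsf)
    have := Nat.le_of_dvd (Nat.pos_of_ne_zero hs0) (hall a ha)
    omega
  · exact hmemσ j
  · obtain ⟨a, ha, hao⟩ := hof g hg
    have hord : orderOf ((h * F.g₀ ^ (F.H.index / s) : L) : L ⧸ F.H) = s := by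
      refine Nat.dvd_antisymm (orderOf_dvd_of_pow_eq_one ?_) ?_
      · rw [← QuotientGroup.mk_pow, QuotientGroup.eq_one_iff, hmemσ]
      · rw [← hmemσ, ← QuotientGroup.eq_one_iff, QuotientGroup.mk_pow, pow_orderOf_eq_one]
    have hmem : (g : L ⧸ F.H) ∈
        Subgroup.zpowers ((h * F.g₀ ^ (F.H.index / s) : L) : L ⧸ F.H) := by
      refine mem_zpowers_of_pow ?_
      rw [hord]
      exact orderOf_dvd_iff_pow_eq_one.1 (hao ▸ hall a ha)
    obtain ⟨i, hi⟩ := Subgroup.mem_zpowers_iff.1 hmem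
    rw [← QuotientGroup.mk_zpow, QuotientGroup.eq] at hi
    rw [show g = (h * F.g₀ ^ (F.H.index / s)) ^ i *
      (((h * F.g₀ ^ (F.H.index / s)) ^ i)⁻¹ * g) by group]
    exact mul_mem (Subgroup.mem_sup_right (Subgroup.zpow_mem_zpowers _ i)) (Subgroup.mem_sup_left hi)

end Frame

end Cfsg.Lib.Char.Ndad
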