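import Cfsg.Agent.Lib.Char.Ndad.Sys
import Cfsg.Agent.Lib.PGroup.ExponentEngel

/-!
# Linear functions on the layers of the lower central series
-/

set_option autoImplicit false
set_option linter.unusedSectionVars false
set_option linter.style.haveILetI false

namespace Cfsg.Lib.Char.Ndad

open Cfsg Cfsg.Lib.Char
open scoped commutatorElement

universe u v

variable {Q : Type u} [Group Q]

/-- The lower central series, starting with the whole group. -/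
abbrev lcs (Q : Type u) [Group Q] (k : ℕ) : Subgroup Q := (⊤ : Subgroup Q).lowerCentralSeries k

theorem comm_mem_lcs {i j : ℕ} {x y : Q} (hx : x ∈ lcs Q i) (hy : y ∈ lcs Q j) :
    ⁅x, y⁆ ∈ lcs Q (i + j + 1) :=
  PGroup.Engel.commutator_lcs_le j i (Subgroup.commutator_mem_commutator hx hy)

theorem comm_mem_one (x y : Q) : ⁅x, y⁆ ∈ lcs Q 1 := by
  have h : lcs Q 1 = commutator Q := Subgroup.top_lowerCentralSeries_one
  rw [h]
  exact Subgroup.commutator_mem_commutator (Subgroup.mem_top x) (Subgroup.mem_top y)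

theorem comm_mem_succ {k : ℕ} {z : Q} (hz : z ∈ lcs Q k) (x : Q) : ⁅z, x⁆ ∈ lcs Q (k + 1) := by
  have h : lcs Q (k + 1) = ⁅lcs Q k, (⊤ : Subgroup Q)⁆ := Subgroup.lowerCentralSeries_succ _ k
  rw [h]
  exact Subgroup.commutator_mem_commutator hz (Subgroup.mem_top x)

theorem lcs_le {i j : ℕ} (h : i ≤ j) : lcs Q j ≤ lcs Q i := Subgroup.lowerCentralSeries_antitone _ h

theorem mem_lcs_zero (x : Q) : x ∈ lcs Q 0 := Subgroup.mem_top x

theorem lcs_one : lcs Q 1 = commutator Q := Subgroup.top_lowerCentralSeries_one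

/-- A linear character of a normal subgroup that is invariant under conjugation, as a function
on the whole group. -/
structure IsLam (Z : Subgroup Q) (f : Q → ℂˣ) : Prop where
  map_mul : ∀ a ∈ Z, ∀ b ∈ Z, f (a * b) = f a * f b
  conj : ∀ g : Q, ∀ z ∈ Z, f (g * z * g⁻¹) = f z

namespace IsLam

variable {Z : Subgroup Q} {f h : Q → ℂˣ}

theorem map_one (hf : IsLam Z f) : f 1 = 1 := by
  simpa using hf.map_mul 1 (one_mem Z) 1 (one_mem Z)

theorem map_inv (hf : IsLam Z f) {a : Q} (ha : a ∈ Z) : f a⁻¹ = (f a)⁻¹ := by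
  rw [eq_inv_iff_mul_eq_one, ← hf.map_mul _ (inv_mem ha) _ ha, inv_mul_cancel, hf.map_one]

theorem map_pow (hf : IsLam Z f) {a : Q} (ha : a ∈ Z) : ∀ n : ℕ, f (a ^ n) = f a ^ n
  | 0 => by simp [hf.map_one]
  | n + 1 => by rw [pow_succ, pow_succ, hf.map_mul _ (pow_mem ha n) _ ha, map_pow hf ha n]

theorem mul (hf : IsLam Z f) (hh : IsLam Z h) : IsLam Z fun x => f x * h x :=
  ⟨fun a ha b hb => by rw [hf.map_mul a ha b hb, hh.map_mul a ha b hb, mul_mul_mul_comm],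
    fun g z hz => by rw [hf.conj g z hz, hh.conj g z hz]⟩

theorem inv (hf : IsLam Z f) : IsLam Z fun x => (f x)⁻¹ :=
  ⟨fun a ha b hb => by rw [hf.map_mul a ha b hb, mul_inv], fun g z hz => by rw [hf.conj g z hz]⟩

/-- The linear character itself. -/
def hom (hf : IsLam Z f) : Z →* ℂˣ where
  toFun z := f z
  map_one' := hf.map_one
  map_mul' a b := hf.map_mul a a.2 b b.2

@[simp] theorem hom_apply (hf : IsLam Z f) (z : Z) : hf.hom z = f z := rfl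

theorem hom_inv [Z.Normal] (hf : IsLam Z f) (g : Q) (z : Z) :
    hf.hom (MulAut.conjNormal g z) = hf.hom z := by
  rw [hom_apply, MulAut.conjNormal_apply]
  exact hf.conj g z z.2

theorem comm_mul_left [Z.Normal] (hf : IsLam Z f) {a b y : Q} (ha : ⁅a, y⁆ ∈ Z) (hb : ⁅b, y⁆ ∈ Z) :
    f ⁅a * b, y⁆ = f ⁅a, y⁆ * f ⁅b, y⁆ := by
  have e : ⁅a * b, y⁆ = a * ⁅b, y⁆ * a⁻¹ * ⁅a, y⁆ := by simp only [commutatorElement_def]; group
  rw [e, hf.map_mul _ (Subgroup.Normal.conj_mem ‹_› _ hb a) _ ha, hf.conj a _ hb, mul_comm]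

theorem comm_swap (hf : IsLam Z f) {x y : Q} (h : ⁅x, y⁆ ∈ Z) : f ⁅y, x⁆ = (f ⁅x, y⁆)⁻¹ := by
  rw [← commutatorElement_inv, hf.map_inv h]

theorem comm_mul_right [Z.Normal] (hf : IsLam Z f) {a b x : Q} (ha : ⁅x, a⁆ ∈ Z) (hb : ⁅x, b⁆ ∈ Z) :
    f ⁅x, a * b⁆ = f ⁅x, a⁆ * f ⁅x, b⁆ := by
  have e : ⁅x, a * b⁆ = ⁅x, a⁆ * (a * ⁅x, b⁆ * a⁻¹) := by simp only [commutatorElement_def]; group
  rw [e, hf.map_mul _ ha _ (Subgroup.Normal.conj_mem ‹_› _ hb a), hf.conj a _ hb]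

theorem comm_inv_left [Z.Normal] (hf : IsLam Z f) {a y : Q} (ha : ⁅a, y⁆ ∈ Z) :
    f ⁅a⁻¹, y⁆ = (f ⁅a, y⁆)⁻¹ := by
  have e : ⁅a⁻¹, y⁆ = a⁻¹ * ⁅a, y⁆⁻¹ * a⁻¹⁻¹ := by simp only [commutatorElement_def]; group
  rw [e, hf.conj _ _ (inv_mem ha), hf.map_inv ha]

theorem comm_inv_right [Z.Normal] (hf : IsLam Z f) {x a : Q} (ha : ⁅x, a⁆ ∈ Z) :
    f ⁅x, a⁻¹⁆ = (f ⁅x, a⁆)⁻¹ := by
  have e : ⁅x, a⁻¹⁆ = a⁻¹ * ⁅x, a⁆⁻¹ * a⁻¹⁻¹ := by simp only [commutatorElement_def]; group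
  rw [e, hf.conj _ _ (inv_mem ha), hf.map_inv ha]

theorem comm_comp (hf : IsLam Z f) (σ : MulAut Q) (hσ : ∀ z ∈ Z, σ z ∈ Z) :
    IsLam Z fun x => f (σ x) :=
  ⟨fun a ha b hb => by rw [_root_.map_mul, hf.map_mul _ (hσ a ha) _ (hσ b hb)],
    fun g z hz => by rw [_root_.map_mul, _root_.map_mul, _root_.map_inv, hf.conj _ _ (hσ z hz)]⟩

end IsLam

/-- A linear function on a layer of the lower central series. -/
structure Layer (k : ℕ) (f : Q → ℂˣ) : Prop where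
  map_mul : ∀ a ∈ lcs Q k, ∀ b ∈ lcs Q k, f (a * b) = f a * f b
  kills : ∀ a ∈ lcs Q (k + 1), f a = 1

namespace Layer

variable {k : ℕ} {f h : Q → ℂˣ}

theorem isLam (hf : Layer k f) : IsLam (lcs Q k) f :=
  ⟨hf.map_mul, fun g z hz => by
    have hc : ⁅g, z⁆ ∈ lcs Q (k + 1) := by
      have := comm_mem_lcs (mem_lcs_zero g) hz
      rwa [Nat.zero_add] at this
    rw [show g * z * g⁻¹ = ⁅g, z⁆ * z by simp only [commutatorElement_def]; group,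
      hf.map_mul _ (lcs_le (Nat.le_succ k) hc) _ hz, hf.kills _ hc, one_mul]⟩

theorem mul (hf : Layer k f) (hh : Layer k h) : Layer k fun x => f x * h x :=
  ⟨(hf.isLam.mul hh.isLam).map_mul, fun a ha => by rw [hf.kills a ha, hh.kills a ha, one_mul]⟩

theorem inv (hf : Layer k f) : Layer k fun x => (f x)⁻¹ :=
  ⟨hf.isLam.inv.map_mul, fun a ha => by rw [hf.kills a ha, inv_one]⟩

theorem eq_one_of_le (hf : Layer k f) {m : ℕ} (hm : k < m) {a : Q} (ha : a ∈ lcs Q m) : f a = 1 :=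
  hf.kills a (lcs_le hm ha)

theorem mul_left_eq (hf : Layer k f) {a b : Q} (ha : a ∈ lcs Q (k + 1)) (hb : b ∈ lcs Q k) :
    f (a * b) = f b := by
  rw [hf.map_mul _ (lcs_le (Nat.le_succ k) ha) _ hb, hf.kills a ha, one_mul]

/-- The commutator pairing into a layer is multiplicative on the left. -/
theorem pair_mul_left (hf : Layer k f) {i j : ℕ} (hk : i + j + 1 = k) {a b y : Q}
    (ha : a ∈ lcs Q i) (hb : b ∈ lcs Q i) (hy : y ∈ lcs Q j) :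
    f ⁅a * b, y⁆ = f ⁅a, y⁆ * f ⁅b, y⁆ :=
  hf.isLam.comm_mul_left (hk ▸ comm_mem_lcs ha hy) (hk ▸ comm_mem_lcs hb hy)

theorem pair_inv_left (hf : Layer k f) {i j : ℕ} (hk : i + j + 1 = k) {a y : Q}
    (ha : a ∈ lcs Q i) (hy : y ∈ lcs Q j) : f ⁅a⁻¹, y⁆ = (f ⁅a, y⁆)⁻¹ :=
  hf.isLam.comm_inv_left (hk ▸ comm_mem_lcs ha hy)

theorem pair_mul_right (hf : Layer k f) {i j : ℕ} (hk : i + j + 1 = k) {x a b : Q}
    (hx : x ∈ lcs Q i) (ha : a ∈ lcs Q j) (hb : b ∈ lcs Q j) :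
    f ⁅x, a * b⁆ = f ⁅x, a⁆ * f ⁅x, b⁆ :=
  hf.isLam.comm_mul_right (hk ▸ comm_mem_lcs hx ha) (hk ▸ comm_mem_lcs hx hb)

theorem pair_deep_left (hf : Layer k f) {i j : ℕ} (hk : k < i + j + 1) {a y : Q}
    (ha : a ∈ lcs Q i) (hy : y ∈ lcs Q j) : f ⁅a, y⁆ = 1 :=
  hf.eq_one_of_le hk (comm_mem_lcs ha hy)

/-- The Jacobi identity on a layer. -/
theorem jacobi (hf : Layer k f) {i j l : ℕ} (hk : i + j + l + 2 = k) {x y z : Q}
    (hx : x ∈ lcs Q i) (hy : y ∈ lcs Q j) (hz : z ∈ lcs Q l) :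
    f ⁅⁅x, y⁆, z⁆ * f ⁅⁅y, z⁆, x⁆ * f ⁅⁅z, x⁆, y⁆ = 1 := by
  have key : ∀ {i j l : ℕ}, i + j + l + 2 = k → ∀ {a b c : Q}, a ∈ lcs Q i → b ∈ lcs Q j →
      c ∈ lcs Q l → ⁅⁅b⁻¹, a⁆, c⁆ ∈ lcs Q k ∧ f ⁅⁅b⁻¹, a⁆, c⁆ = f ⁅⁅a, b⁆, c⁆ := by
    intro i j l hk a b c ha hb hc
    have hab : ⁅a, b⁆ ∈ lcs Q (i + j + 1) := comm_mem_lcs ha hb
    have hd : ⁅b⁻¹, ⁅a, b⁆⁆ ∈ lcs Q (j + (i + j + 1) + 1) := comm_mem_lcs (inv_mem hb) hab
    have e : ⁅b⁻¹, a⁆ = ⁅b⁻¹, ⁅a, b⁆⁆ * ⁅a, b⁆ := by simp only [commutatorElement_def]; group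
    have hd' : ⁅b⁻¹, ⁅a, b⁆⁆ ∈ lcs Q (i + j + 1) := lcs_le (by omega) hd
    refine ⟨?_, ?_⟩
    · rw [e]
      have := comm_mem_lcs (mul_mem hd' hab) hc
      rwa [show i + j + 1 + l + 1 = k by omega] at this
    · rw [e, hf.pair_mul_left (i := i + j + 1) (j := l) (by omega) hd' hab hc,
        hf.pair_deep_left (i := j + (i + j + 1) + 1) (j := l) (by omega) hd hc, one_mul]
  obtain ⟨m1, e1⟩ := key hk hx hy hz
  obtain ⟨m2, e2⟩ := key (show j + l + i + 2 = k by omega) hy hz hx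
  obtain ⟨m3, e3⟩ := key (show l + i + j + 2 = k by omega) hz hx hy
  have hN : (lcs Q k).Normal := inferInstance
  have h1 : y * ⁅⁅y⁻¹, x⁆, z⁆ * y⁻¹ * (z * ⁅⁅z⁻¹, y⁆, x⁆ * z⁻¹) * (x * ⁅⁅x⁻¹, z⁆, y⁆ * x⁻¹) = 1 := by
    simp only [commutatorElement_def]; group
  have h2 := congrArg f h1
  rw [hf.map_mul _ (mul_mem (hN.conj_mem _ m1 y) (hN.conj_mem _ m2 z)) _ (hN.conj_mem _ m3 x),
    hf.map_mul _ (hN.conj_mem _ m1 y) _ (hN.conj_mem _ m2 z), hf.isLam.conj _ _ m1,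
    hf.isLam.conj _ _ m2, hf.isLam.conj _ _ m3, hf.isLam.map_one, e1, e2, e3] at h2
  exact h2

end Layer

/-- The layer functions separate the points of a layer. -/
theorem mem_lcs_succ_of_layer [Finite Q] {k : ℕ} {z : Q} (hz : z ∈ lcs Q k)
    (h : ∀ f : Q → ℂˣ, Layer k f → f z = 1) : z ∈ lcs Q (k + 1) := by
  classical
  by_contra hnot
  let A := ↥(lcs Q k) ⧸ (lcs Q (k + 1)).subgroupOf (lcs Q k)
  have hcomm : ∀ a b : A, a * b = b * a := by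
    intro a b
    obtain ⟨a, rfl⟩ := QuotientGroup.mk_surjective a
    obtain ⟨b, rfl⟩ := QuotientGroup.mk_surjective b
    show ((a * b : ↥(lcs Q k)) : A) = ((b * a : ↥(lcs Q k)) : A)
    refine (QuotientGroup.eq).2 ?_
    rw [Subgroup.mem_subgroupOf]
    show ((a : Q) * b)⁻¹ * ((b : Q) * a) ∈ _
    rw [show ((a : Q) * b)⁻¹ * ((b : Q) * a) = ⁅(b : Q)⁻¹, (a : Q)⁻¹⁆ by
      simp only [commutatorElement_def]; group]
    exact lcs_le (by omega) (comm_mem_lcs (inv_mem b.2) (inv_mem a.2))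
  letI : CommGroup A := { (inferInstance : Group A) with mul_comm := hcomm }
  haveI : Fintype A := Fintype.ofFinite _
  haveI : NeZero (Monoid.exponent A) := ⟨Monoid.ExponentExists.of_finite.exponent_ne_zero⟩
  obtain ⟨φ, hφ⟩ := CommGroup.exists_apply_ne_one_of_hasEnoughRootsOfUnity A ℂ
    (a := ((⟨z, hz⟩ : ↥(lcs Q k)) : A)) fun e =>
      hnot (Subgroup.mem_subgroupOf.1 ((QuotientGroup.eq_one_iff _).1 e))
  let F : Q → ℂˣ := fun x => if hx : x ∈ lcs Q k then φ ((⟨x, hx⟩ : ↥(lcs Q k)) : A) else 1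
  have hF : ∀ x (hx : x ∈ lcs Q k), F x = φ ((⟨x, hx⟩ : ↥(lcs Q k)) : A) := fun x hx => dif_pos hx
  refine hφ ((hF z hz).symm.trans (h F ⟨fun a ha b hb => ?_, fun a ha => ?_⟩))
  · rw [hF _ (mul_mem ha hb), hF a ha, hF b hb, ← map_mul]
    rfl
  · rw [hF a (lcs_le (Nat.le_succ k) ha)]
    rw [(QuotientGroup.eq_one_iff _).2 (Subgroup.mem_subgroupOf.2 ha), map_one]

section Char

variable [Fintype Q]

/-- An irreducible character over a linear function. -/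
theorem IsLam.exists_over {Z : Subgroup Q} [Z.Normal] {f : Q → ℂˣ} (hf : IsLam Z f) :
    ∃ χ : IrrCharacter Q, Over Z hf.hom χ :=
  exists_over_lam Z hf.hom hf.hom_inv

theorem IsLam.over_apply {Z : Subgroup Q} {f : Q → ℂˣ} (hf : IsLam Z f) {χ : Q → ℂ}
    (hO : Over Z hf.hom χ) {z : Q} (hz : z ∈ Z) : χ z = χ 1 * (f z : ℂ) := hO ⟨z, hz⟩

/-- A character over a non-trivial function on the derived group is non-linear. -/
theorem IsLam.degree_ne_one {Z : Subgroup Q} {f : Q → ℂˣ} (hf : IsLam Z f) (hZ : Z ≤ commutator Q)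
    {z : Q} (hz : z ∈ Z) (hfz : f z ≠ 1) {χ : IrrCharacter Q} (hO : Over Z hf.hom χ) :
    charDegree (χ : Q → ℂ) ≠ 1 := by
  intro h
  have h1 : (χ : Q → ℂ) 1 = 1 := by rw [χ.2.apply_one_eq_charDegree, h, Nat.cast_one]
  obtain ⟨L, hL⟩ := exists_hom_of_degree_one χ.2.isCharacter h1
  refine hfz (Units.ext ?_)
  have h2 := hf.over_apply hO hz
  rw [congrFun hL z, h1, one_mul, Abelianization.commutator_subset_ker L (hZ hz)] at h2
  exact h2.symm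

end Char

end Cfsg.Lib.Char.Ndad
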