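import Cfsg.Agent.Lib.Char.Ndad.Forms
import Mathlib.LinearAlgebra.Dual.Lemmas
import Mathlib.LinearAlgebra.Quotient.Bilinear

/-!
# Linear algebra against a fourth layer
-/

set_option autoImplicit false
set_option linter.unusedSectionVars false
set_option linter.style.haveILetI false

namespace Cfsg.Lib.Char.Ndad.LieAlg

open Module

variable {K : Type} [Field K] [Fintype K]

section Generic

variable {A B : Type*} [AddCommGroup A] [Module K A] [AddCommGroup B] [Module K B]
  [Module.Finite K A] [Module.Finite K B]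

/-- The right kernel of a pairing with trivial left kernel. -/
theorem finrank_rightKer (f : A →ₗ[K] B →ₗ[K] K) (h : ∀ a, (∀ b, f a b = 0) → a = 0) :
    finrank K (LinearMap.ker f.flip) + finrank K A = finrank K B := by
  have h1 := LinearMap.finrank_range_add_finrank_ker f.flip
  have h2 := Subspace.finrank_add_finrank_dualCoannihilator_eq (LinearMap.range f.flip)
  have h3 : (LinearMap.range f.flip).dualCoannihilator = ⊥ := by
    rw [eq_bot_iff]
    intro a ha
    refine (Submodule.mem_bot K).2 (h a fun b => ?_)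
    exact (Submodule.mem_dualCoannihilator a).1 ha _ ⟨b, rfl⟩
  have hb : finrank K (LinearMap.range f.flip).dualCoannihilator = 0 := by
    rw [h3]
    exact finrank_bot K A
  rw [hb, add_zero] at h2
  calc finrank K (LinearMap.ker f.flip) + finrank K A
      = finrank K (LinearMap.ker f.flip) + finrank K (LinearMap.range f.flip) :=
        congrArg _ h2.symm
    _ = finrank K B := (add_comm _ _).trans h1

/-- An isotropic subspace of a non-degenerate form. -/
theorem two_finrank_le_of_isotropic (f : A →ₗ[K] A →ₗ[K] K)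
    (h : ∀ a, (∀ b, f a b = 0) → a = 0) (I : Submodule K A)
    (hI : ∀ a ∈ I, ∀ b ∈ I, f a b = 0) : 2 * finrank K I ≤ finrank K A := by
  have h1 := finrank_rightKer (f.comp I.subtype) fun a ha => Subtype.ext (h a ha)
  have h2 : I ≤ LinearMap.ker (f.comp I.subtype).flip := fun b hb => by
    ext a
    exact hI a a.2 b hb
  have h3 := Submodule.finrank_mono h2
  omega

end Generic

section Adjoint

variable {L E : Type*} [AddCommGroup L] [Module K L] [AddCommGroup E] [Module K E]
  [Module.Finite K L] [Module.Finite K E] [Nontrivial L]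

/-- A space of self-adjoint operators with self-adjoint products, all non-zero members injective,
has at most half the dimension. -/
theorem two_finrank_le (P : L →ₗ[K] L →ₗ[K] K) (halt : ∀ x, P x x = 0)
    (hnd : ∀ x, (∀ y, P x y = 0) → x = 0) (R : E →ₗ[K] Module.End K L)
    (hself : ∀ a x y, P (R a x) y = P x (R a y))
    (hprod : ∀ a b x y, P (R a x) (R b y) = P (R b x) (R a y))
    (hinj : ∀ a, a ≠ 0 → ∀ x, R a x = 0 → x = 0) :
    2 * finrank K E ≤ finrank K L := by
  classical
  by_contra hlt
  push Not at hlt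
  have hskew : ∀ x y, P x y = -P y x := fun x y => by
    have h := halt (x + y)
    simp only [map_add, LinearMap.add_apply, halt, zero_add, add_zero] at h
    exact eq_neg_of_add_eq_zero_right h
  have hcomm : ∀ a b, Commute (R a) (R b) := fun a b => LinearMap.ext fun y => by
    refine sub_eq_zero.1 (hnd _ fun x => ?_)
    have e : P x (R a (R b y)) = P x (R b (R a y)) :=
      (hself a x (R b y)).symm.trans ((hprod a b x y).trans (hself b x (R a y)))
    rw [hskew, map_sub]
    simp [Module.End.mul_apply, e]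
  set 𝒜 := Algebra.adjoin K (Set.range R) with h𝒜
  have hcR : ∀ T ∈ 𝒜, ∀ a, Commute T (R a) := by
    intro T hT
    induction hT using Algebra.adjoin_induction with
    | mem T hT => obtain ⟨b, rfl⟩ := hT; exact fun a => hcomm b a
    | algebraMap r => exact fun a => Algebra.commutes r (R a)
    | add x y _ _ hx hy => exact fun a => (hx a).add_left (hy a)
    | mul x y _ _ hx hy => exact fun a => (hx a).mul_left (hy a)
  have hcA : ∀ T ∈ 𝒜, ∀ S ∈ 𝒜, Commute T S := by
    intro T hT S hS
    induction hS using Algebra.adjoin_induction with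
    | mem S hS => obtain ⟨a, rfl⟩ := hS; exact hcR T hT a
    | algebraMap r => exact (Algebra.commutes r T).symm
    | add x y _ _ hx hy => exact hx.add_right hy
    | mul x y _ _ hx hy => exact hx.mul_right hy
  have hadj : ∀ T ∈ 𝒜, ∀ x y, P (T x) y = P x (T y) := by
    intro T hT
    induction hT using Algebra.adjoin_induction with
    | mem T hT => obtain ⟨b, rfl⟩ := hT; exact hself b
    | algebraMap r => intro x y; simp [Module.algebraMap_end_apply]
    | add x y _ _ hx hy => intro u v; simp [hx u v, hy u v]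
    | mul x y hxA hyA hx hy =>
      intro u v
      rw [Module.End.mul_apply, hx, hy, ← Module.End.mul_apply, (hcA y hyA x hxA).eq]
  -- no element of square zero
  have hsq : ∀ T ∈ 𝒜, T * T = 0 → T = 0 := by
    intro T hT hTT
    by_contra hne
    obtain ⟨v, hv⟩ : ∃ v, T v ≠ 0 := by
      by_contra h
      push Not at h
      exact hne (LinearMap.ext h)
    let ev : E →ₗ[K] L := (LinearMap.applyₗ (T v)).comp R
    have hev : Function.Injective ev := by
      rw [← LinearMap.ker_eq_bot, eq_bot_iff]
      intro a ha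
      by_contra ha0
      exact hv (hinj a ha0 _ ha)
    have hmem : ∀ a, R a (T v) ∈ LinearMap.range T := fun a =>
      ⟨R a v, by rw [← Module.End.mul_apply, (hcR T hT a).eq]; rfl⟩
    have h1 : finrank K E ≤ finrank K (LinearMap.range T) :=
      LinearMap.finrank_le_finrank_of_injective (f := LinearMap.codRestrict _ ev hmem)
        fun a b h => hev (congrArg Subtype.val h)
    have h2 : LinearMap.range T ≤ LinearMap.ker T := by
      rintro _ ⟨x, rfl⟩
      exact LinearMap.congr_fun hTT x
    have h3 := Submodule.finrank_mono h2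
    have h4 := LinearMap.finrank_range_add_finrank_ker T
    omega
  have hPT : ∀ T ∈ 𝒜, ∀ x, P x (T x) = 0 := by
    intro T hT x
    by_cases h2 : (2 : K) = 0
    · haveI : Finite L := Module.finite_of_finite K
      haveI : Finite (Module.End K L) := Finite.of_injective _ DFunLike.coe_injective
      let sq : 𝒜 → 𝒜 := fun S => ⟨(S : Module.End K L) * S, mul_mem S.2 S.2⟩
      have hinj' : Function.Injective sq := fun S S' e => by
        have e' : (S : Module.End K L) * S = S' * S' := congrArg Subtype.val e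
        have hd := hsq _ (sub_mem S.2 S'.2) (by
          rw [mul_sub, sub_mul, sub_mul, e', (hcA _ S.2 _ S'.2).eq,
            show ∀ u w : Module.End K L, u - w - (w - u) = (2 : K) • (u - w) from fun u w => by
              rw [two_smul]; abel, h2, zero_smul])
        exact Subtype.ext (sub_eq_zero.1 hd)
      obtain ⟨⟨S, hS⟩, hS'⟩ := (Finite.injective_iff_surjective.1 hinj') ⟨T, hT⟩
      have hSS : S * S = T := congrArg Subtype.val hS'
      rw [← hSS, Module.End.mul_apply, ← hadj S hS, halt]
    · have h := hadj T hT x x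
      rw [hskew] at h
      have h' : (2 : K) * P x (T x) = 0 := by rw [two_mul]; nth_rewrite 1 [← h]; exact neg_add_cancel _
      exact (mul_eq_zero.1 h').resolve_left h2
  obtain ⟨x₀, hx₀⟩ := exists_ne (0 : L)
  let ev : E →ₗ[K] L := (LinearMap.applyₗ x₀).comp R
  have hev : Function.Injective ev := by
    rw [← LinearMap.ker_eq_bot, eq_bot_iff]
    intro a ha
    by_contra ha0
    exact hx₀ (hinj a ha0 _ ha)
  have h1 := two_finrank_le_of_isotropic P hnd (LinearMap.range ev) (by
    rintro _ ⟨a, rfl⟩ _ ⟨b, rfl⟩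
    show P (R a x₀) (R b x₀) = 0
    rw [hself, ← Module.End.mul_apply]
    exact hPT _ (mul_mem (Algebra.subset_adjoin ⟨a, rfl⟩) (Algebra.subset_adjoin ⟨b, rfl⟩)) x₀)
  rw [LinearMap.finrank_range_of_inj hev] at h1
  omega

end Adjoint

variable {V L W : Type*} [AddCommGroup V] [Module K V] [AddCommGroup L] [Module K L]
  [AddCommGroup W] [Module K W] [Module.Finite K V] [Module.Finite K L] [Module.Finite K W]

/-- The pairings of four consecutive layers. -/
structure Data (b : V →ₗ[K] V →ₗ[K] L) (g : L →ₗ[K] V →ₗ[K] W) (τ : W →ₗ[K] V →ₗ[K] K)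
    (P : L →ₗ[K] L →ₗ[K] K) : Prop where
  alt : ∀ x, b x x = 0
  altP : ∀ z, P z z = 0
  jacobi : ∀ x y z, g (b x y) z + g (b y z) x + g (b z x) y = 0
  jacobi' : ∀ z x y, τ (g z x) y - τ (g z y) x = P z (b x y)
  nondeg : ∀ φ : Dual K L, φ ≠ 0 → ∀ x, (∀ y, φ (b x y) = 0) → x = 0
  leftKer : ∀ φ : Dual K W, φ ≠ 0 → ∀ z, (∀ x, φ (g z x) = 0) → z = 0
  topKer : ∀ w, (∀ x, τ w x = 0) → w = 0
  members : ∀ (M : Submodule K V) (Ω : Submodule K (Dual K W)),
    (∀ φ ∈ Ω, φ ≠ 0 → ∀ x, x ∈ M ↔ ∀ z, φ (g z x) = 0) → 2 * finrank K Ω ≤ finrank K M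

variable {b : V →ₗ[K] V →ₗ[K] L} {g : L →ₗ[K] V →ₗ[K] W} {τ : W →ₗ[K] V →ₗ[K] K}
  {P : L →ₗ[K] L →ₗ[K] K}

namespace Data

variable (D : Data b g τ P)

include D

theorem skew (x y : V) : b x y = -b y x := by
  have h := D.alt (x + y)
  simp only [map_add, LinearMap.add_apply, D.alt, zero_add, add_zero] at h
  exact eq_neg_of_add_eq_zero_right h

theorem skewP (x y : L) : P x y = -P y x := by
  have h := D.altP (x + y)
  simp only [map_add, LinearMap.add_apply, D.altP, zero_add, add_zero] at h
  exact eq_neg_of_add_eq_zero_right h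

omit D in
/-- The common kernel of a function on the third layer. -/
def mem (g : L →ₗ[K] V →ₗ[K] W) (φ : Dual K W) : Submodule K V :=
  LinearMap.ker (g.compr₂ φ).flip

omit D in
theorem mem_mem {φ : Dual K W} {x : V} : x ∈ mem g φ ↔ ∀ z, φ (g z x) = 0 :=
  ⟨fun h z => LinearMap.congr_fun h z, fun h => LinearMap.ext h⟩

theorem isotropic {φ : Dual K W} (hφ : φ ≠ 0) {x y : V} (hx : x ∈ mem g φ) (hy : y ∈ mem g φ) :
    b x y = 0 := by
  refine D.leftKer φ hφ _ fun c => ?_
  have h := congrArg φ (D.jacobi x y c)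
  rwa [map_add, map_add, mem_mem.1 hx, mem_mem.1 hy, add_zero, add_zero, map_zero] at h

theorem finrank_mem {φ : Dual K W} (hφ : φ ≠ 0) :
    finrank K (mem g φ) + finrank K L = finrank K V :=
  finrank_rightKer (g.compr₂ φ) (fun z hz => D.leftKer φ hφ z hz)

theorem two_le [Nontrivial V] : 2 * finrank K L ≤ finrank K V :=
  Forms.two_finrank_le b D.alt D.nondeg

theorem finrank_V [Nontrivial L] [Nontrivial W] [Nontrivial V] :
    finrank K V = 2 * finrank K L := by
  obtain ⟨ψ, hψ⟩ := exists_ne (0 : Dual K L)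
  obtain ⟨φ, hφ⟩ := exists_ne (0 : Dual K W)
  have h1 := two_finrank_le_of_isotropic (b.compr₂ ψ) (fun x hx => D.nondeg ψ hψ x hx) (mem g φ)
    fun x hx y hy => by simp [D.isotropic hφ hx hy]
  have h2 := D.finrank_mem hφ
  have h3 := D.two_le
  omega

theorem surj {k : V} (hk : k ≠ 0) : LinearMap.range (b k) = ⊤ := by
  by_contra h
  obtain ⟨z, -, hz⟩ := SetLike.exists_of_lt (Ne.lt_top h)
  obtain ⟨ψ, hψz, hψ⟩ := Submodule.exists_dual_map_eq_bot_of_notMem hz inferInstance
  have hψ0 : ψ ≠ 0 := fun e => hψz (by rw [e]; rfl)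
  refine hk (D.nondeg ψ hψ0 k fun y => ?_)
  have := Submodule.mem_map_of_mem (f := ψ) (LinearMap.mem_range_self (b k) y)
  rwa [hψ, Submodule.mem_bot] at this

theorem finrank_ker {k : V} (hk : k ≠ 0) :
    finrank K (LinearMap.ker (b k)) + finrank K L = finrank K V := by
  have h := LinearMap.finrank_range_add_finrank_ker (b k)
  rw [D.surj hk, finrank_top] at h
  omega

theorem mem_eq_ker {φ : Dual K W} (hφ : φ ≠ 0) {k : V} (hk : k ≠ 0) (hkm : k ∈ mem g φ) :
    mem g φ = LinearMap.ker (b k) :=
  Submodule.eq_of_le_of_finrank_eq (fun _ hy => D.isotropic hφ hkm hy)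
    (Nat.add_right_cancel ((D.finrank_mem hφ).trans (D.finrank_ker hk).symm))

theorem finrank_members [Nontrivial L] [Nontrivial W] [Nontrivial V] {M : Submodule K V}
    (hM : finrank K M = finrank K L) (Ω : Submodule K (Dual K W))
    (h : ∀ φ ∈ Ω, ∀ x ∈ M, ∀ z, φ (g z x) = 0) : 2 * finrank K Ω ≤ finrank K L := by
  refine hM ▸ D.members M Ω fun φ hφ hφ0 x => ?_
  have hle : M ≤ mem g φ := fun y hy => mem_mem.2 (h φ hφ y hy)
  have h1 := D.finrank_mem hφ0
  have h2 := D.finrank_V
  rw [Submodule.eq_of_le_of_finrank_eq hle (by omega)]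
  exact mem_mem

theorem finrank_W_lt [Nontrivial L] [Nontrivial W] [Nontrivial V] :
    finrank K W < finrank K L + finrank K L / 2 := by
  classical
  haveI : Finite V := Module.finite_of_finite K
  haveI : Finite (Dual K W) := Module.finite_of_finite K
  haveI : Fintype V := Fintype.ofFinite V
  haveI : Fintype (Dual K W) := Fintype.ofFinite _
  haveI : Fintype (Submodule K V) := Fintype.ofFinite _
  set n := finrank K L with hn
  set l := finrank K W with hl
  have hV : finrank K V = 2 * n := D.finrank_V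
  have hnpos : 0 < n := Module.finrank_pos
  set q := Nat.card K with hqdef
  have hq : 2 ≤ q := Finite.one_lt_card
  set S : Finset (Submodule K V) := (Finset.univ.filter fun φ : Dual K W => φ ≠ 0).image (mem g)
  have hSmem : ∀ M ∈ S, ∃ φ : Dual K W, φ ≠ 0 ∧ mem g φ = M := fun M hM => by
    simpa [S] using hM
  have hSn : ∀ M ∈ S, finrank K M = n := fun M hM => by
    obtain ⟨φ, hφ, rfl⟩ := hSmem M hM
    have := D.finrank_mem hφ
    omega
  -- the fibres
  have hfib : ∀ M ∈ S,
      ((Finset.univ.filter fun φ : Dual K W => φ ≠ 0).filter fun φ => mem g φ = M).card + 1 ≤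
        q ^ (n / 2) := by
    intro M hM
    let Ω : Submodule K (Dual K W) :=
      { carrier := {φ | ∀ x ∈ M, ∀ z, φ (g z x) = 0}
        add_mem' := fun {a c} ha hc x hx z => by simp [ha x hx z, hc x hx z]
        zero_mem' := fun x _ z => rfl
        smul_mem' := fun r a ha x hx z => by simp [ha x hx z] }
    have h1 : 2 * finrank K Ω ≤ n := D.finrank_members (hSn M hM) Ω fun φ hφ => hφ
    calc _ ≤ (Finset.univ.filter fun φ : Dual K W => φ ∈ Ω).card := by
          rw [Nat.add_one_le_iff]
          refine Finset.card_lt_card ⟨fun φ hφ => ?_, fun h => ?_⟩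
          · simp only [Finset.mem_filter, Finset.mem_univ, true_and] at hφ ⊢
            exact fun x hx z => mem_mem.1 (hφ.2 ▸ hx) z
          · have := h (Finset.mem_filter.2 ⟨Finset.mem_univ _, Ω.zero_mem⟩)
            simp at this
      _ = q ^ finrank K Ω := by
        rw [hqdef, ← Module.natCard_eq_pow_finrank (K := K) (V := Ω), Nat.card_eq_fintype_card,
          Fintype.card_subtype]
      _ ≤ q ^ (n / 2) := Nat.pow_le_pow_right (by omega) (by omega)
  have hW : q ^ l ≤ 1 + S.card * (q ^ (n / 2) - 1) := by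
    have h1 : (Finset.univ.filter fun φ : Dual K W => φ ≠ 0).card ≤ S.card * (q ^ (n / 2) - 1) := by
      rw [mul_comm]
      exact Finset.card_le_mul_card_image _ _ fun M hM => by have := hfib M hM; omega
    have h2 : (Finset.univ.filter fun φ : Dual K W => φ ≠ 0).card + 1 = q ^ l := by
      rw [Finset.filter_ne', Finset.card_erase_add_one (Finset.mem_univ _), Finset.card_univ,
        ← Nat.card_eq_fintype_card, Module.natCard_eq_pow_finrank (K := K), Subspace.dual_finrank_eq]
    omega
  have hS : S.card * (q ^ n - 1) ≤ q ^ (2 * n) - 1 := by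
    have hdisj : ∀ M ∈ S, ∀ M' ∈ S, ∀ x : V, x ≠ 0 → x ∈ M → x ∈ M' → M = M' := by
      intro M hM M' hM' x hx h h'
      obtain ⟨φ, hφ, rfl⟩ := hSmem M hM
      obtain ⟨φ', hφ', rfl⟩ := hSmem M' hM'
      rw [D.mem_eq_ker hφ hx h, D.mem_eq_ker hφ' hx h']
    have h1 : (S.sigma fun M => (Finset.univ.filter fun x : V => x ∈ M).erase 0).card ≤
        ((Finset.univ : Finset V).erase 0).card := by
      refine Finset.card_le_card_of_injOn (fun p => p.2) (fun p hp => ?_) ?_
      · simp only [Finset.coe_sigma, Set.mem_sigma_iff, Finset.mem_coe, Finset.mem_erase] at hp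
        simp [hp.2.1]
      · intro p hp p' hp' e
        simp only [Finset.coe_sigma, Set.mem_sigma_iff, Finset.mem_coe, Finset.mem_erase,
          Finset.mem_filter, Finset.mem_univ, true_and] at hp hp'
        obtain ⟨M, x⟩ := p
        obtain ⟨M', x'⟩ := p'
        dsimp only at e hp hp'
        subst e
        rw [hdisj M hp.1 M' hp'.1 x hp.2.1 hp.2.2 hp'.2.2]
    rw [Finset.card_sigma, Finset.sum_congr rfl fun M hM => ?_, Finset.sum_const, smul_eq_mul,
      Finset.card_erase_of_mem (Finset.mem_univ _), Finset.card_univ, ← Nat.card_eq_fintype_card,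
      Module.natCard_eq_pow_finrank (K := K) (V := V), hV] at h1
    · exact h1
    · rw [Finset.card_erase_of_mem (by simp), ← hSn M hM, hqdef, ← Module.natCard_eq_pow_finrank (K := K) (V := M),
        Nat.card_eq_fintype_card,
        Fintype.card_subtype]
  by_contra hge
  push Not at hge
  have hA : 1 < q ^ n := Nat.one_lt_pow hnpos.ne' (by omega)
  have hB : q ^ (n / 2) < q ^ n := Nat.pow_lt_pow_right (by omega) (by omega)
  have hBpos : 0 < q ^ (n / 2) := pow_pos (by omega) _
  have hl' : q ^ n * q ^ (n / 2) ≤ q ^ l := by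
    rw [← pow_add]; exact Nat.pow_le_pow_right (by omega) hge
  have hS' : S.card ≤ q ^ n + 1 := by
    refine Nat.le_of_mul_le_mul_right (hS.trans (le_of_eq ?_)) (Nat.sub_pos_of_lt hA)
    rw [← Nat.sq_sub_sq (q ^ n) 1, one_pow, ← pow_mul, mul_comm n 2]
  obtain ⟨B', hB'⟩ := Nat.exists_eq_succ_of_ne_zero hBpos.ne'
  have hlast := Nat.mul_le_mul_right B' hS'
  rw [hB'] at hl' hW hB
  simp only [Nat.succ_eq_add_one, Nat.add_sub_cancel] at hl' hW hB
  nlinarith

/-- No fourth layer. -/
theorem false [Nontrivial L] [Nontrivial W] [Nontrivial V] : False := by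
  classical
  set n := finrank K L with hn
  have hnpos : 0 < n := Module.finrank_pos
  have hV : finrank K V = 2 * n := D.finrank_V
  set K2 := LinearMap.ker τ.flip with hK2
  have hK2 : ∀ {k : V}, k ∈ K2 ↔ ∀ w, τ w k = 0 :=
    fun {k} => ⟨fun h w => LinearMap.congr_fun h w, fun h => LinearMap.ext h⟩
  have hdK2 : finrank K K2 + finrank K W = 2 * n := hV ▸ finrank_rightKer τ D.topKer
  have hl := D.finrank_W_lt
  set R2 := LinearMap.ker P with hR2
  have hR2 : ∀ {z : L}, z ∈ R2 ↔ ∀ y, P z y = 0 :=
    fun {z} => ⟨fun h y => LinearMap.congr_fun h y, fun h => LinearMap.ext h⟩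
  -- the pairing with a member of the kernel
  have hgk : ∀ k ∈ K2, k ≠ 0 → ∀ z, g z k = 0 ↔ z ∈ R2 := by
    intro k hk hk0 z
    have key : ∀ c, τ (g z k) c = P z (b k c) := fun c => by
      rw [← D.jacobi' z k c, hK2.1 hk, sub_zero]
    refine ⟨fun h => hR2.2 fun y => ?_, fun h => D.topKer _ fun c => by rw [key, hR2.1 h]⟩
    obtain ⟨c, rfl⟩ := LinearMap.range_eq_top.1 (D.surj hk0) y
    rw [← key, h, map_zero, LinearMap.zero_apply]
  have hK2ne : ∃ k ∈ K2, k ≠ 0 := by
    by_contra h
    push Not at h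
    rw [(Submodule.eq_bot_iff K2).2 h, finrank_bot] at hdK2
    omega
  by_cases hR : R2 = ⊤
  · obtain ⟨k, hk, hk0⟩ := hK2ne
    have hall : ∀ (φ : Dual K W), ∀ j ∈ K2, ∀ z, φ (g z j) = 0 := fun φ j hj z => by
      by_cases hj0 : j = 0
      · simp [hj0]
      · rw [(hgk j hj hj0 z).2 (hR ▸ Submodule.mem_top), map_zero]
    obtain ⟨φ₀, hφ₀⟩ := exists_ne (0 : Dual K W)
    have hkm : ∀ φ : Dual K W, φ ≠ 0 → mem g φ = LinearMap.ker (b k) := fun φ hφ =>
      D.mem_eq_ker hφ hk0 (mem_mem.2 (hall φ k hk))
    have h1 : 2 * finrank K (⊤ : Submodule K (Dual K W)) ≤ n := by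
      refine D.finrank_members (M := LinearMap.ker (b k)) ?_ ⊤ fun φ _ x hx z => ?_
      · have := D.finrank_ker hk0
        omega
      · by_cases hφ : φ = 0
        · simp [hφ]
        · exact mem_mem.1 ((hkm φ hφ).symm ▸ hx) z
    rw [finrank_top, Subspace.dual_finrank_eq] at h1
    have h2 : K2 ≤ mem g φ₀ := fun j hj => mem_mem.2 (hall φ₀ j hj)
    have h3 := Submodule.finrank_mono h2
    have h4 := D.finrank_mem hφ₀
    omega
  -- the identity for a pair
  have hid : ∀ x ∈ K2, ∀ y ∈ K2, ∀ c d,
      τ (g (b x y) c) d = P (b x c) (b y d) - P (b y c) (b x d) := by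
    intro x hx y hy c d
    have h := congrArg (fun w => τ w d) (D.jacobi x y c)
    simp only [map_add, LinearMap.add_apply, map_zero, LinearMap.zero_apply] at h
    have e1 : τ (g (b y c) x) d = P (b y c) (b x d) := by
      rw [← D.jacobi' _ x d, hK2.1 hx, sub_zero]
    have e2 : τ (g (b c x) y) d = P (b c x) (b y d) := by
      rw [← D.jacobi' _ y d, hK2.1 hy, sub_zero]
    rw [e1, e2, D.skew c x, map_neg, LinearMap.neg_apply] at h
    linear_combination h
  have hbR : ∀ x ∈ K2, x ≠ 0 → ∀ y ∈ K2, b x y ∈ R2 := by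
    intro x hx hx0 y hy
    refine hR2.2 fun w => ?_
    obtain ⟨d, rfl⟩ := LinearMap.range_eq_top.1 (D.surj hx0) w
    rw [← D.jacobi' _ x d, hid x hx y hy x d, hid x hx y hy d x]
    simp [D.alt, D.skew y x, D.skew d x, D.skewP (b x y)]
  -- operators on the non-degenerate part
  have hop : ∀ E : Submodule K V, E ≤ K2 → ∀ k ∈ E, k ≠ 0 →
      (∀ a ∈ E, LinearMap.ker (b k) ≤ LinearMap.ker (b a)) →
      2 * finrank K E + finrank K R2 ≤ n := by
    intro E hE k hk hk0 hker
    obtain ⟨s, hs⟩ := (b k).exists_rightInverse_of_surjective (D.surj hk0)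
    let R : E →ₗ[K] Module.End K L :=
      (LinearMap.lcomp K L s).comp ((b : V →ₗ[K] V →ₗ[K] L).comp E.subtype)
    have hRapp : ∀ (a : E) c, R a (b k c) = b a c := fun a c => by
      have h : c - s (b k c) ∈ LinearMap.ker (b k) := by
        rw [LinearMap.mem_ker, map_sub]
        exact sub_eq_zero.2 (LinearMap.congr_fun hs (b k c)).symm
      have h2 := hker a a.2 h
      rw [LinearMap.mem_ker, map_sub, sub_eq_zero] at h2
      exact h2.symm
    have hsurj := LinearMap.range_eq_top.1 (D.surj hk0)
    have hbk : ∀ x ∈ E, b k x = 0 → ∀ y ∈ E, b x y = 0 := fun x hx hkx y hy => by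
      have h := hker y hy (show x ∈ LinearMap.ker (b k) from hkx)
      rw [LinearMap.mem_ker] at h
      rw [D.skew, h, neg_zero]
    have hbk0 : ∀ x ∈ E, b k x = 0 := fun x hx => by
      have h := hker x hx (show k ∈ LinearMap.ker (b k) from D.alt k)
      rw [LinearMap.mem_ker] at h
      rw [D.skew, h, neg_zero]
    have hpair : ∀ x ∈ E, ∀ y ∈ E, ∀ c d, P (b x c) (b y d) = P (b y c) (b x d) :=
      fun x hx y hy c d => by
        have h := hid x (hE hx) y (hE hy) c d
        rw [hbk x hx (hbk0 x hx) y hy, map_zero, LinearMap.zero_apply, map_zero,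
          LinearMap.zero_apply] at h
        exact sub_eq_zero.1 h.symm
    have hself : ∀ a x y, P (R a x) y = P x (R a y) := fun a x y => by
      obtain ⟨c, rfl⟩ := hsurj x
      obtain ⟨d, rfl⟩ := hsurj y
      rw [hRapp, hRapp, hpair a a.2 k hk]
    have hRR : ∀ a, R2 ≤ R2.comap (R a) := fun a z hz => hR2.2 fun y => by
      rw [hself, hR2.1 hz]
    haveI : Nontrivial (L ⧸ R2) := Submodule.Quotient.nontrivial_iff.2 hR
    let P' : (L ⧸ R2) →ₗ[K] (L ⧸ R2) →ₗ[K] K := LinearMap.liftQ₂ R2 R2 P
      (fun z hz => hz) (fun z hz => LinearMap.ext fun y => by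
        show P y z = 0
        rw [D.skewP, hR2.1 hz, neg_zero])
    let R' : E →ₗ[K] Module.End K (L ⧸ R2) :=
      { toFun := fun a => R2.mapQ R2 (R a) (hRR a)
        map_add' := fun a c => Submodule.linearMap_qext _ (LinearMap.ext fun z => by simp)
        map_smul' := fun r a => Submodule.linearMap_qext _ (LinearMap.ext fun z => by simp) }
    have h1 := two_finrank_le P'
      (fun z => by obtain ⟨z, rfl⟩ := R2.mkQ_surjective z; exact D.altP z)
      (fun z hz => by
        obtain ⟨z, rfl⟩ := R2.mkQ_surjective z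
        exact (Submodule.Quotient.mk_eq_zero R2).2 (hR2.2 fun y => hz (R2.mkQ y)))
      R' (fun a x y => by
        obtain ⟨x, rfl⟩ := R2.mkQ_surjective x
        obtain ⟨y, rfl⟩ := R2.mkQ_surjective y
        exact hself a x y)
      (fun a c x y => by
        obtain ⟨x, rfl⟩ := R2.mkQ_surjective x
        obtain ⟨y, rfl⟩ := R2.mkQ_surjective y
        obtain ⟨u, rfl⟩ := hsurj x
        obtain ⟨v, rfl⟩ := hsurj y
        show P (R a (b k u)) (R c (b k v)) = P (R c (b k u)) (R a (b k v))
        rw [hRapp, hRapp, hRapp, hRapp]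
        exact hpair a a.2 c c.2 u v)
      (fun a ha x hx => by
        obtain ⟨x, rfl⟩ := R2.mkQ_surjective x
        refine (Submodule.Quotient.mk_eq_zero R2).2 (hR2.2 fun y => ?_)
        have ha' : (a : V) ≠ 0 := fun e => ha (Subtype.ext e)
        obtain ⟨v, hv⟩ := LinearMap.range_eq_top.1 (D.surj ha') y
        rw [← hv, ← hRapp, ← hself]
        exact hR2.1 ((Submodule.Quotient.mk_eq_zero R2).1 hx) _)
    have h2 := Submodule.finrank_quotient_add_finrank R2
    omega
  by_cases hmeet : ∃ k ∈ K2, k ≠ 0 ∧ ∃ φ : Dual K W, φ ≠ 0 ∧ k ∈ mem g φ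
  · obtain ⟨k, hk, hk0, φ, hφ, hkm⟩ := hmeet
    set M := mem g φ with hM
    have hMk : M = LinearMap.ker (b k) := D.mem_eq_ker hφ hk0 hkm
    have hdM : finrank K M = n := by
      show finrank K (mem g φ) = n
      have h := D.finrank_mem hφ
      rw [← hn] at h
      omega
    -- the member maps into its own functions
    have hMM : ∀ x ∈ M, ∀ y ∈ M, ∀ z, τ (g z x) y = 0 := by
      intro x hx y hy z
      obtain ⟨c, rfl⟩ := LinearMap.range_eq_top.1 (D.surj hk0) z
      have hxy : b x y = 0 := D.isotropic hφ hx hy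
      have hky : b k y = 0 := D.isotropic hφ hkm hy
      have hxk : b x k = 0 := D.isotropic hφ hx hkm
      have h := congrArg (fun w => τ w y) (D.jacobi k c x)
      simp only [hxk, map_add, LinearMap.add_apply, map_zero, LinearMap.zero_apply, add_zero] at h
      have e : τ (g (b c x) k) y = P (b c x) (b k y) := by
        rw [← D.jacobi' _ k y, hK2.1 hk, sub_zero]
      rw [e, hky, map_zero, add_zero] at h
      exact h
    let ev : M →ₗ[K] Dual K W := τ.flip.comp M.subtype
    have h1 : 2 * finrank K (LinearMap.range ev) ≤ n :=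
      D.finrank_members hdM _ (by rintro _ ⟨y, rfl⟩ x hx z; exact hMM x hx y y.2 z)
    have h2 := LinearMap.finrank_range_add_finrank_ker ev
    have h3 : finrank K (LinearMap.ker ev) = finrank K (K2 ⊓ M : Submodule K V) := by
      have e : LinearMap.ker ev = (K2 ⊓ M).comap M.subtype := by
        ext ⟨y, hy⟩
        simp [ev, hK2, hy, LinearMap.ext_iff]
      rw [e, LinearEquiv.finrank_eq (Submodule.comapSubtypeEquivOfLe inf_le_right)]
    have h4 := hop (K2 ⊓ M) inf_le_left k ⟨hk, hkm⟩ hk0 fun a ha => by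
      by_cases ha0 : a = 0
      · simp [ha0]
      · rw [← hMk, ← D.mem_eq_ker hφ ha0 ha.2]
    have hr : R2 = ⊥ := by
      rw [← Submodule.finrank_eq_zero (R := K)]
      omega
    have h5 : K2 ≤ M := fun a ha => by
      have := hbR k hk hk0 a ha
      rw [hr, Submodule.mem_bot] at this
      rw [hMk]
      exact this
    rw [inf_eq_left.2 h5] at h3 h4
    omega
  · push Not at hmeet
    obtain ⟨k, hk, hk0⟩ := hK2ne
    have h1 : LinearMap.range (g.flip k) = ⊤ := by
      by_contra h
      obtain ⟨w, -, hw⟩ := SetLike.exists_of_lt (Ne.lt_top h)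
      obtain ⟨φ, hφw, hφ⟩ := Submodule.exists_dual_map_eq_bot_of_notMem hw inferInstance
      refine hmeet k hk hk0 φ (fun e => hφw (by rw [e]; rfl)) (mem_mem.2 fun z => ?_)
      have := Submodule.mem_map_of_mem (f := φ) (LinearMap.mem_range_self (g.flip k) z)
      rwa [hφ, Submodule.mem_bot] at this
    have h2 := LinearMap.finrank_range_add_finrank_ker (g.flip k)
    have h3 : LinearMap.ker (g.flip k) = R2 := by
      ext z
      exact hgk k hk hk0 z
    rw [h1, finrank_top, h3] at h2
    obtain ⟨φ, hφ⟩ := exists_ne (0 : Dual K W)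
    have h4 : Disjoint K2 (mem g φ) := Submodule.disjoint_def.2 fun x hx hx' => by
      by_contra hx0
      exact hmeet x hx hx0 φ hφ hx'
    have h5 := Submodule.finrank_add_finrank_le_of_disjoint h4
    have h6 := D.finrank_mem hφ
    have hr : R2 = ⊥ := by
      rw [← Submodule.finrank_eq_zero (R := K)]
      omega
    have h7 : K2 = LinearMap.ker (b k) := by
      refine Submodule.eq_of_le_of_finrank_eq (fun a ha => ?_) ?_
      · have := hbR k hk hk0 a ha
        rw [hr, Submodule.mem_bot] at this
        exact this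
      · have := D.finrank_ker hk0
        rw [hr, finrank_bot] at h2
        omega
    have h8 := hop K2 le_rfl k hk hk0 fun a ha => by
      intro y hy
      rw [← h7] at hy
      by_cases ha0 : a = 0
      · simp [ha0]
      · have := hbR a ha ha0 y hy
        rwa [hr, Submodule.mem_bot] at this
    rw [h7] at h8
    have := D.finrank_ker hk0
    omega

end Data

end Cfsg.Lib.Char.Ndad.LieAlg
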