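import Cfsg.Agent.Lib.Char.Ndad.Section
import Cfsg.Agent.Lib.Solv.FixedPointFree
import Cfsg.Agent.Lib.Char.LinearExt
import Cfsg.Agent.Lib.Char.Quotient

/-!
# A non-abelian section
-/

set_option autoImplicit false
set_option linter.unusedSectionVars false
set_option linter.style.haveILetI false
set_option maxHeartbeats 800000

namespace Cfsg.Lib.Char.Ndad.Sect

open Cfsg Cfsg.Lib.Char
open scoped commutatorElement

universe u

variable {G : Type u} [Group G] [Fintype G] [Group.IsSolvable G] {S : Setup G} (D : Sect S)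

include D

/-- Every character of the complement is linear and invariant. -/
theorem all_triv [Fintype S.N] [Fintype D.Qb] [Fintype D.M] (hQ : lcs D.Qb 1 ≠ ⊥)
    (θ₀ : IrrCharacter D.M) : D.Triv (θ₀ : D.M → ℂ) := by
  classical
  by_contra hθ₀
  haveI := Fact.mk S.hq
  obtain ⟨y, T, c, -, hT, hc, hfix, he, hdvd⟩ := D.exists_stab_data θ₀ hθ₀
  obtain ⟨P, -, -⟩ := D.sys.no_small_fixed D.U_ne_top hQ hT hc hfix he hdvd
  refine D.sys.false_of_no_pair D.U_ne_top hQ P fun a₀ z₀ haz ha hz hzf hij => ?_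
  -- lifts in a Sylow subgroup
  obtain ⟨R⟩ : Nonempty (Sylow S.q S.N) := inferInstance
  let f : (R : Subgroup S.N) →* D.Qb := D.toQ.comp (R : Subgroup S.N).subtype
  have hfinj : Function.Injective f := by
    rw [injective_iff_map_eq_one]
    intro r hr
    obtain ⟨i, hi⟩ := R.2 r
    have hM : ((r : S.N) : G) ∈ D.M := (QuotientGroup.eq_one_iff _).1 (congrArg Subtype.val hr)
    have h1 : ((r : S.N) : G) ^ S.q ^ i = 1 := by
      simpa using congrArg (fun z : (R : Subgroup S.N) => ((z : S.N) : G)) hi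
    have h2 : ((r : S.N) : G) ^ Nat.card D.M = 1 :=
      congrArg Subtype.val (pow_card_eq_one' (x := (⟨_, hM⟩ : D.M)))
    exact Subtype.ext (Subtype.ext (RelDeg.eq_one_of_pow_coprime h2 h1 (D.cop_pow i)))
  have hfsurj : Function.Surjective f := by
    have h1 : ((R : Subgroup S.N).map D.toQ).index ∣ (R : Subgroup S.N).index :=
      Subgroup.index_map_dvd _ D.toQ_surj
    obtain ⟨i, hi⟩ := D.sys.index_pow ((R : Subgroup S.N).map D.toQ)
    have h2 : ((R : Subgroup S.N).map D.toQ) = ⊤ := by
      rw [← Subgroup.index_eq_one]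
      rcases Nat.eq_zero_or_pos i with h0 | h0
      · rw [hi, h0, pow_zero]
      · exact absurd ((hi ▸ dvd_pow_self D.sys.q h0.ne').trans h1) R.not_dvd_index
    intro x
    obtain ⟨r, hr, rfl⟩ := (h2 ▸ Subgroup.mem_top x : x ∈ (R : Subgroup S.N).map D.toQ)
    exact ⟨⟨r, hr⟩, rfl⟩
  obtain ⟨a', rfl⟩ := hfsurj a₀
  obtain ⟨z', rfl⟩ := hfsurj z₀
  set a : G := ((a' : S.N) : G) with ha'
  set z : G := ((z' : S.N) : G) with hz'
  have haq : a ^ S.q = 1 := by
    have h1 : a' ^ S.q = 1 := hfinj (by rw [map_pow, map_one]; exact ha)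
    simpa using congrArg (fun w : (R : Subgroup S.N) => ((w : S.N) : G)) h1
  have hzq : z ^ S.q = 1 := by
    have h1 : z' ^ S.q = 1 := hfinj (by rw [map_pow, map_one]; exact hz)
    simpa using congrArg (fun w : (R : Subgroup S.N) => ((w : S.N) : G)) h1
  have hcomm : Commute a z := by
    have h1 : a' * z' = z' * a' := hfinj (by rw [map_mul, map_mul]; exact haz)
    show a * z = z * a
    simpa using congrArg (fun w : (R : Subgroup S.N) => ((w : S.N) : G)) h1
  -- freeness
  have hfree : ∀ n : S.N, (n : G) ^ S.q = 1 →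
      (D.toQ n ∉ D.sys.U ∨ D.toQ n ∈ lcs D.Qb 1 ∧ D.toQ n ≠ 1) → D.Free n := by
    intro n hnq hn
    refine ⟨n.2, hnq, fun θ hθ hmem => ?_⟩
    obtain ⟨y, T, c, hT1, hT, hc, hfix, he, hdvd⟩ := D.exists_stab_data θ hθ
    obtain ⟨-, hTU, hTQ⟩ := D.sys.no_small_fixed D.U_ne_top hQ hT hc hfix he hdvd
    have hx := hT1 n hmem
    rcases hn with hn | ⟨hn, hn1⟩
    · refine hn ?_
      have h1 := D.sys.normal_U.conj_mem _ (hTU hx) y⁻¹
      rwa [show y⁻¹ * (y * D.toQ n * y⁻¹) * y⁻¹⁻¹ = D.toQ n by group] at h1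
    · have h1 : y * D.toQ n * y⁻¹ ∈ T ⊓ lcs D.Qb 1 :=
        ⟨hx, (inferInstance : (lcs D.Qb 1).Normal).conj_mem _ hn y⟩
      rw [hTQ, Subgroup.mem_bot, conj_eq_one_iff] at h1
      exact hn1 h1
  have hzfree : D.Free z := hfree z'.1 hzq hzf
  have hijfree : ∀ i j : ℕ, 0 < i → i < S.q → D.Free (a ^ i * z ^ j) := fun i j hi hiq => by
    have := hfree (a'.1 ^ i * z'.1 ^ j) (by
      simp only [Subgroup.coe_mul, SubmonoidClass.coe_pow]
      rw [← ha', ← hz', (hcomm.pow_pow i j).mul_pow, ← pow_mul, ← pow_mul, mul_comm i, mul_comm j,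
        pow_mul, pow_mul, haq, hzq, one_pow, one_pow, one_mul]) (by
      rw [map_mul, map_pow, map_pow]; exact hij i j hi hiq)
    simpa using this
  -- linear characters are invariant
  have htw : ∀ (L : D.M →* ℂˣ) (g k : G),
      RelDeg.twHom D.M (RelDeg.twHom D.M L g) k = RelDeg.twHom D.M L (g * k) := fun L g k => by
    refine MonoidHom.ext fun m => congrArg L ?_
    show MulAut.conjNormal g (MulAut.conjNormal k m) = MulAut.conjNormal (g * k) m
    rw [map_mul]
    rfl
  have hlin : ∀ (L : D.M →* ℂˣ) (n : G), n ∈ S.N → RelDeg.twHom D.M L n = L := by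
    intro L n hn
    set A : G → (D.M →* ℂˣ) := fun b => ∏ i ∈ Finset.range S.q, RelDeg.twHom D.M L (b ^ i) with hA
    have hzp : ∀ m : ℕ, z ^ m = z ^ (m % S.q) := fun m => by
      conv_lhs => rw [← Nat.div_add_mod m S.q, pow_add, pow_mul, hzq, one_pow, one_mul]
    set row : ℕ → (D.M →* ℂˣ) := fun i => ∏ j ∈ Finset.range S.q,
      RelDeg.twHom D.M L ((a * z ^ j) ^ i) with hrow
    have hrow0 : row 0 = L ^ S.q := by
      simp only [hrow, pow_zero]
      rw [Finset.prod_congr rfl fun j _ => show RelDeg.twHom D.M L 1 = L from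
        MonoidHom.ext fun m => congrArg L (by simp), Finset.prod_const, Finset.card_range]
    have hrowi : ∀ i ∈ Finset.range S.q, i ≠ 0 → ∀ n ∈ S.N,
        RelDeg.twHom D.M (row i) n = row i := by
      intro i hi hi0 n hn
      have e : row i = ∏ k ∈ Finset.range S.q,
          RelDeg.twHom D.M (RelDeg.twHom D.M L (a ^ i)) (z ^ k) := by
        simp only [hrow, htw]
        rw [Finset.prod_congr rfl fun j _ => by rw [(hcomm.pow_right j).mul_pow, ← pow_mul, hzp (j * i)]]
        have hinj : Set.InjOn (fun j => j * i % S.q) (Finset.range S.q : Set ℕ) := by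
          intro x hx y hy hxy
          simp only [Finset.coe_range, Set.mem_Iio] at hx hy
          have hci : Nat.Coprime S.q i := (S.hq.coprime_iff_not_dvd).2 fun h =>
            absurd (Nat.le_of_dvd (Nat.pos_of_ne_zero hi0) h) (not_le.2 (Finset.mem_range.1 hi))
          have := Nat.ModEq.cancel_right_of_coprime hci (show x * i ≡ y * i [MOD S.q] from hxy)
          rwa [Nat.ModEq, Nat.mod_eq_of_lt hx, Nat.mod_eq_of_lt hy] at this
        have himg : (Finset.range S.q).image (fun j => j * i % S.q) = Finset.range S.q :=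
          Finset.eq_of_subset_of_card_le
            (fun k hk => by
              obtain ⟨j, -, rfl⟩ := Finset.mem_image.1 hk
              exact Finset.mem_range.2 (Nat.mod_lt _ S.hq.pos))
            (by rw [Finset.card_image_of_injOn hinj])
        conv_rhs => rw [← himg]
        rw [Finset.prod_image hinj]
      rw [e]
      exact D.norm_invariant hzfree _ hn
    have hA1 : ∀ j : ℕ, RelDeg.twHom D.M (A (a * z ^ j)) n = A (a * z ^ j) := fun j => by
      refine D.norm_invariant ?_ L hn
      simpa using hijfree 1 j one_pos S.hq.one_lt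
    have hprod : ∀ m, ∏ i ∈ Finset.range S.q, row i m =
        ∏ j ∈ Finset.range S.q, A (a * z ^ j) m := fun m => by
      simp only [hrow, hA, MonoidHom.finsetProd_apply]
      exact Finset.prod_comm
    refine MonoidHom.ext fun m => ?_
    set m' : D.M := MulAut.conjNormal n m
    have h1 : ∏ i ∈ Finset.range S.q, row i m' = ∏ i ∈ Finset.range S.q, row i m := by
      rw [hprod, hprod]
      exact Finset.prod_congr rfl fun j _ => DFunLike.congr_fun (hA1 j) m
    have h0 : (0 : ℕ) ∈ Finset.range S.q := Finset.mem_range.2 S.hq.pos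
    rw [← Finset.mul_prod_erase _ _ h0, ← Finset.mul_prod_erase _ _ h0,
      Finset.prod_congr rfl (g := fun i => row i m) fun i hi =>
        show row i m' = row i m from DFunLike.congr_fun
          (hrowi i (Finset.mem_of_mem_erase hi) (Finset.ne_of_mem_erase hi) n hn) m] at h1
    have h2 := mul_right_cancel h1
    rw [hrow0, MonoidHom.pow_apply, MonoidHom.pow_apply] at h2
    show L m' = L m
    rw [← mul_inv_eq_one, ← map_inv, ← map_mul]
    refine D.card_lin_cop L _ ?_
    rw [map_mul, map_inv, mul_pow, inv_pow, h2, mul_inv_cancel]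
  -- the complement is abelian
  have hab : commutator D.M = ⊥ := by
    by_contra hne
    obtain ⟨k, hk0, hk1⟩ : ∃ k, derivedSeries D.M (k + 1) ≠ ⊥ ∧ derivedSeries D.M (k + 2) = ⊥ := by
      by_contra h
      push Not at h
      obtain ⟨k, hk⟩ := (inferInstance : Group.IsSolvable D.M).solvable
      have hall : ∀ j, derivedSeries D.M (j + 1) ≠ ⊥ := fun j => by
        induction j with
        | zero => rw [derivedSeries_one]; exact hne
        | succ j ihj => exact h j ihj
      exact hall k (le_bot_iff.1 ((derivedSeries_antitone D.M (Nat.le_succ k)).trans hk.le))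
    set V := derivedSeries D.M (k + 1) with hV
    letI : CommGroup V := { (inferInstance : Group V) with
      mul_comm := fun x y => Subtype.ext (commutatorElement_eq_one_iff_mul_comm.1
        (Subgroup.mem_bot.1 (hk1 ▸ Subgroup.commutator_mem_commutator x.2 y.2))) }
    have hVle : V ≤ commutator D.M := by
      rw [← derivedSeries_one]; exact derivedSeries_antitone _ (by omega)
    let B : Subgroup G :=
      { carrier := {b | ∃ i j : ℕ, b = a ^ i * z ^ j}
        one_mem' := ⟨0, 0, by simp⟩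
        mul_mem' := by
          rintro _ _ ⟨i, j, rfl⟩ ⟨i', j', rfl⟩
          refine ⟨i + i', j + j', ?_⟩
          rw [pow_add, pow_add, mul_assoc, ← mul_assoc (z ^ j), (hcomm.pow_pow i' j).symm.eq]
          simp only [mul_assoc]
        inv_mem' := by
          rintro _ ⟨i, j, rfl⟩
          refine ⟨(S.q - 1) * i, (S.q - 1) * j, ?_⟩
          refine inv_eq_of_mul_eq_one_right ?_
          rw [mul_assoc, ← mul_assoc (z ^ j), (hcomm.pow_pow ((S.q - 1) * i) j).symm.eq,
            mul_assoc (a ^ ((S.q - 1) * i)), ← pow_add, ← mul_assoc, ← pow_add,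
            show i + (S.q - 1) * i = S.q * i by
              conv_rhs => rw [show S.q = 1 + (S.q - 1) by have := S.hq.one_lt; omega]
              ring,
            show j + (S.q - 1) * j = S.q * j by
              conv_rhs => rw [show S.q = 1 + (S.q - 1) by have := S.hq.one_lt; omega]
              ring,
            pow_mul, pow_mul, haq, hzq, one_pow, one_pow, one_mul] }
    let φ : B →* MulAut V :=
      { toFun := fun b =>
          { toFun := fun v => ⟨MulAut.conjNormal (b : G) (v : D.M), by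
              have h1 := map_derivedSeries_le_derivedSeries
                (MulAut.conjNormal (b : G) : MulAut D.M).toMonoidHom (k + 1)
              exact h1 ⟨v, v.2, rfl⟩⟩
            invFun := fun v => ⟨MulAut.conjNormal (b : G)⁻¹ (v : D.M), by
              have h1 := map_derivedSeries_le_derivedSeries
                (MulAut.conjNormal (b : G)⁻¹ : MulAut D.M).toMonoidHom (k + 1)
              exact h1 ⟨v, v.2, rfl⟩⟩
            left_inv := fun v => Subtype.ext (Subtype.ext (by simp [mul_assoc]))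
            right_inv := fun v => Subtype.ext (Subtype.ext (by simp [mul_assoc]))
            map_mul' := fun v w => Subtype.ext (by simp) }
        map_one' := MulEquiv.ext fun v => Subtype.ext (Subtype.ext (by simp))
        map_mul' := fun b b' => MulEquiv.ext fun v => Subtype.ext (Subtype.ext (by
          simp [mul_assoc])) }
    have hBfree : ∀ b : B, b ≠ 1 → D.Free (b : G) := by
      intro b hb1
      obtain ⟨i, j, hb⟩ := b.2
      have hai : a ^ i = a ^ (i % S.q) := by
        conv_lhs => rw [← Nat.div_add_mod i S.q, pow_add, pow_mul, haq, one_pow, one_mul]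
      have hzj : z ^ j = z ^ (j % S.q) := by
        conv_lhs => rw [← Nat.div_add_mod j S.q, pow_add, pow_mul, hzq, one_pow, one_mul]
      rw [hai] at hb
      rcases Nat.eq_zero_or_pos (i % S.q) with h0 | h0
      · rw [h0, pow_zero, one_mul, hzj] at hb
        rw [hb]
        rcases Nat.eq_zero_or_pos (j % S.q) with h1 | h1
        · exact absurd (Subtype.ext (by rw [hb, h1, pow_zero]; rfl)) hb1
        · refine ⟨pow_mem z'.1.2 _, by rw [← pow_mul, mul_comm, pow_mul, hzq, one_pow],
            fun θ hθ hmem => hzfree.2.2 θ hθ ?_⟩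
          obtain ⟨m, hm⟩ := exists_pow_eq_self_of_coprime (x := z) (n := j % S.q)
            (Nat.Coprime.coprime_dvd_right (orderOf_dvd_of_pow_eq_one hzq)
              ((S.hq.coprime_iff_not_dvd).2 fun h =>
                absurd (Nat.le_of_dvd h1 h) (not_le.2 (Nat.mod_lt _ S.hq.pos))).symm)
          rw [← hm]
          exact pow_mem hmem m
      · rw [hb]; exact hijfree _ _ h0 (Nat.mod_lt _ S.hq.pos)
    have hfpf : ∀ b : B, b ≠ 1 → ∀ v : V, φ b v = v → v = 1 := by
      intro b hb v hv
      have h1 : (b : G) * ((v : D.M) : G) * (b : G)⁻¹ = ((v : D.M) : G) := by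
        simpa [φ] using congrArg (fun w : V => ((w : D.M) : G)) hv
      refine Subtype.ext (Subtype.ext (D.free_fpf (hBfree b hb) _ ?_ (mul_inv_eq_iff_eq_mul.1 h1)))
      rw [← Subgroup.map_subtype_commutator]
      exact ⟨(v : D.M), hVle v.2, rfl⟩
    have hne' : ∀ i j : ℕ, i < S.q → j < S.q →
        (⟨a, 1, 0, by simp⟩ : B) ^ i * (⟨z, 0, 1, by simp⟩ : B) ^ j = 1 → i = 0 ∧ j = 0 := by
      intro i j hi hj h
      have h1 : a ^ i * z ^ j = 1 := congrArg Subtype.val h
      have hnot : ∀ b : G, D.Free b → b ≠ 1 := fun b hb e =>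
        hb.2.2 θ₀ hθ₀ (e ▸ one_mem _)
      rcases Nat.eq_zero_or_pos i with h0 | h0
      · refine ⟨h0, ?_⟩
        by_contra hj0
        rw [h0, pow_zero, one_mul] at h1
        refine hnot z hzfree ?_
        exact (orderOf_eq_one_iff.1 (Nat.dvd_one.1
          (((S.hq.coprime_iff_not_dvd).2 fun hd => hj0 (Nat.eq_zero_of_dvd_of_lt hd hj)).gcd_eq_one ▸
            Nat.dvd_gcd (orderOf_dvd_of_pow_eq_one hzq) (orderOf_dvd_of_pow_eq_one h1))))
      · exact absurd h1 (hnot _ (hijfree i j h0 hi))
    obtain ⟨v, hv, hv1⟩ := Subgroup.bot_or_exists_ne_one V |>.resolve_left hk0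
    have h1 := Cfsg.Lib.Solv.pow_eq_one_of_commuting_fpf φ hfpf
      (a := (⟨a, 1, 0, by simp⟩ : B)) (b := (⟨z, 0, 1, by simp⟩ : B)) (Subtype.ext hcomm) S.hq
      (Subtype.ext haq) (Subtype.ext hzq) hne' ⟨v, hv⟩
    refine hv1 (RelDeg.eq_one_of_pow_coprime (a := S.q) (b := Nat.card D.M) ?_ pow_card_eq_one'
      D.cop.symm)
    exact congrArg Subtype.val h1
  -- so the chosen character was linear and invariant
  have hcm : ∀ x y : D.M, x * y = y * x := fun x y => commutatorElement_eq_one_iff_mul_comm.1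
    (Subgroup.mem_bot.1 (hab ▸ Subgroup.commutator_mem_commutator (Subgroup.mem_top x)
      (Subgroup.mem_top y)))
  have h1 : charDegree (θ₀ : D.M → ℂ) = 1 :=
    charDegree_of_one_eq (by rw [degree_eq_one_of_comm hcm θ₀.2, Nat.cast_one])
  obtain ⟨L, hL⟩ := exists_hom_of_degree_one θ₀.2.isCharacter
    (by rw [θ₀.2.apply_one_eq_charDegree, h1, Nat.cast_one])
  refine hθ₀ ⟨h1, fun n hn => ?_⟩
  rw [hL]
  exact (RelDeg.mem_inertia_lin D.M).2 (hlin L n hn)

/-- The degrees and the derived length for a non-abelian section. -/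
theorem nonabelian_result [Fintype S.N] [Fintype D.Qb] [Fintype D.M] (hQ : lcs D.Qb 1 ≠ ⊥) :
    (∃ a b : ℕ, ∀ ψ : IrrCharacter S.N, charDegree (ψ : S.N → ℂ) ≠ 1 →
      S.gdegN ψ = a ∨ S.gdegN ψ = b) ∧ derivedSeries S.N 2 = ⊥ := by
  classical
  have htriv := D.all_triv hQ
  have hMcm : ∀ x y : D.M, x * y = y * x := fun x y => commutatorElement_eq_one_iff_mul_comm.1
    (Subgroup.mem_bot.1 (commutator_eq_bot_of_linear (fun θ => (htriv θ).1) ▸
      Subgroup.commutator_mem_commutator (Subgroup.mem_top x) (Subgroup.mem_top y)))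
  have hlin : ∀ (L : D.M →* ℂˣ) (n : G), n ∈ S.N → RelDeg.twHom D.M L n = L := fun L n hn =>
    (RelDeg.mem_inertia_lin D.M).1 ((htriv ⟨_, RelDeg.isIrr_lin D.M L⟩).2 hn)
  set MN := D.M.subgroupOf S.N with hMN
  haveI : MN.Normal := D.normalM.subgroupOf S.N
  haveI := Fintype.ofFinite MN
  have hMNcop : (Nat.card MN).Coprime MN.index := by
    obtain ⟨k, hk⟩ := D.idx
    rw [hMN, Nat.card_congr (Subgroup.subgroupOfEquivOfLe D.le).toEquiv,
      show (D.M.subgroupOf S.N).index = S.q ^ k from hk]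
    exact D.cop_pow k
  -- linear characters of `M` extend with order prime to `q`
  have hext : ∀ L₀ : MN →* ℂˣ, ∃ L : S.N →* ℂˣ, (∀ m : MN, L m = L₀ m) ∧
      ∀ n, L n ^ Nat.card MN = 1 := by
    intro L₀
    have hord : orderOf L₀ ∣ Nat.card MN := orderOf_dvd_of_pow_eq_one (MonoidHom.ext fun m => by
      rw [MonoidHom.pow_apply, ← map_pow, pow_card_eq_one', map_one, MonoidHom.one_apply])
    let e : MN ≃* D.M := Subgroup.subgroupOfEquivOfLe D.le
    obtain ⟨L, hL, hLo⟩ := exists_linear_extension_coprime L₀ (fun g m => by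
      have h1 := DFunLike.congr_fun (hlin (L₀.comp e.symm.toMonoidHom) g g.2) (e m)
      simp only [RelDeg.twHom, MonoidHom.comp_apply, MulEquiv.coe_toMonoidHom] at h1
      refine Eq.trans ?_ (h1.trans (by rw [MulEquiv.symm_apply_apply]))
      exact congrArg L₀ (Subtype.ext (Subtype.ext (by simp [e]; rfl))))
      ((hMNcop.coprime_dvd_left hord).symm)
    refine ⟨L, hL, fun n => ?_⟩
    rw [← MonoidHom.pow_apply, orderOf_dvd_iff_pow_eq_one.1 (hLo ▸ hord), MonoidHom.one_apply]
  refine ⟨?_, ?_⟩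
  · obtain ⟨a, b, hab⟩ := D.sys.gdeg_cases
    refine ⟨a, b, fun ψ hψ => ?_⟩
    obtain ⟨θ, hθ⟩ := exists_irr_constituent_res MN ψ.2
    obtain ⟨L₀, hL₀⟩ := exists_hom_of_degree_one θ.2.isCharacter (by
      have hc : ∀ x y : MN, x * y = y * x := fun x y => by
        apply (Subgroup.subgroupOfEquivOfLe D.le).injective
        rw [map_mul, map_mul, hMcm]
      rw [degree_eq_one_of_comm hc θ.2])
    obtain ⟨L, hL, hLo⟩ := hext L₀
    have hLθ : ∀ m : MN, (θ : MN → ℂ) m = (L m : ℂ) := fun m => by rw [hL, hL₀]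
    have hinv : ∀ g : S.N, conjTwist MN (θ : MN → ℂ) g = θ := fun g => funext fun m => by
      rw [conjTwist_apply, hLθ, hLθ]
      simp [mul_comm, mul_left_comm]
    have hres := clifford_invariant MN ψ.2 θ.2 hinv hθ
    have hval : ∀ m : MN, (ψ : S.N → ℂ) m = (ψ : S.N → ℂ) 1 * (L m : ℂ) := by
      intro m
      have h1 := congrFun hres m
      have h2 := congrFun hres 1
      simp only [Pi.smul_apply, smul_eq_mul, hLθ, OneMemClass.coe_one, map_one, Units.val_one,
        mul_one] at h1 h2
      rw [h1, h2]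
    set β₁ : S.N → ℂ := fun n => (ψ : S.N → ℂ) n * ((L⁻¹ : S.N →* ℂˣ) n : ℂ) with hβ₁
    have hβ₁irr : IsIrrCharacter S.N β₁ := isIrrCharacter_mul_linear ψ.2 L⁻¹
    have hker : D.toQ.ker = MN := by
      refine Subgroup.ext fun n => ?_
      rw [MonoidHom.mem_ker, hMN, Subgroup.mem_subgroupOf, ← QuotientGroup.eq_one_iff, ← Subtype.coe_inj]
      rfl
    obtain ⟨β₂, hβ₂, hβ₂v⟩ := exists_deflate_irr (N := D.toQ.ker) hβ₁irr fun m hm => by
      have h1 := hval ⟨m, hker ▸ hm⟩
      simp only [hβ₁, MonoidHom.inv_apply, Units.val_inv_eq_inv_val, map_one, Units.val_one, inv_one,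
        mul_one]
      rw [h1, mul_assoc, mul_inv_cancel₀ (Units.ne_zero _), mul_one]
    let e := QuotientGroup.quotientKerEquivOfSurjective D.toQ D.toQ_surj
    let β : IrrCharacter D.Qb := ⟨_, isIrrCharacter_comp_equiv e.symm hβ₂⟩
    have hβ : ∀ n, (β : D.Qb → ℂ) (D.toQ n) = β₁ n := fun n => by
      show β₂ (e.symm (D.toQ n)) = _
      rw [show e.symm (D.toQ n) = (n : S.N ⧸ D.toQ.ker) from e.symm_apply_eq.2 rfl, hβ₂v]
    have hψβ : ∀ n, (ψ : S.N → ℂ) n = (β : D.Qb → ℂ) (D.toQ n) * (L n : ℂ) := fun n => by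
      rw [hβ]; simp only [hβ₁]; rw [MonoidHom.inv_apply, Units.val_inv_eq_inv_val, mul_assoc,
        inv_mul_cancel₀ (Units.ne_zero _), mul_one]
    have hdeg : charDegree (β : D.Qb → ℂ) = charDegree (ψ : S.N → ℂ) := by
      have h1 := hψβ 1
      rw [map_one, map_one, Units.val_one, mul_one] at h1
      simp [charDegree, h1]
    -- the linear character is invariant
    obtain ⟨g, hgN, hg⟩ := S.inertia_ne ψ hψ
    have hgL : ∀ n, L (MulAut.conjNormal g n) = L n := by
      intro n
      set δ : S.N →* ℂˣ := L.comp (MulAut.conjNormal g : MulAut S.N).toMonoidHom * L⁻¹ with hδ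
      have hδM : ∀ m : MN, δ m = 1 := by
        intro m
        have hmem : MulAut.conjNormal g (m : S.N) ∈ MN := by
          show MulAut.conjNormal g (m : S.N) ∈ D.M.subgroupOf S.N
          rw [Subgroup.mem_subgroupOf, MulAut.conjNormal_apply]
          exact D.normalM.conj_mem _ m.2 g
        have h1 := (mem_inertia_iff S.N).1 hg m
        rw [show (⟨g * ((m : S.N) : G) * g⁻¹, _⟩ : S.N) = MulAut.conjNormal g (m : S.N) from
          Subtype.ext (by simp), hval ⟨_, hmem⟩, hval m] at h1
        rw [hδ, MonoidHom.mul_apply, MonoidHom.inv_apply, mul_inv_eq_one]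
        exact Units.ext (mul_left_cancel₀ ψ.2.apply_one_ne_zero h1)
      have h2 : δ n ^ MN.index = 1 := by
        rw [← map_pow]; exact hδM ⟨_, Subgroup.pow_index_mem MN n⟩
      have h3 : δ n ^ Nat.card MN = 1 := by
        rw [hδ, MonoidHom.mul_apply, MonoidHom.inv_apply, mul_pow, inv_pow, hLo]
        show L (MulAut.conjNormal g n) ^ _ * _ = 1
        rw [hLo, inv_one, one_mul]
      exact mul_inv_eq_one.1 (RelDeg.eq_one_of_pow_coprime h3 h2 hMNcop)
    have hall := S.lin_fix L hgN hgL
    have hI : inertia S.N (ψ : S.N → ℂ) = inertia S.N (fun n => (β : D.Qb → ℂ) (D.toQ n)) := by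
      ext y
      rw [mem_inertia_iff, mem_inertia_iff]
      refine forall_congr' fun n => ?_
      rw [hψβ, hψβ, show L ⟨y * n * y⁻¹, S.normalN.conj_mem n n.2 y⟩ = L n from by
        rw [← hall y n]; exact congrArg L (Subtype.ext (by simp))]
      exact ⟨fun h => mul_right_cancel₀ (Units.ne_zero _) h, fun h => by rw [h]⟩
    have hgd : S.gdegN ψ = gdeg D.sys.act (β : D.Qb → ℂ) := by
      rw [sys_act, D.gdeg_comp, Setup.gdegN, Setup.gdegN, hI, D.deg_comp, hdeg]
    rw [hgd]
    exact hab β (hdeg ▸ hψ)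
  · refine le_bot_iff.1 fun x hx => ?_
    have h1 : D.toQ x = 1 := Subgroup.mem_bot.1 (D.sys.derived_two ▸
      map_derivedSeries_le_derivedSeries D.toQ 2 ⟨x, hx, rfl⟩)
    have hxM : x ∈ MN := (QuotientGroup.eq_one_iff (x : G)).1 (congrArg Subtype.val h1)
    have hxc : x ∈ commutator S.N := derivedSeries_one S.N ▸ derivedSeries_antitone _ one_le_two hx
    have hc : ∀ p r : MN, p * r = r * p := fun p r => by
      apply (Subgroup.subgroupOfEquivOfLe D.le).injective
      rw [map_mul, map_mul, hMcm]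
    haveI := Fintype.ofFinite MN
    refine Subgroup.mem_bot.2 (congrArg Subtype.val (eq_one_of_forall_hom (a := (⟨x, hxM⟩ : MN)) hc
      fun L₀ => ?_))
    obtain ⟨L, hL, -⟩ := hext L₀
    rw [← hL]
    exact Abelianization.commutator_subset_ker L hxc

end Cfsg.Lib.Char.Ndad.Sect
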