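import Cfsg.Agent.Lib.Char.Ndad.AbelianTop
import Cfsg.Agent.Lib.Char.Ndad.Nonabelian
import Cfsg.Agent.Lib.Char.MinimalQuotient
import Cfsg.Agent.Lib.Char.NoDivide.NormalComplement

/-!
# Solvable groups without divisibility among degrees
-/

set_option autoImplicit false
set_option linter.unusedSectionVars false
set_option linter.style.haveILetI false

namespace Cfsg.Lib.Char.Ndad

open Cfsg Cfsg.Lib.Char
open scoped commutatorElement

universe u

variable {G : Type u} [Group G] [Fintype G]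

theorem card_le_four {a b c : ℕ}
    (h : ∀ χ : IrrCharacter G, charDegree (χ : G → ℂ) = 1 ∨ charDegree (χ : G → ℂ) = a ∨
      charDegree (χ : G → ℂ) = b ∨ charDegree (χ : G → ℂ) = c) :
    Nat.card (charDegrees G) ≤ 4 := by
  have hsub : charDegrees G ⊆ ((({1, a, b, c} : Finset ℕ)) : Set ℕ) := by
    rintro d ⟨χ, rfl⟩
    simpa using h χ
  refine (Nat.card_mono (Finset.finite_toSet _) hsub).trans ?_
  rw [Nat.card_coe_set_eq, Set.ncard_coe_finset]
  exact Finset.card_le_four

theorem prime_power_case [Group.IsSolvable G]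
    (hnd : ∀ a ∈ charDegrees G, ∀ b ∈ charDegrees G, 1 < a → a < b → ¬ a ∣ b)
    {p : ℕ} {K : Subgroup G} (h : PrimePowerCase p K) :
    Nat.card (charDegrees G) ≤ 4 ∧ derivedSeries G 3 = ⊥ := by
  classical
  obtain ⟨e, he, -, hmul⟩ := h.exists_mul
  obtain ⟨hK, hp, ⟨k, hk⟩, β, hβ, e', he', hβd⟩ := h
  haveI := hK
  have hdvd : ∀ χ : IrrCharacter G, charDegree (χ : G → ℂ) ≠ 1 → p ∣ charDegree (χ : G → ℂ) := by
    intro χ hχ
    by_contra hd
    obtain ⟨ψ, hψ⟩ := hmul χ hd
    have h1 := χ.2.charDegree_pos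
    have h2 : 1 < p ^ e := Nat.one_lt_pow he.ne' hp.one_lt
    refine hnd _ ⟨χ, rfl⟩ _ ⟨ψ, rfl⟩ (by omega) ?_ (hψ ▸ dvd_mul_left _ _)
    rw [hψ]
    exact lt_mul_left h1 h2
  obtain ⟨C, hC, hcop, i, hi⟩ := Cfsg.Agent.S4456.result (G := G) p hp hdvd
  haveI := hC
  have heq : ∀ ψ φ : IrrCharacter G, charDegree (ψ : G → ℂ) ≠ 1 → charDegree (φ : G → ℂ) ≠ 1 →
      charDegree (ψ : G → ℂ) ∣ charDegree (φ : G → ℂ) →
        charDegree (ψ : G → ℂ) = charDegree (φ : G → ℂ) := by
    intro ψ φ hψ hφ hd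
    by_contra hne
    have h1 := ψ.2.charDegree_pos
    exact hnd _ ⟨ψ, rfl⟩ _ ⟨φ, rfl⟩ (by omega)
      (lt_of_le_of_ne (Nat.le_of_dvd φ.2.charDegree_pos hd) hne) hd
  rcases NoDivide.degree_eq_or_commutator_le hp C hcop hi heq with hone | hle
  · have hβ1 : charDegree (β : G → ℂ) ≠ 1 := by
      rw [hβd]; exact (Nat.one_lt_pow he'.ne' hp.one_lt).ne'
    have hcd : ∀ χ : IrrCharacter G, charDegree (χ : G → ℂ) = 1 ∨
        charDegree (χ : G → ℂ) = charDegree (β : G → ℂ) := fun χ =>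
      (em (charDegree (χ : G → ℂ) = 1)).imp_right fun h1 => hone χ β h1 hβ1
    refine ⟨card_le_four (b := 1) (c := 1) fun χ => (hcd χ).imp_right Or.inl, ?_⟩
    rw [derivedSeries_succ, derivedSeries_two_eq_bot hcd, Subgroup.commutator_bot_left]
  · exfalso
    have hCK : C ≤ K := fun c hc => (QuotientGroup.eq_one_iff c).1
      (RelDeg.eq_one_of_pow_coprime (x := QuotientGroup.mk' K c) (a := Nat.card C) (b := p ^ k)
        (by rw [← map_pow, show c ^ Nat.card C = 1 from
          congrArg Subtype.val (pow_card_eq_one' (x := (⟨c, hc⟩ : C))), map_one])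
        (by rw [← map_pow, ← hk]; exact (QuotientGroup.eq_one_iff _).2 (Subgroup.pow_index_mem K _))
        (hcop.pow_right k))
    haveI := Fintype.ofFinite K
    have h1 := charDegree_eq_one_of_trivial K (hle.trans hCK) β.2 hβ
    rw [hβd] at h1
    exact (Nat.one_lt_pow he'.ne' hp.one_lt).ne' h1

theorem fixed_point_free_case [Group.IsSolvable G]
    (hnd : ∀ a ∈ charDegrees G, ∀ b ∈ charDegrees G, 1 < a → a < b → ¬ a ∣ b)
    {q : ℕ} {K N : Subgroup G} (h : FixedPointFreeCase q K N) :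
    Nat.card (charDegrees G) ≤ 4 ∧ derivedSeries G 3 = ⊥ := by
  classical
  haveI : N.Normal := h.2.1
  haveI : K.Normal := h.1
  let S : Setup G := { q := q, K := K, N := N, hF := h, hnd := hnd }
  obtain ⟨D⟩ := S.exists_sect
  haveI := Fintype.ofFinite S.N
  haveI := Fintype.ofFinite D.Qb
  haveI := Fintype.ofFinite D.M
  obtain ⟨⟨a, b, hab⟩, h2⟩ : (∃ a b : ℕ, ∀ ψ : IrrCharacter S.N, charDegree (ψ : S.N → ℂ) ≠ 1 →
      S.gdegN (ψ : S.N → ℂ) = a ∨ S.gdegN (ψ : S.N → ℂ) = b) ∧ derivedSeries S.N 2 = ⊥ := by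
    by_cases hQ : lcs D.Qb 1 = ⊥
    · obtain ⟨A⟩ := D.exists_abel hQ
      obtain ⟨⟨d, hd⟩, h2⟩ := A.abelian_result
      exact ⟨⟨d, d, fun ψ hψ => Or.inl (hd ψ hψ)⟩, h2⟩
    · exact D.nonabelian_result hQ
  refine ⟨card_le_four (a := S.N.index) (b := a) (c := b) fun χ => ?_, ?_⟩
  · rcases S.cases χ with h1 | h1 | ⟨ψ, hψ, h1⟩
    · exact Or.inl h1
    · exact Or.inr (Or.inl h1)
    · rcases hab ψ hψ with e | e
      · exact Or.inr (Or.inr (Or.inl (h1.trans e)))
      · exact Or.inr (Or.inr (Or.inr (h1.trans e)))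
  · have hle : ∀ n : ℕ, derivedSeries G (n + 1) ≤ (derivedSeries S.N n).map S.N.subtype := by
      intro n
      induction n with
      | zero =>
        rw [derivedSeries_succ, derivedSeries_zero, derivedSeries_zero, ← MonoidHom.range_eq_map,
          Subgroup.range_subtype, Subgroup.commutator_le]
        exact fun x _ y _ => S.mem_of_comm x y
      | succ n ih =>
        show ⁅derivedSeries G (n + 1), derivedSeries G (n + 1)⁆ ≤
          (⁅derivedSeries S.N n, derivedSeries S.N n⁆).map S.N.subtype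
        rw [Subgroup.map_commutator]
        exact Subgroup.commutator_mono ih ih
    have h3 := hle 2
    rw [h2, Subgroup.map_bot, le_bot_iff] at h3
    exact h3

theorem bounds [Group.IsSolvable G]
    (hnd : ∀ a ∈ charDegrees G, ∀ b ∈ charDegrees G, 1 < a → a < b → ¬ a ∣ b) :
    Nat.card (charDegrees G) ≤ 4 ∧ derivedSeries G 3 = ⊥ := by
  classical
  by_cases hc : ∀ a b : G, a * b = b * a
  · refine ⟨card_le_four (a := 1) (b := 1) (c := 1) fun χ => Or.inl ?_, ?_⟩
    · exact charDegree_of_one_eq (by rw [degree_eq_one_of_comm hc χ.2, Nat.cast_one])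
    · have h1 : derivedSeries G 1 = ⊥ := by
        rw [derivedSeries_succ, derivedSeries_zero, ← le_bot_iff, Subgroup.commutator_le]
        exact fun x _ y _ => Subgroup.mem_bot.2 (commutatorElement_eq_one_iff_mul_comm.2 (hc x y))
      rw [derivedSeries_succ, derivedSeries_succ, h1, Subgroup.commutator_bot_left,
        Subgroup.commutator_bot_left]
  · rcases exists_minimal_quotient hc with ⟨p, K, h⟩ | ⟨q, K, N, h⟩
    · exact prime_power_case hnd h
    · exact fixed_point_free_case hnd h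

end Cfsg.Lib.Char.Ndad
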