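import Mathlib.Algebra.Module.ZMod
import Mathlib.RingTheory.RootsOfUnity.EnoughRootsOfUnity
import Mathlib.RingTheory.RootsOfUnity.Complex
import Mathlib.GroupTheory.QuotientGroup.Basic
import Mathlib.Algebra.Group.Subgroup.Pointwise
import Mathlib.Tactic

/-!
# Roots of unity as a field and lifts of pairings
-/

set_option autoImplicit false
set_option linter.unusedSectionVars false
set_option linter.style.haveILetI false

namespace Cfsg.Lib.Char.Ndad

open scoped IsMulCommutative

universe u v w

section Log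

variable {q : ℕ} [hq : Fact q.Prime]

theorem exists_zeta : ∃ ζ : ℂˣ, IsPrimitiveRoot ζ q :=
  ⟨((Complex.isPrimitiveRoot_exp q hq.out.ne_zero).isUnit hq.out.ne_zero).unit,
    IsPrimitiveRoot.coe_units_iff.1 (Complex.isPrimitiveRoot_exp q hq.out.ne_zero)⟩

/-- A chosen primitive root. -/
noncomputable def zeta (q : ℕ) [hq : Fact q.Prime] : ℂˣ := (exists_zeta (q := q)).choose

theorem zeta_spec : IsPrimitiveRoot (zeta q) q := (exists_zeta (q := q)).choose_spec

/-- The residue as a root of unity. -/
noncomputable def expK (a : ZMod q) : ℂˣ :=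
  ((zeta_spec (q := q)).zmodEquivZPowers a).toMul

theorem expK_add (a b : ZMod q) : expK (a + b) = expK a * expK b := by
  simp [expK]

theorem expK_zero : expK (0 : ZMod q) = 1 := by simp [expK]

theorem expK_eq_one {a : ZMod q} (h : expK a = 1) : a = 0 := by
  apply (zeta_spec (q := q)).zmodEquivZPowers.injective
  rw [map_zero]
  exact Additive.toMul.injective (Subtype.ext h)

theorem mem_zpowers_zeta {u : ℂˣ} (h : u ^ q = 1) : u ∈ Subgroup.zpowers (zeta q) := by
  haveI : NeZero q := ⟨hq.out.ne_zero⟩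
  rw [(zeta_spec (q := q)).zpowers_eq]
  exact h

open Classical in
/-- A root of unity as a residue. -/
noncomputable def logK (u : ℂˣ) : ZMod q :=
  if h : u ∈ Subgroup.zpowers (zeta q) then
    (zeta_spec (q := q)).zmodEquivZPowers.symm (Additive.ofMul ⟨u, h⟩) else 0

theorem expK_logK {u : ℂˣ} (h : u ^ q = 1) : expK (logK (q := q) u) = u := by
  rw [logK, dif_pos (mem_zpowers_zeta h), expK, AddEquiv.apply_symm_apply]
  rfl

theorem logK_expK (a : ZMod q) : logK (expK a) = a := by
  have h : expK a ^ q = 1 := by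
    have e : ∀ n : ℕ, expK a ^ n = expK ((n : ZMod q) * a) := fun n => by
      induction n with
      | zero => simp [expK_zero]
      | succ n ih => rw [pow_succ, ih, ← expK_add]; congr 1; push_cast; ring
    rw [e, ZMod.natCast_self, zero_mul, expK_zero]
  have h2 : expK (logK (q := q) (expK a) - a) = 1 := by
    have h3 := expK_add (logK (q := q) (expK a) - a) a
    rw [sub_add_cancel, expK_logK h] at h3
    exact (mul_eq_right).1 h3.symm
  exact sub_eq_zero.1 (expK_eq_one h2)

theorem logK_mul {u v : ℂˣ} (hu : u ^ q = 1) (hv : v ^ q = 1) :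
    logK (q := q) (u * v) = logK u + logK v := by
  conv_lhs => rw [← expK_logK hu, ← expK_logK hv, ← expK_add, logK_expK]

theorem logK_one : logK (q := q) 1 = 0 := by rw [← expK_zero (q := q), logK_expK]

theorem logK_inv {u : ℂˣ} (hu : u ^ q = 1) : logK (q := q) u⁻¹ = - logK u := by
  refine eq_neg_of_add_eq_zero_left ?_
  rw [← logK_mul (by rw [inv_pow, hu, inv_one]) hu, inv_mul_cancel, logK_one]

theorem eq_one_of_logK {u : ℂˣ} (hu : u ^ q = 1) (h : logK (q := q) u = 0) : u = 1 := by
  rw [← expK_logK hu, h, expK_zero]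

end Log

section Bil

variable {q : ℕ} {X : Type u} [Group X] {Y : Type v} [Group Y]
  {X' : Subgroup X} [X'.Normal] [IsMulCommutative (X ⧸ X')]
  {Y' : Subgroup Y} [Y'.Normal] [IsMulCommutative (Y ⧸ Y')]
  [Module (ZMod q) (Additive (X ⧸ X'))] [Module (ZMod q) (Additive (Y ⧸ Y'))]
  {M : Type w} [AddCommGroup M] [Module (ZMod q) M]

/-- A pairing on representatives as a bilinear map. -/
noncomputable def bilin (F : X → Y → M) (hl : ∀ a b y, F (a * b) y = F a y + F b y)
    (hr : ∀ x a b, F x (a * b) = F x a + F x b) (hX : ∀ x ∈ X', ∀ y, F x y = 0)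
    (hY : ∀ x, ∀ y ∈ Y', F x y = 0) :
    Additive (X ⧸ X') →ₗ[ZMod q] Additive (Y ⧸ Y') →ₗ[ZMod q] M :=
  let inner : X → Additive (Y ⧸ Y') →ₗ[ZMod q] M := fun x =>
    (MonoidHom.toAdditiveLeft (QuotientGroup.lift Y'
      (MonoidHom.mk' (fun y => Multiplicative.ofAdd (F x y)) fun a b => by
        rw [hr]; rfl) fun y hy => by
          simp [MonoidHom.mem_ker, hY x y hy])).toZModLinearMap q
  (MonoidHom.toAdditiveLeft (QuotientGroup.lift X'
    (MonoidHom.mk' (fun x => Multiplicative.ofAdd (inner x)) fun a b => by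
      show Multiplicative.ofAdd (inner (a * b)) = Multiplicative.ofAdd (inner a + inner b)
      congr 1
      refine LinearMap.ext fun z => ?_
      obtain ⟨y, hy⟩ := QuotientGroup.mk_surjective z.toMul
      rw [show z = Additive.ofMul (y : Y ⧸ Y') by rw [hy]; rfl]
      exact hl a b y) fun x hx => by
        rw [MonoidHom.mem_ker]
        show Multiplicative.ofAdd (inner x) = Multiplicative.ofAdd 0
        congr 1
        refine LinearMap.ext fun z => ?_
        obtain ⟨y, hy⟩ := QuotientGroup.mk_surjective z.toMul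
        rw [show z = Additive.ofMul (y : Y ⧸ Y') by rw [hy]; rfl]
        exact hX x hx y)).toZModLinearMap q

theorem bilin_apply (F : X → Y → M) (hl : ∀ a b y, F (a * b) y = F a y + F b y)
    (hr : ∀ x a b, F x (a * b) = F x a + F x b) (hX : ∀ x ∈ X', ∀ y, F x y = 0)
    (hY : ∀ x, ∀ y ∈ Y', F x y = 0) (x : X) (y : Y) :
    bilin (q := q) F hl hr hX hY (Additive.ofMul (x : X ⧸ X')) (Additive.ofMul (y : Y ⧸ Y')) =
      F x y := rfl

end Bil

end Cfsg.Lib.Char.Ndad
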