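import Cfsg.Agent.Lib.Char.Ndad.StageFour

/-!
# Consequences of the analysis of a section
-/

set_option autoImplicit false
set_option linter.unusedSectionVars false
set_option linter.style.haveILetI false
set_option maxHeartbeats 800000

namespace Cfsg.Lib.Char.Ndad

open Cfsg Cfsg.Lib.Char
open scoped commutatorElement

universe u v w

variable {Q : Type u} [Group Q]

/-- A degree is at most the index of an abelian subgroup. -/
theorem degree_le_index [Fintype Q] (T : Subgroup Q) (hT : ∀ a b : T, a * b = b * a)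
    (χ : IrrCharacter Q) : charDegree (χ : Q → ℂ) ≤ T.index := by
  classical
  haveI := Fintype.ofFinite T
  obtain ⟨θ, hθ⟩ := exists_constituent (χ.2.isCharacter.comp T.subtype) χ.2.apply_one_ne_zero
  have h1 := degree_le_of_constituent χ.2 (isCharacter_indFun T θ.2.isCharacter) (by
    rw [classInner_indFun T _ χ.2.isClassFunction, ← classInner_conj_symm]
    exact (map_ne_zero _).2 hθ)
  rw [indFun_apply_one, Complex.mul_re, Complex.natCast_re, Complex.natCast_im, zero_mul, sub_zero,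
    degree_eq_one_of_comm hT θ.2, Complex.one_re, mul_one, χ.2.apply_one_eq_charDegree,
    Complex.natCast_re] at h1
  exact_mod_cast h1

/-- A power of a product with central commutator. -/
theorem mul_pow_of_central {a b : Q} (hc : ∀ y, ⁅b, a⁆ * y = y * ⁅b, a⁆) :
    ∀ n : ℕ, (a * b) ^ n = a ^ n * b ^ n * ⁅b, a⁆ ^ (n.choose 2) := by
  have key : ∀ n : ℕ, b ^ n * a = a * b ^ n * ⁅b, a⁆ ^ n := by
    intro n
    induction n with
    | zero => simp
    | succ n ih =>
      have e : b * a = a * b * ⁅b, a⁆ := by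
        rw [← hc, commutatorElement_def]; group
      calc b ^ (n + 1) * a = b ^ n * (b * a) := by rw [pow_succ, mul_assoc]
        _ = b ^ n * a * b * ⁅b, a⁆ := by rw [e]; simp only [mul_assoc]
        _ = a * b ^ n * (⁅b, a⁆ ^ n * b) * ⁅b, a⁆ := by rw [ih]; simp only [mul_assoc]
        _ = a * b ^ (n + 1) * ⁅b, a⁆ ^ (n + 1) := by
          rw [(Commute.pow_left (hc b) n).eq, pow_succ, pow_succ]; simp only [mul_assoc]
  intro n
  induction n with
  | zero => simp
  | succ n ih =>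
    have hcn : ∀ m y, ⁅b, a⁆ ^ m * y = y * ⁅b, a⁆ ^ m := fun m y => (Commute.pow_left (hc y) m).eq
    calc (a * b) ^ (n + 1) = a ^ n * b ^ n * (⁅b, a⁆ ^ n.choose 2 * (a * b)) := by
          rw [pow_succ, ih, mul_assoc]
      _ = a ^ n * (b ^ n * a) * b * ⁅b, a⁆ ^ n.choose 2 := by rw [hcn]; simp only [mul_assoc]
      _ = a ^ n * a * b ^ n * (⁅b, a⁆ ^ n * b) * ⁅b, a⁆ ^ n.choose 2 := by
          rw [key]; simp only [mul_assoc]
      _ = a ^ (n + 1) * b ^ (n + 1) * ⁅b, a⁆ ^ (n + 1).choose 2 := by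
          rw [hcn, Nat.choose_succ_succ, Nat.choose_one_right, pow_succ, pow_succ, pow_add]
          simp only [mul_assoc]

variable [Fintype Q] {C : Type v} [Group C] [Finite C]

namespace Sys

variable (S : Sys Q C)

include S

/-- An element fixing a displacement fixes the element. -/
theorem fixed_of_displacement {c : C} {z : Q}
    (h : S.act c (z⁻¹ * S.act c z) = z⁻¹ * S.act c z) : S.act c z = z := by
  set δ := z⁻¹ * S.act c z with hδ
  have hit : ∀ i : ℕ, S.act (c ^ i) z = z * δ ^ i ∧ S.act (c ^ i) δ = δ := by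
    intro i
    induction i with
    | zero => simp
    | succ i ih =>
      refine ⟨?_, by rw [pow_succ, S.act_mul, h, ih.2]⟩
      rw [pow_succ, S.act_mul, show S.act c z = z * δ by rw [hδ, mul_inv_cancel_left], map_mul,
        ih.1, ih.2, pow_succ, mul_assoc]
  have h2 := (hit (orderOf c)).1
  simp only [pow_orderOf_eq_one, map_one, MulAut.one_apply, left_eq_mul] at h2
  obtain ⟨m, hm⟩ := S.hpQ δ
  have h3 := RelDeg.eq_one_of_pow_coprime h2 hm
    ((Nat.Coprime.pow_left m ((S.hq.coprime_iff_not_dvd).2 (S.not_dvd_orderOf c))).symm)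
  rwa [hδ, inv_mul_eq_one, eq_comm] at h3

theorem isNilpotent : Group.IsNilpotent Q := by
  haveI := Fact.mk S.hq
  exact S.hpQ.isNilpotent

theorem eq_bot_of_le_succ {k : ℕ} (h : lcs Q k ≤ lcs Q (k + 1)) : lcs Q k = ⊥ := by
  haveI := S.isNilpotent
  obtain ⟨n, hn⟩ := Subgroup.nilpotent_iff_lowerCentralSeries.1 (inferInstance : Group.IsNilpotent Q)
  have hall : ∀ j, lcs Q k ≤ lcs Q (k + j) := by
    intro j
    induction j with
    | zero => exact le_rfl
    | succ j ih =>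
      calc lcs Q k ≤ lcs Q (k + 1) := h
        _ = ⁅lcs Q k, (⊤ : Subgroup Q)⁆ := rfl
        _ ≤ ⁅lcs Q (k + j), (⊤ : Subgroup Q)⁆ := Subgroup.commutator_mono ih le_rfl
        _ = lcs Q (k + (j + 1)) := rfl
  exact le_bot_iff.1 ((hall n).trans ((lcs_le (Nat.le_add_left n k)).trans hn.le))

theorem exists_nonTriv {k : ℕ} (h : lcs Q k ≠ ⊥) : ∃ f : Q → ℂˣ, Layer k f ∧ NonTriv k f := by
  by_contra hh
  push Not at hh
  exact h (S.eq_bot_of_le_succ fun z hz =>
    mem_lcs_succ_of_layer hz fun f hf => eq_one_of_not_nonTriv (hh f hf) hz)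

/-- The group fixes every non-linear character, or the second layer has a proper stabiliser. -/
theorem cases :
    (∀ β : IrrCharacter Q, charDegree (β : Q → ℂ) ≠ 1 → fixer S.act (β : Q → ℂ) = ⊤) ∨
      Nonempty S.Proper := by
  by_cases hlayer : ∃ f : Q → ℂˣ, Layer 1 f ∧ NonTriv 1 f
  · rcases S.dichotomy with h | ⟨D, hD, hfix, hcomm⟩
    · haveI := S.isNilpotent
      exact Or.inl (S.fixer_eq_top h)
    · exact Or.inr ⟨⟨D, hD, hfix, hcomm, hlayer⟩⟩
  · left
    intro β hβ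
    refine absurd (charDegree_eq_one_of_trivial (⊥ : Subgroup Q) ?_ β.2 fun x hx => by
      rw [Subgroup.mem_bot.1 hx]) hβ
    rw [← lcs_one]
    by_contra h
    exact hlayer (S.exists_nonTriv fun e => h e.le)

theorem degree_pow (β : IrrCharacter Q) : ∃ k, charDegree (β : Q → ℂ) = S.q ^ k := by
  haveI := Fact.mk S.hq
  obtain ⟨n, hn⟩ := IsPGroup.iff_card.1 S.hpQ
  obtain ⟨k, -, hk⟩ := (Nat.dvd_prime_pow S.hq).1 (hn ▸ charDegree_dvd_card β.2)
  exact ⟨k, hk⟩

theorem fixed_unique (h : ∀ β : IrrCharacter Q, charDegree (β : Q → ℂ) ≠ 1 →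
      fixer S.act (β : Q → ℂ) = ⊤) (β β' : IrrCharacter Q) (hβ : charDegree (β : Q → ℂ) ≠ 1)
    (hβ' : charDegree (β' : Q → ℂ) ≠ 1) :
    charDegree (β : Q → ℂ) = charDegree (β' : Q → ℂ) := by
  have hg : ∀ γ : IrrCharacter Q, charDegree (γ : Q → ℂ) ≠ 1 →
      gdeg S.act (γ : Q → ℂ) = charDegree (γ : Q → ℂ) := fun γ hγ => by
    rw [gdeg, h γ hγ, Subgroup.index_top, mul_one]
  obtain ⟨i, hi⟩ := S.degree_pow β
  obtain ⟨j, hj⟩ := S.degree_pow β'
  rcases le_total i j with hij | hij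
  · have := S.anti β β' hβ hβ' (by rw [hg β hβ, hg β' hβ', hi, hj]; exact pow_dvd_pow _ hij)
    rwa [hg β hβ, hg β' hβ'] at this
  · have := S.anti β' β hβ' hβ (by rw [hg β hβ, hg β' hβ', hi, hj]; exact pow_dvd_pow _ hij)
    rw [hg β hβ, hg β' hβ'] at this
    exact this.symm

end Sys

namespace Sys.Proper

variable {S : Sys Q C} (P : S.Proper)

include P

theorem lcs_three_eq_bot : lcs Q 3 = ⊥ := by
  by_contra h
  obtain ⟨f, hf, hf0⟩ := S.exists_nonTriv h
  exact P.not_nonTriv_three hf hf0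

theorem gdeg_cases :
    ∃ a b : ℕ, ∀ β : IrrCharacter Q, charDegree (β : Q → ℂ) ≠ 1 →
      gdeg S.act (β : Q → ℂ) = a ∨ gdeg S.act (β : Q → ℂ) = b := by
  classical
  -- one degree for each layer
  have one : ∀ (f g : Q → ℂˣ) (hf : Layer 1 f) (hg : Layer 1 g), NonTriv 1 f → NonTriv 1 g →
      ∀ χ η : IrrCharacter Q, Over (lcs Q 1) hf.isLam.hom χ → Over (lcs Q 1) hg.isLam.hom η →
        gdeg S.act (χ : Q → ℂ) = gdeg S.act (η : Q → ℂ) := by
    intro f g hf hg hf0 hg0 χ η hχ hη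
    obtain ⟨-, hfx, hsq, -⟩ := S.layerOne_char hf hf0 hχ
    obtain ⟨-, hfx', hsq', -⟩ := S.layerOne_char hg hg0 hη
    rw [P.radOne_eq hf hf0] at hsq
    rw [P.radOne_eq hg hg0] at hsq'
    rw [gdeg, gdeg, hfx, hfx', P.fix f hf hf0, P.fix g hg hg0,
      Nat.pow_left_injective two_ne_zero (hsq.trans hsq'.symm)]
  have two : ∀ (f g : Q → ℂˣ) (hf : Layer 2 f) (hg : Layer 2 g), NonTriv 2 f → NonTriv 2 g →
      ∀ χ η : IrrCharacter Q, Over (lcs Q 2) hf.isLam.hom χ → Over (lcs Q 2) hg.isLam.hom η →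
        gdeg S.act (χ : Q → ℂ) = gdeg S.act (η : Q → ℂ) := by
    intro f g hf hg hf0 hg0 χ η hχ hη
    obtain ⟨-, hfx, hsq⟩ := P.layerTwo_char hf hf0 hχ
    obtain ⟨-, hfx', hsq'⟩ := P.layerTwo_char hg hg0 hη
    rw [gdeg, gdeg, hfx, hfx', P.fix_two hf hg hf0 hg0,
      Nat.pow_left_injective two_ne_zero (hsq.trans hsq'.symm)]
  -- every non-linear character lies over a layer
  have ext : ∀ (k : ℕ) (β : IrrCharacter Q),
      (∀ z ∈ lcs Q (k + 1), (β : Q → ℂ) z = (β : Q → ℂ) 1) →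
      ∃ f : Q → ℂˣ, ∃ hf : Layer k f, Over (lcs Q k) hf.isLam.hom β := by
    intro k β hker
    obtain ⟨ω, hω, hω1⟩ := (show Over (lcs Q (k + 1)) 1 (β : Q → ℂ) from fun z => by
      rw [MonoidHom.one_apply, Units.val_one, mul_one]; exact hker z z.2).exists_extension
        (lcs Q k) (lcs_le (Nat.le_succ k)) fun x hx y => ⟨comm_mem_succ hx y, rfl⟩
    let F : Q → ℂˣ := fun x => if hx : x ∈ lcs Q k then ω ⟨x, hx⟩ else 1
    have hF : ∀ x (hx : x ∈ lcs Q k), F x = ω ⟨x, hx⟩ := fun x hx => dif_pos hx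
    refine ⟨F, ⟨fun a ha b hb => ?_, fun a ha => ?_⟩, fun z => ?_⟩
    · rw [hF _ (mul_mem ha hb), hF a ha, hF b hb, ← map_mul]; rfl
    · rw [hF a (lcs_le (Nat.le_succ k) ha), hω1 ⟨a, ha⟩, MonoidHom.one_apply]
    · rw [IsLam.hom_apply, hF z z.2]; exact hω z
  have hab : ∃ a, ∀ (f : Q → ℂˣ) (hf : Layer 1 f), NonTriv 1 f → ∀ χ : IrrCharacter Q,
      Over (lcs Q 1) hf.isLam.hom χ → gdeg S.act (χ : Q → ℂ) = a := by
    obtain ⟨g, hg, hg0⟩ := P.layer
    obtain ⟨η, hη⟩ := hg.isLam.exists_over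
    exact ⟨_, fun f hf hf0 χ hχ => one f g hf hg hf0 hg0 χ η hχ hη⟩
  obtain ⟨a, ha⟩ := hab
  have hb : ∃ b, ∀ (f : Q → ℂˣ) (hf : Layer 2 f), NonTriv 2 f → ∀ χ : IrrCharacter Q,
      Over (lcs Q 2) hf.isLam.hom χ → gdeg S.act (χ : Q → ℂ) = b := by
    by_cases h : ∃ g : Q → ℂˣ, Layer 2 g ∧ NonTriv 2 g
    · obtain ⟨g, hg, hg0⟩ := h
      obtain ⟨η, hη⟩ := hg.isLam.exists_over
      exact ⟨_, fun f hf hf0 χ hχ => two f g hf hg hf0 hg0 χ η hχ hη⟩
    · exact ⟨0, fun f hf hf0 => absurd ⟨f, hf, hf0⟩ h⟩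
  obtain ⟨b, hb⟩ := hb
  refine ⟨a, b, fun β hβ => ?_⟩
  obtain ⟨f, hf, hfβ⟩ := ext 2 β fun z hz => by
    have hz1 : z = 1 := Subgroup.mem_bot.1 (P.lcs_three_eq_bot ▸ hz)
    rw [hz1]
  by_cases hf0 : NonTriv 2 f
  · exact Or.inr (hb f hf hf0 β hfβ)
  obtain ⟨g, hg, hgβ⟩ := ext 1 β fun z hz => by
    rw [hf.isLam.over_apply hfβ hz, eq_one_of_not_nonTriv hf0 hz, Units.val_one, mul_one]
  refine Or.inl (ha g hg ?_ β hgβ)
  by_contra hg0
  refine hβ (charDegree_eq_one_of_trivial (lcs Q 1) (le_of_eq lcs_one.symm) β.2 fun z hz => ?_)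
  rw [hg.isLam.over_apply hgβ hz, eq_one_of_not_nonTriv hg0 hz, Units.val_one, mul_one]

theorem derived_two : derivedSeries Q 2 = ⊥ := by
  rw [← le_bot_iff, derivedSeries_succ, derivedSeries_one, ← lcs_one, Subgroup.commutator_le]
  intro x hx y hy
  rw [← P.lcs_three_eq_bot]
  have h := comm_mem_lcs hx hy
  simpa only [Nat.reduceAdd] using h

end Sys.Proper

namespace Sys

variable (S : Sys Q C)

include S

/-- At most two degrees over non-linear characters. -/
theorem gdeg_cases :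
    ∃ a b : ℕ, ∀ β : IrrCharacter Q, charDegree (β : Q → ℂ) ≠ 1 →
      gdeg S.act (β : Q → ℂ) = a ∨ gdeg S.act (β : Q → ℂ) = b := by
  rcases S.cases with h | ⟨⟨P⟩⟩
  · by_cases h0 : ∃ γ : IrrCharacter Q, charDegree (γ : Q → ℂ) ≠ 1
    · obtain ⟨γ, hγ⟩ := h0
      exact ⟨charDegree (γ : Q → ℂ), 0, fun β hβ => Or.inl (by
        rw [gdeg, h β hβ, Subgroup.index_top, mul_one, S.fixed_unique h β γ hβ hγ])⟩
    · exact ⟨0, 0, fun β hβ => absurd ⟨β, hβ⟩ h0⟩
  · exact P.gdeg_cases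

/-- The second derived subgroup is trivial. -/
theorem derived_two : derivedSeries Q 2 = ⊥ := by
  rcases S.cases with h | ⟨⟨P⟩⟩
  · haveI := S.isNilpotent
    by_cases h0 : ∃ γ : IrrCharacter Q, charDegree (γ : Q → ℂ) ≠ 1
    · obtain ⟨γ, hγ⟩ := h0
      exact derivedSeries_two_eq_bot (d := charDegree (γ : Q → ℂ)) fun β => by
        by_cases hβ : charDegree (β : Q → ℂ) = 1
        · exact Or.inl hβ
        · exact Or.inr (S.fixed_unique h β γ hβ hγ)
    · exact derivedSeries_two_eq_bot (d := 1) fun β => Or.inl (by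
        by_contra hβ
        exact h0 ⟨β, hβ⟩)
  · exact P.derived_two

/-- The product of a degree and an index prime to `q`. -/
theorem eq_of_qpart (β : IrrCharacter Q) {t i j : ℕ} (ht : ∃ k, t = S.q ^ k) (hi : ¬ S.q ∣ i)
    (hj : ¬ S.q ∣ j) (h : charDegree (β : Q → ℂ) * i = t * j) :
    charDegree (β : Q → ℂ) = t := by
  obtain ⟨k, hk⟩ := S.degree_pow β
  obtain ⟨l, rfl⟩ := ht
  rw [hk] at h ⊢
  refine Nat.dvd_antisymm ?_ ?_
  · exact (Nat.Coprime.pow_left k ((S.hq.coprime_iff_not_dvd).2 hj)).dvd_of_dvd_mul_right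
      ⟨i, h.symm⟩
  · exact (Nat.Coprime.pow_left l ((S.hq.coprime_iff_not_dvd).2 hi)).dvd_of_dvd_mul_right
      ⟨j, h⟩

theorem not_dvd_index (H : Subgroup C) : ¬ S.q ∣ H.index :=
  fun h => S.cop (h.trans H.index_dvd_card)

theorem index_pow (T : Subgroup Q) : ∃ k, T.index = S.q ^ k := by
  haveI := Fact.mk S.hq
  obtain ⟨n, hn⟩ := IsPGroup.iff_card.1 S.hpQ
  obtain ⟨k, -, hk⟩ := (Nat.dvd_prime_pow S.hq).1 (hn ▸ T.index_dvd_card)
  exact ⟨k, hk⟩

/-- An abelian subgroup fixed by an element whose induced degree is not a proper multiple. -/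
theorem no_small_fixed (hU : S.U ≠ ⊤) (hQ : lcs Q 1 ≠ ⊥) {T : Subgroup Q}
    (hT : ∀ a b : T, a * b = b * a) {c : C} (hc : c ≠ 1) (hfix : ∀ x ∈ T, S.act c x = x) {e : ℕ}
    (he : ¬ S.q ∣ e)
    (hdvd : ∀ β : IrrCharacter Q, charDegree (β : Q → ℂ) ≠ 1 →
      gdeg S.act (β : Q → ℂ) ∣ T.index * (Subgroup.zpowers c).index * e →
        gdeg S.act (β : Q → ℂ) = T.index * (Subgroup.zpowers c).index * e) :
    ∃ P : S.Proper, T ≤ S.U ∧ T ⊓ lcs Q 1 = ⊥ := by
  classical
  have hTU : T ≤ S.U := fun x hx => S.mem_U_of_fixed hc (by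
    rw [hfix x hx, inv_mul_cancel]; exact one_mem _)
  have hn : ¬ S.q ∣ (Subgroup.zpowers c).index * e := fun h =>
    ((Nat.Prime.dvd_mul S.hq).1 h).elim (S.not_dvd_index _) he
  -- no proper divisor
  have key : ∀ (β : IrrCharacter Q), charDegree (β : Q → ℂ) ≠ 1 →
      charDegree (β : Q → ℂ) < T.index → ¬ c ∈ fixer S.act (β : Q → ℂ) := by
    intro β hβ hlt hmem
    obtain ⟨i, hi⟩ := S.degree_pow β
    obtain ⟨j, hj⟩ := S.index_pow T
    have hd : gdeg S.act (β : Q → ℂ) ∣ T.index * (Subgroup.zpowers c).index * e := by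
      refine Dvd.dvd.mul_right (Nat.mul_dvd_mul ?_ ?_) e
      · rw [hi, hj] at hlt ⊢
        exact pow_dvd_pow _ ((Nat.pow_lt_pow_iff_right S.hq.one_lt).1 hlt).le
      · exact Subgroup.index_dvd_of_le (Subgroup.zpowers_le.2 hmem)
    have h := hdvd β hβ hd
    rw [gdeg, mul_assoc] at h
    exact hlt.ne (S.eq_of_qpart β ⟨j, hj⟩ (S.not_dvd_index _) hn h)
  obtain ⟨f, hf, hf0⟩ := S.exists_nonTriv hQ
  rcases S.cases with h | ⟨⟨P⟩⟩
  · exfalso
    obtain ⟨β, hβ⟩ := hf.isLam.exists_over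
    have hβ1 := (S.layerOne_char hf hf0 hβ).1
    refine key β hβ1 ?_ (by rw [h β hβ1]; exact Subgroup.mem_top c)
    -- the group fixes `U` pointwise, so displacements centralise it
    have hfixU : ∀ d : C, ∀ u ∈ S.U, ∀ γ : IrrCharacter Q, charDegree (γ : Q → ℂ) ≠ 1 →
        (γ : Q → ℂ) (S.act d u) = (γ : Q → ℂ) u := fun d u _ γ hγ => by
      have h1 : d ∈ fixer S.act (γ : Q → ℂ) := by rw [h γ hγ]; exact Subgroup.mem_top d
      exact h1 u
    haveI := Fintype.ofFinite S.U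
    obtain ⟨η, hη⟩ := exists_irr_constituent_res S.U β.2
    have hpt : ∀ d : C, ∀ u ∈ S.U, S.act d u = u := by
      have hl : ∀ (k : ℕ) (z : Q), z ∈ lcs Q (k + 1) → ∀ d, S.act d z * z⁻¹ ∈ lcs Q (k + 2) := by
        intro k z hz d
        refine mem_lcs_succ_of_layer (mul_mem (S.act_mem_lcs d hz) (inv_mem hz)) fun g hg => ?_
        rw [hg.map_mul _ (S.act_mem_lcs d hz) _ (inv_mem hz), hg.isLam.map_inv hz, mul_inv_eq_one]
        by_cases hg0 : NonTriv (k + 1) g
        · obtain ⟨w, hw, hgw⟩ := hg0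
          obtain ⟨χ, hχ1, hχ, -⟩ := S.exists_stab (Nat.le_add_left 1 k) hg hw hgw
          exact (S.over_fixer_le hg hχ (by rw [h χ hχ1]; exact Subgroup.mem_top d)) z hz
        · rw [eq_one_of_not_nonTriv hg0 hz, eq_one_of_not_nonTriv hg0 (S.act_mem_lcs d hz)]
      haveI := S.isNilpotent
      obtain ⟨n, hn⟩ :=
        Subgroup.nilpotent_iff_lowerCentralSeries.1 (inferInstance : Group.IsNilpotent Q)
      have hfixL : ∀ j k, n ≤ k + j → ∀ z ∈ lcs Q (k + 1), ∀ d, S.act d z = z := by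
        intro j
        induction j with
        | zero =>
          intro k hk z hz d
          have hz1 : z = 1 := Subgroup.mem_bot.1 (hn ▸ lcs_le (show n ≤ k + 1 by omega) hz)
          rw [hz1, map_one]
        | succ j ih =>
          intro k hk z hz d
          refine S.fixed_of_displacement (ih (k + 1) (by omega) _ ?_ d)
          have h1 := (inferInstance : (lcs Q (k + 2)).Normal).conj_mem _ (hl k z hz d) z⁻¹
          rwa [show z⁻¹ * (S.act d z * z⁻¹) * z⁻¹⁻¹ = z⁻¹ * S.act d z by group] at h1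
      exact fun d u hu =>
        S.fixed_of_displacement (hfixL n 0 (by omega) _ (S.displacement_mem_lcs d hu) d)
    have hinv : ∀ g, conjTwist S.U (η : S.U → ℂ) g = η := by
      intro g
      by_contra hg
      have hG : ∀ x : Q, x⁻¹ * S.act c x ∈ inertia S.U (η : S.U → ℂ) := by
        intro x
        rw [mem_inertia]
        funext u
        rw [conjTwist_apply]
        refine congrArg _ (Subtype.ext ?_)
        show x⁻¹ * S.act c x * u * (x⁻¹ * S.act c x)⁻¹ = u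
        have h1 := hpt c _ (S.normal_U.conj_mem _ u.2 x)
        have h2 := hpt c u u.2
        rw [map_mul, map_mul, map_inv, h2] at h1
        calc x⁻¹ * S.act c x * u * (x⁻¹ * S.act c x)⁻¹
            = x⁻¹ * (S.act c x * u * (S.act c x)⁻¹) * x := by group
          _ = u := by rw [h1]; group
      set I := inertia S.U (η : S.U → ℂ) with hI
      have hUI : S.U ≤ I := fun u hu => by
        rw [hI, mem_inertia]
        funext w
        rw [conjTwist_apply]
        have h1 := η.2.isClassFunction w ⟨u, hu⟩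
        rw [show (⟨u, hu⟩ : S.U) * w * (⟨u, hu⟩ : S.U)⁻¹ = ⟨u * w * u⁻¹, S.normal_U.conj_mem _ w.2 u⟩
          from rfl] at h1
        exact h1
      haveI : I.Normal := ⟨fun a ha x => by
        have h1 : ⁅x, a⁆ ∈ I := hUI (S.commutator_le_U
          (Subgroup.commutator_mem_commutator (Subgroup.mem_top x) (Subgroup.mem_top a)))
        have h2 := mul_mem h1 ha
        rwa [show ⁅x, a⁆ * a = x * a * x⁻¹ by simp only [commutatorElement_def]; group] at h2⟩
      have hcomm : ∀ a b : Q ⧸ I, a * b = b * a := by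
        intro a b
        obtain ⟨a, rfl⟩ := QuotientGroup.mk_surjective a
        obtain ⟨b, rfl⟩ := QuotientGroup.mk_surjective b
        refine QuotientGroup.eq.2 (hUI (S.commutator_le_U ?_))
        rw [show (a * b)⁻¹ * (b * a) = ⁅b⁻¹, a⁻¹⁆ by simp only [commutatorElement_def]; group]
        exact Subgroup.commutator_mem_commutator (Subgroup.mem_top _) (Subgroup.mem_top _)
      letI : CommGroup (Q ⧸ I) := { (inferInstance : Group (Q ⧸ I)) with mul_comm := hcomm }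
      haveI : Fintype (Q ⧸ I) := Fintype.ofFinite _
      haveI : NeZero (Monoid.exponent (Q ⧸ I)) := ⟨Monoid.ExponentExists.of_finite.exponent_ne_zero⟩
      obtain ⟨φ, hφ⟩ := CommGroup.exists_apply_ne_one_of_hasEnoughRootsOfUnity (Q ⧸ I) ℂ
        (a := (g : Q ⧸ I)) fun e => hg ((QuotientGroup.eq_one_iff g).1 e)
      refine hφ ?_
      have h1 := S.eq_one_of_fixed (L := φ.comp (QuotientGroup.mk' I))
        (fun u hu => by
          rw [MonoidHom.comp_apply, QuotientGroup.mk'_apply, (QuotientGroup.eq_one_iff u).2 (hUI hu),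
            map_one]) hc fun x => ?_
      · exact DFunLike.congr_fun h1 g
      · rw [MonoidHom.comp_apply, MonoidHom.comp_apply, QuotientGroup.mk'_apply,
          QuotientGroup.mk'_apply, show ((S.act c x : Q) : Q ⧸ I) = (x : Q ⧸ I) from
            (QuotientGroup.eq.2 (hG x)).symm]
    have hres := clifford_invariant S.U β.2 η.2 hinv hη
    obtain ⟨m, hm⟩ := (β.2.isCharacter.comp S.U.subtype).exists_nat_classInner η.2.isCharacter
    have hm' : classInner (fun x : S.U => (β : Q → ℂ) x) (η : S.U → ℂ) = (m : ℂ) := hm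
    rw [hm'] at hres
    have hsum : (m : ℂ) ^ 2 = S.U.index := by
      have h1 := classInner_irr_self β.2
      have hsupp : ∀ x ∉ S.U, (β : Q → ℂ) x = 0 := fun x hx => S.eq_zero_of_not_mem_U β hβ1 hx
      have h2 : classInner (fun x : S.U => (β : Q → ℂ) x) (fun x : S.U => (β : Q → ℂ) x) =
          (m : ℂ) ^ 2 := by
        rw [hres, classInner_smul_left, classInner_smul_right, classInner_irr_self η.2,
          Complex.conj_natCast, mul_one, sq]
      rw [classInner_self] at h1 h2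
      rw [← Finset.sum_subset (Finset.subset_univ (Finset.univ.filter fun x => x ∈ S.U))
        (fun x _ hx => by simp [hsupp x (by simpa using hx)]),
        Finset.sum_subtype _ (p := fun x => x ∈ S.U) (by simp)] at h1
      have hQ0 : (Nat.card Q : ℂ) ≠ 0 := Nat.cast_ne_zero.2 Nat.card_pos.ne'
      have hU0 : (Nat.card S.U : ℂ) ≠ 0 := Nat.cast_ne_zero.2 Nat.card_pos.ne'
      push_cast at h1 h2
      rw [inv_mul_eq_iff_eq_mul₀ hQ0, mul_one] at h1
      rw [inv_mul_eq_iff_eq_mul₀ hU0] at h2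
      rw [h1, ← Subgroup.card_mul_index S.U, Nat.cast_mul] at h2
      exact (mul_left_cancel₀ hU0 h2).symm
    have hsum' : m ^ 2 = S.U.index := by exact_mod_cast hsum
    have hdeg : charDegree (β : Q → ℂ) = m * charDegree (η : S.U → ℂ) := by
      have h1 := congrFun hres 1
      simp only [Pi.smul_apply, smul_eq_mul, OneMemClass.coe_one, β.2.apply_one_eq_charDegree,
        η.2.apply_one_eq_charDegree] at h1
      exact_mod_cast h1
    have hη1 : charDegree (η : S.U → ℂ) ≤ (T.subgroupOf S.U).index :=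
      degree_le_index (T.subgroupOf S.U) (fun a b => by
        have h1 := congrArg Subtype.val
          (hT ⟨_, Subgroup.mem_subgroupOf.1 a.2⟩ ⟨_, Subgroup.mem_subgroupOf.1 b.2⟩)
        exact Subtype.ext (Subtype.ext (by simpa using h1))) η
    rw [← Subgroup.relIndex_mul_index hTU, hdeg, ← hsum', mul_comm m]
    have hm2 : 1 < m := by
      by_contra hm2
      have hle : m ^ 2 ≤ 1 := by
        calc m ^ 2 ≤ 1 ^ 2 := Nat.pow_le_pow_left (by omega) 2
          _ = 1 := one_pow 2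
      have h0 : S.U.index ≠ 0 := Subgroup.index_ne_zero_of_finite
      exact hU (Subgroup.index_eq_one.1 (by omega))
    have h0 : 0 < (T.subgroupOf S.U).index := Nat.pos_of_ne_zero Subgroup.index_ne_zero_of_finite
    calc charDegree (η : S.U → ℂ) * m ≤ (T.subgroupOf S.U).index * m := Nat.mul_le_mul_right _ hη1
      _ < (T.subgroupOf S.U).index * m ^ 2 :=
        Nat.mul_lt_mul_of_pos_left (lt_self_pow₀ hm2 one_lt_two) h0
  refine ⟨P, hTU, ?_⟩
  have hUi : 1 < S.U.index := by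
    have h0 : S.U.index ≠ 0 := Subgroup.index_ne_zero_of_finite
    have h1 : S.U.index ≠ 1 := fun h => hU (Subgroup.index_eq_one.1 h)
    omega
  have hsmall : ∀ (χ : IrrCharacter Q) (N : ℕ), charDegree (χ : Q → ℂ) ^ 2 = N → 1 < N →
      N ≤ T.index → charDegree (χ : Q → ℂ) < T.index := by
    intro χ N hN h1 h2
    have h3 : 1 < charDegree (χ : Q → ℂ) := by
      by_contra h
      have := Nat.pow_le_pow_left (Nat.le_of_not_lt h) 2
      rw [hN, one_pow] at this
      omega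
    calc charDegree (χ : Q → ℂ) < charDegree (χ : Q → ℂ) ^ 2 := lt_self_pow₀ h3 one_lt_two
      _ ≤ T.index := hN ▸ h2
  -- the element moves both layers
  obtain ⟨χ, hχ⟩ := hf.isLam.exists_over
  obtain ⟨hχ1, hfx, hsq, -⟩ := S.layerOne_char hf hf0 hχ
  rw [P.radOne_eq hf hf0] at hsq
  have hcD : c ∉ P.D := fun hcD => key χ hχ1
    (hsmall χ _ hsq hUi (Nat.le_of_dvd (Nat.pos_of_ne_zero Subgroup.index_ne_zero_of_finite)
      (Subgroup.index_dvd_of_le hTU))) (by rw [hfx, P.fix f hf hf0]; exact hcD)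
  have hT1 : T ⊓ lcs Q 1 ≤ lcs Q 2 := fun x hx => by
    refine S.mem_succ_of_fixed (c := c) (fun h hh hh' z hz => ?_) hx.2 fun h _ => by
      rw [hfix x hx.1]
    by_contra hne
    exact hcD (P.fix h hh ⟨z, hz, hne⟩ ▸ hh')
  rw [eq_bot_iff]
  intro x hx
  rw [← P.lcs_three_eq_bot]
  refine S.mem_succ_of_fixed (c := c) (fun h hh hh' z hz => ?_) (hT1 hx) fun h _ => by
    rw [hfix x hx.1]
  by_contra hne
  obtain ⟨η, hη⟩ := hh.isLam.exists_over
  obtain ⟨hη1, hfx', hsq'⟩ := P.layerTwo_char hh ⟨z, hz, hne⟩ hη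
  have hne' : ∀ A B : Subgroup Q, A.relIndex B ≠ 0 := fun _ _ => Subgroup.index_ne_zero_of_finite
  refine key η hη1 (hsmall η _ hsq' ?_ ?_) (by rw [hfx']; exact hh')
  · have h0 : (lcs Q 2).relIndex (lcs Q 1) ≠ 0 := (hne' _ _)
    nlinarith [Nat.pos_of_ne_zero h0]
  · have e : T.relIndex (lcs Q 1) * S.U.index ≤ T.index := by
      rw [← Subgroup.relIndex_mul_index hTU]
      refine Nat.mul_le_mul_right _ ?_
      exact Subgroup.relIndex_le_of_le_right (lcs_one (Q := Q) ▸ S.commutator_le_U)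
        (hne' _ _)
    refine le_trans ?_ e
    rw [mul_comm]
    refine Nat.mul_le_mul_right _ ?_
    refine Nat.le_of_dvd (Nat.pos_of_ne_zero (hne' _ _)) ?_
    rw [← Subgroup.inf_relIndex_right T]
    exact Subgroup.relIndex_dvd_of_le_left _ hT1

/-- Two commuting elements of order `q` all whose non-trivial products lie outside `U` or in the
derived group. -/
theorem false_of_no_pair (hU : S.U ≠ ⊤) (hQ : lcs Q 1 ≠ ⊥) (P : S.Proper)
    (hnc : ∀ a z : Q, a * z = z * a → a ^ S.q = 1 → z ^ S.q = 1 →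
      (z ∉ S.U ∨ z ∈ lcs Q 1 ∧ z ≠ 1) →
      (∀ i j : ℕ, 0 < i → i < S.q →
        a ^ i * z ^ j ∉ S.U ∨ a ^ i * z ^ j ∈ lcs Q 1 ∧ a ^ i * z ^ j ≠ 1) → False) : False := by
  classical
  haveI : Fact S.q.Prime := ⟨S.hq⟩
  have hnoncyc : ∀ a z : Q, a * z = z * a → a ^ S.q = 1 → z ^ S.q = 1 →
      (z ∉ S.U ∨ z ∈ lcs Q 1 ∧ z ≠ 1) →
      (∀ i j : ℕ, 0 < i → i < S.q →
        a ^ i * z ^ j ∉ S.U ∨ a ^ i * z ^ j ∈ lcs Q 1 ∧ a ^ i * z ^ j ≠ 1) →
      (a ∉ S.U ∨ a ∈ lcs Q 1 ∧ a ≠ 1) → False := fun a z h1 h2 h3 h4 h5 _ => hnc a z h1 h2 h3 h4 h5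
  have hsemi : ∀ z ∈ lcs Q 1, z ≠ 1 → (z ∉ S.U ∨ z ∈ lcs Q 1 ∧ z ≠ 1) :=
    fun z hz hz1 => Or.inr ⟨hz, hz1⟩
  -- two independent elements of order `q` in the derived group
  have hpair : ∀ a ∈ lcs Q 1, ∀ z ∈ lcs Q 1, a * z = z * a → a ^ S.q = 1 → z ^ S.q = 1 → z ≠ 1 →
      ∃ n : ℕ, a = z ^ n := by
    intro a ha z hz haz hao hzo hz1
    by_contra hh
    push Not at hh
    have hne' : ∀ i j : ℕ, 0 < i → i < S.q → a ^ i * z ^ j ≠ 1 := by
      intro i j hi hiq he
      obtain ⟨u, hu⟩ := Nat.exists_mul_mod_eq_one_of_coprime (n := i) (k := S.q)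
        ((S.hq.coprime_iff_not_dvd.2 fun hd => absurd (Nat.le_of_dvd hi hd) (not_le.2 hiq)).symm)
        S.hq.one_lt
      have hau : a ^ (i * u) = a := by
        conv_lhs => rw [← Nat.mod_add_div (i * u) S.q, pow_add, pow_mul, hu.2, pow_one, hao, one_pow,
          mul_one]
      have hai : a ^ i = z ^ (j * (S.q - 1)) := by
        have h1 : a ^ i = (z ^ j)⁻¹ := eq_inv_of_mul_eq_one_left he
        have h2 : (z ^ j) ^ S.q = 1 := by rw [← pow_mul, mul_comm, pow_mul, hzo, one_pow]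
        have h3 : (z ^ j) ^ (S.q - 1) * z ^ j = 1 := by
          rw [← pow_succ, Nat.sub_add_cancel S.hq.one_le, h2]
        rw [h1, pow_mul, eq_inv_of_mul_eq_one_left h3]
      exact hh (j * (S.q - 1) * u) (by rw [pow_mul, ← hai, ← pow_mul, hau])
    refine hnoncyc a z haz hao hzo (hsemi z hz hz1)
      (fun i j hi hiq => hsemi _ (mul_mem (pow_mem ha i) (pow_mem hz j)) (hne' i j hi hiq))
      (hsemi a ha ?_)
    intro e
    exact hne' 1 0 one_pos S.hq.one_lt (by rw [e, one_pow, pow_zero, one_mul])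
  obtain ⟨d, hd, hd1⟩ := P.exists_mem_D
  have hab1 : ∀ a ∈ lcs Q 1, ∀ b ∈ lcs Q 1, a * b = b * a := fun a ha b hb => by
    have h := comm_mem_lcs ha hb
    simp only [Nat.reduceAdd, P.lcs_three_eq_bot, Subgroup.mem_bot,
      commutatorElement_eq_one_iff_mul_comm] at h
    exact h
  have hq3 : ∀ z ∈ lcs Q 2, z ^ S.q = 1 := fun z hz =>
    Subgroup.mem_bot.1 (P.lcs_three_eq_bot ▸ P.pow_mem_three hz)
  have h2bot : lcs Q 2 = ⊥ := by
    by_contra h2
    obtain ⟨z, hz, hz1⟩ := (Subgroup.ne_bot_iff_exists_ne_one.1 h2 : ∃ z : lcs Q 2, z ≠ 1) |>.elim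
      fun z hz => (⟨z, z.2, fun e => hz (Subtype.ext e)⟩ : ∃ z ∈ lcs Q 2, z ≠ 1)
    have hz' : z ∈ lcs Q 1 := lcs_le one_le_two hz
    obtain ⟨y, hy, hy2⟩ : ∃ y ∈ lcs Q 1, y ∉ lcs Q 2 := by
      by_contra hh
      push Not at hh
      exact hQ (S.eq_bot_of_le_succ hh)
    have hyq := P.pow_mem_two hy
    by_cases hy1 : y ^ S.q = 1
    · obtain ⟨n, hn⟩ := hpair y hy z hz' (hab1 y hy z hz') hy1 (hq3 z hz) hz1
      exact hy2 (hn ▸ pow_mem hz n)
    -- the power is fixed by `d`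
    have hw : S.act d y * y⁻¹ ∈ lcs Q 2 := P.act_sub_mem_two hd hy
    have hfx : S.act d (y ^ S.q) = y ^ S.q := by
      rw [map_pow, show S.act d y = S.act d y * y⁻¹ * y by group,
        (show Commute (S.act d y * y⁻¹) y from hab1 _ (lcs_le one_le_two hw) y hy).mul_pow, hq3 _ hw,
        one_mul]
    obtain ⟨f₂, hf₂, w, hw₂, hfw⟩ := S.exists_nonTriv h2
    obtain ⟨-, -, -, c, hc1, -, hc⟩ := S.exists_stab one_le_two hf₂ hw₂ hfw
    refine hd1 (P.eq_one_of_mem_D hf₂ ⟨w, hw₂, hfw⟩ (fun u hu => ?_) hd)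
    obtain ⟨n, hn⟩ := hpair u (lcs_le one_le_two hu) _ (lcs_le one_le_two hyq)
      (hab1 _ (lcs_le one_le_two hu) _ (lcs_le one_le_two hyq)) (hq3 u hu) (hq3 _ hyq) hy1
    rw [hn, map_pow, hfx]
  have hq1 : ∀ z ∈ lcs Q 1, z ^ S.q = 1 := fun z hz =>
    Subgroup.mem_bot.1 (h2bot ▸ P.pow_mem_two hz)
  obtain ⟨z, hz, hz1⟩ := (Subgroup.ne_bot_iff_exists_ne_one.1 hQ : ∃ z : lcs Q 1, z ≠ 1) |>.elim
    fun z hz => (⟨z, z.2, fun e => hz (Subtype.ext e)⟩ : ∃ z ∈ lcs Q 1, z ≠ 1)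
  have hcent : ∀ w ∈ lcs Q 1, ∀ y, w * y = y * w := fun w hw y => by
    have h := comm_mem_succ hw y
    simp only [Nat.reduceAdd, h2bot, Subgroup.mem_bot, commutatorElement_eq_one_iff_mul_comm] at h
    exact h
  have hgen : ∀ a ∈ lcs Q 1, ∃ n : ℕ, a = z ^ n := fun a ha =>
    hpair a ha z hz (hcent a ha z) (hq1 a ha) (hq1 z hz) hz1
  have hodd : S.q ≠ 2 := by
    intro hq2
    refine P.ne_top ?_
    obtain ⟨f, hf, hf0⟩ := P.layer
    rw [← P.fix f hf hf0, eq_top_iff]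
    intro c _ w hw
    have hfz : S.act c z = z := by
      obtain ⟨n, hn⟩ := hgen _ (S.act_mem_lcs c hz)
      rw [hn]
      rcases Nat.even_or_odd n with ⟨m, rfl⟩ | ⟨m, rfl⟩
      · exfalso
        refine hz1 ((S.act c).injective ?_)
        rw [map_one, hn, ← two_mul, pow_mul, ← hq2, hq1 z hz, one_pow]
      · rw [pow_succ, pow_mul, ← hq2, hq1 z hz, one_pow, one_mul]
    obtain ⟨n, rfl⟩ := hgen w hw
    rw [map_pow, hfz]
  obtain ⟨x, hx⟩ : ∃ x, x ∉ S.U := by
    by_contra hh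
    push Not at hh
    exact hU (eq_top_iff.2 fun x _ => hh x)
  set x' := x⁻¹ * S.act d x with hx'
  have hx'U : x' ∉ S.U := by
    intro hm
    refine hx (S.mem_U_of_fixed hd1 (mem_commutator_of_linear fun L => ?_))
    have hit : ∀ i : ℕ, L (S.act (d ^ i) x) = L x * L x' ^ i := by
      intro i
      induction i with
      | zero => simp
      | succ i ih =>
        rw [pow_succ, S.act_mul, show S.act d x = x * x' by rw [hx', mul_inv_cancel_left], map_mul,
          map_mul, ih, hm L (d ^ i), pow_succ, mul_assoc]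
    have h1 := hit (orderOf d)
    rw [pow_orderOf_eq_one, S.act_one, left_eq_mul] at h1
    exact hom_eq_one_of_pow S.hq S.hpQ L (S.not_dvd_orderOf d) h1
  have hx'q : x' ^ S.q = 1 := by
    have hdfix : ∀ w ∈ lcs Q 1, S.act d w = w := fun w hw => by
      have h := P.act_sub_mem_two hd hw
      rw [h2bot, Subgroup.mem_bot, mul_inv_eq_one] at h
      exact h
    have hxq : S.act d (x ^ S.q) = x ^ S.q := S.fixed_of_displacement
      (hdfix _ (S.displacement_mem_lcs d (P.pow_mem_U x)))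
    rw [hx', mul_pow_of_central (hcent _ (comm_mem_one _ _)), inv_pow, ← map_pow, hxq,
      inv_mul_cancel, one_mul]
    obtain ⟨k, hk⟩ := S.hq.dvd_choose_self two_ne_zero
      (lt_of_le_of_ne S.hq.two_le (Ne.symm hodd))
    rw [hk, pow_mul, hq1 _ (comm_mem_one _ _), one_pow]
  refine hnoncyc x' z (hcent z hz x').symm hx'q (hq1 z hz) (hsemi z hz hz1)
    (fun i j hi hiq => Or.inl fun h1 => ?_) (Or.inl hx'U)
  have h2 : x' ^ i ∈ S.U := by
    have h3 := mul_mem h1 (inv_mem (pow_mem (S.commutator_le_U (lcs_one (Q := Q) ▸ hz)) j))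
    rwa [mul_inv_cancel_right] at h3
  refine hx'U ?_
  obtain ⟨u, hu⟩ := Nat.exists_mul_mod_eq_one_of_coprime (n := i) (k := S.q)
    ((S.hq.coprime_iff_not_dvd.2 fun hd => absurd (Nat.le_of_dvd hi hd) (not_le.2 hiq)).symm)
    S.hq.one_lt
  have h4 := pow_mem h2 u
  rwa [← pow_mul, ← Nat.mod_add_div (i * u) S.q, pow_add, pow_mul, hu.2, pow_one, hx'q, one_pow,
    mul_one] at h4

end Sys

end Cfsg.Lib.Char.Ndad
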