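import Cfsg.Agent.Lib.Char.Ndad.Setup
import Cfsg.Agent.Lib.Char.Ndad.SysResult
import Cfsg.Agent.Lib.Coprime.Conjugacy

/-!
# The quotient by the normal complement as a section
-/

set_option autoImplicit false
set_option linter.unusedSectionVars false
set_option linter.style.haveILetI false
set_option maxHeartbeats 800000

namespace Cfsg.Lib.Char.Ndad.Sect

open Cfsg Cfsg.Lib.Char

universe u

variable {G : Type u} [Group G] [Fintype G] {S : Setup G} (D : Sect S)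

/-- The normal Sylow subgroup of the quotient. -/
abbrev Qb : Subgroup (G ⧸ D.M) := S.N.map (QuotientGroup.mk' D.M)

/-- The cyclic complement. -/
abbrev Cb : Subgroup (G ⧸ D.M) := Subgroup.zpowers (QuotientGroup.mk' D.M D.c₀)

instance normal_Qb : D.Qb.Normal :=
  S.normalN.map _ (QuotientGroup.mk'_surjective D.M)

/-- The projection. -/
def toQ : S.N →* D.Qb := (QuotientGroup.mk' D.M).subgroupMap S.N

theorem toQ_surj : Function.Surjective D.toQ := MonoidHom.subgroupMap_surjective _ _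

theorem coe_toQ (n : S.N) : (D.toQ n : G ⧸ D.M) = QuotientGroup.mk' D.M (n : G) := rfl

/-- The action on the section. -/
def actC : D.Cb →* MulAut D.Qb :=
  (MulAut.conjNormal : G ⧸ D.M →* MulAut D.Qb).comp D.Cb.subtype

theorem actC_toQ {c : D.Cb} {g : G} (hc : (c : G ⧸ D.M) = QuotientGroup.mk' D.M g) (n : S.N) :
    D.actC c (D.toQ n) = D.toQ (MulAut.conjNormal g n) := by
  refine Subtype.ext ?_
  show ((MulAut.conjNormal (c : G ⧸ D.M) (D.toQ n) : D.Qb) : G ⧸ D.M) = _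
  rw [MulAut.conjNormal_apply, coe_toQ, coe_toQ, hc, MulAut.conjNormal_apply, map_mul, map_mul,
    map_inv]

include D

theorem mem_Qb_iff {g : G} : QuotientGroup.mk' D.M g ∈ D.Qb ↔ g ∈ S.N := by
  refine ⟨fun h => ?_, fun h => ⟨g, h, rfl⟩⟩
  obtain ⟨n, hn, e⟩ := h
  have h1 := QuotientGroup.eq.1 e
  rw [show g = n * (n⁻¹ * g) by group]
  exact mul_mem hn (D.le h1)

theorem card_Qb : Nat.card D.Qb = D.M.relIndex S.N := by
  rw [← Subgroup.relIndex_ker, QuotientGroup.ker_mk']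

theorem pGroup_Qb : IsPGroup S.q D.Qb := by
  obtain ⟨k, hk⟩ := D.idx
  exact IsPGroup.of_card (D.card_Qb.trans hk)

theorem cop_Cb : ¬ S.q ∣ Nat.card D.Cb := fun h => S.not_dvd_index (h.trans (by
  rw [Nat.card_zpowers]
  exact orderOf_dvd_of_pow_eq_one (by
    rw [← map_pow]; exact (QuotientGroup.eq_one_iff _).2 D.c₀_pow)))

theorem coprime_cards : (Nat.card D.Qb).Coprime (Nat.card D.Cb) := by
  haveI := Fact.mk S.hq
  obtain ⟨k, hk⟩ := D.pGroup_Qb.exists_card_eq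
  rw [hk]
  exact Nat.Coprime.pow_left k ((S.hq.coprime_iff_not_dvd).2 D.cop_Cb)

theorem eq_one_of_mem {z : G ⧸ D.M} (h1 : z ∈ D.Qb) (h2 : z ∈ D.Cb) : z = 1 :=
  Subgroup.mem_bot.1 (Subgroup.inf_eq_bot_of_coprime D.coprime_cards ▸ ⟨h1, h2⟩)

theorem exists_mul (z : G ⧸ D.M) : ∃ n ∈ D.Qb, ∃ c ∈ D.Cb, z = n * c := by
  obtain ⟨g, rfl⟩ := QuotientGroup.mk'_surjective D.M z
  obtain ⟨n, hn, k, rfl⟩ := D.gen g
  exact ⟨_, ⟨n, hn, rfl⟩, _, pow_mem (Subgroup.mem_zpowers _) k, by rw [map_mul, map_pow]⟩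

theorem card_quot : Nat.card (G ⧸ D.M) = Nat.card D.Qb * Nat.card D.Cb := by
  rw [← Cfsg.Lib.Coprime.card_sup_of_disjoint
    (by rw [Subgroup.normalizer_eq_top]; exact le_top)
    (Cfsg.Lib.Coprime.disjoint_of_coprime_card D.coprime_cards)]
  rw [show D.Qb ⊔ D.Cb = ⊤ from eq_top_iff.2 fun z _ => by
    obtain ⟨n, hn, c, hc, rfl⟩ := D.exists_mul z
    exact Subgroup.mul_mem_sup hn hc, Subgroup.card_top]

theorem exists_lift (c : D.Cb) : ∃ g : G, (c : G ⧸ D.M) = QuotientGroup.mk' D.M g ∧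
    (c ≠ 1 → g ∉ S.N) := by
  obtain ⟨g, hg⟩ := QuotientGroup.mk'_surjective D.M c
  exact ⟨g, hg.symm, fun hc hgN => hc (Subtype.ext (D.eq_one_of_mem
    (hg ▸ D.mem_Qb_iff.2 hgN) c.2))⟩

theorem irr_comp [Fintype S.N] [Fintype D.Qb] (β : IrrCharacter D.Qb) :
    IsIrrCharacter S.N (fun n => (β : D.Qb → ℂ) (D.toQ n)) :=
  β.2.comp_surjective D.toQ D.toQ_surj

theorem deg_comp [Fintype D.Qb] (β : D.Qb → ℂ) :
    charDegree (fun n : S.N => β (D.toQ n)) = charDegree β := by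
  simp [charDegree]

theorem inertia_comp {β : D.Qb → ℂ} {c : D.Cb} {g : G}
    (hc : (c : G ⧸ D.M) = QuotientGroup.mk' D.M g) :
    g ∈ inertia S.N (fun n => β (D.toQ n)) ↔ c ∈ fixer D.actC β := by
  rw [mem_inertia_iff, mem_fixer]
  have e : ∀ n : S.N, β (D.toQ ⟨g * n * g⁻¹, S.normalN.conj_mem n n.2 g⟩) =
      β (D.actC c (D.toQ n)) := fun n => by
    rw [D.actC_toQ hc]
    exact congrArg (fun z => β (D.toQ z)) (Subtype.ext (by simp))
  refine ⟨fun h x => ?_, fun h n => ?_⟩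
  · obtain ⟨n, rfl⟩ := D.toQ_surj x
    exact (e n).symm.trans (h n)
  · show β (D.toQ _) = β (D.toQ n)
    rw [e n]; exact h _

theorem index_comp [Fintype S.N] [Fintype D.Qb] (β : IrrCharacter D.Qb) :
    (inertia S.N (fun n => (β : D.Qb → ℂ) (D.toQ n))).index =
      (fixer D.actC (β : D.Qb → ℂ)).index := by
  set I := inertia S.N (fun n => (β : D.Qb → ℂ) (D.toQ n)) with hI
  have hNI : S.N ≤ I := le_inertia S.N (D.irr_comp β).isClassFunction
  let τ : D.Cb →* G ⧸ S.N :=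
    (QuotientGroup.map D.M S.N (MonoidHom.id G) fun x hx => D.le hx).comp D.Cb.subtype
  have hτ : ∀ (c : D.Cb) (g : G), (c : G ⧸ D.M) = QuotientGroup.mk' D.M g →
      τ c = QuotientGroup.mk' S.N g := by
    intro c g h
    show QuotientGroup.map D.M S.N (MonoidHom.id G) (fun x hx => D.le hx) (c : G ⧸ D.M) = _
    rw [h]
    rfl
  have hτs : Function.Surjective τ := by
    intro y
    obtain ⟨g, rfl⟩ := QuotientGroup.mk'_surjective S.N y
    obtain ⟨n, hn, k, rfl⟩ := D.gen g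
    refine ⟨⟨QuotientGroup.mk' D.M (D.c₀ ^ k), by
      rw [map_pow]; exact pow_mem (Subgroup.mem_zpowers _) k⟩, ?_⟩
    rw [hτ _ _ rfl, map_mul, show QuotientGroup.mk' S.N n = 1 from (QuotientGroup.eq_one_iff n).2 hn,
      one_mul]
  have h1 : (I.map (QuotientGroup.mk' S.N)).index = I.index := by
    rw [Subgroup.index_map_eq]
    · exact QuotientGroup.mk'_surjective _
    · rwa [QuotientGroup.ker_mk']
  rw [← h1, ← Subgroup.index_comap_of_surjective (I.map (QuotientGroup.mk' S.N)) hτs]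
  congr 1
  ext c
  obtain ⟨g, hg, -⟩ := D.exists_lift c
  rw [Subgroup.mem_comap, hτ c g hg, ← D.inertia_comp hg, ← hI]
  refine ⟨fun ⟨i, hi, e⟩ => ?_, fun h => ⟨g, h, rfl⟩⟩
  have h2 := QuotientGroup.eq.1 e
  rw [show g = i * (i⁻¹ * g) by group]
  exact mul_mem hi (hNI h2)

theorem gdeg_comp [Fintype S.N] [Fintype D.Qb] (β : IrrCharacter D.Qb) :
    gdeg D.actC (β : D.Qb → ℂ) = S.gdegN (fun n => (β : D.Qb → ℂ) (D.toQ n)) := by
  rw [gdeg, Setup.gdegN, D.index_comp, D.deg_comp, mul_comm]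

/-- The section as a system. -/
noncomputable def sys [Fintype S.N] [Fintype D.Qb] : Sys D.Qb D.Cb where
  q := S.q
  hq := S.hq
  hpQ := D.pGroup_Qb
  act := D.actC
  cyc := inferInstance
  cop := D.cop_Cb
  lin := fun L c hc hfix d x => by
    obtain ⟨g, hg, hgN⟩ := D.exists_lift c
    obtain ⟨y, hy, -⟩ := D.exists_lift d
    obtain ⟨n, rfl⟩ := D.toQ_surj x
    have h1 := S.lin_fix (L.comp D.toQ) (hgN hc) (fun m => by
      show L (D.toQ (MulAut.conjNormal g m)) = L (D.toQ m)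
      rw [← D.actC_toQ hg]; exact hfix _) y n
    rw [D.actC_toQ hy]
    exact h1
  stab := fun β hβ => by
    obtain ⟨g, hgN, hg⟩ := S.inertia_ne ⟨_, D.irr_comp β⟩ (by
      show charDegree (fun n => (β : D.Qb → ℂ) (D.toQ n)) ≠ 1
      rwa [D.deg_comp])
    obtain ⟨n, hn, c, hc, e⟩ := D.exists_mul (QuotientGroup.mk' D.M g)
    obtain ⟨n', hn', rfl⟩ := hn
    have hc' : ((⟨c, hc⟩ : D.Cb) : G ⧸ D.M) = QuotientGroup.mk' D.M (n'⁻¹ * g) := by
      show c = _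
      rw [map_mul, map_inv, e, inv_mul_cancel_left]
    refine ⟨⟨c, hc⟩, fun h1 => hgN ?_, (D.inertia_comp hc').1
      (mul_mem (inv_mem (le_inertia S.N (D.irr_comp β).isClassFunction hn')) hg)⟩
    have h2 : c = 1 := congrArg Subtype.val h1
    rw [h2, mul_one] at e
    exact D.mem_Qb_iff.1 (e ▸ ⟨n', hn', rfl⟩)
  anti := fun β β' hβ _ h => by
    rw [D.gdeg_comp, D.gdeg_comp] at h ⊢
    exact S.gdegN_anti ⟨_, D.irr_comp β⟩ ⟨_, D.irr_comp β'⟩ (by
      show charDegree (fun n => (β : D.Qb → ℂ) (D.toQ n)) ≠ 1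
      rwa [D.deg_comp]) h

theorem sys_act [Fintype S.N] [Fintype D.Qb] : D.sys.act = D.actC := rfl

theorem U_ne_top [Fintype S.N] [Fintype D.Qb] : D.sys.U ≠ ⊤ := by
  intro hU
  obtain ⟨l, hl, hl1⟩ := S.exists_sec
  obtain ⟨g, hg⟩ : ∃ g, g ∉ S.N := by
    by_contra h
    push Not at h
    exact S.hF.2.2.2.2.2.1 (eq_top_iff.2 fun x _ => h x)
  -- the character of the section factors through the quotient
  have hker : D.toQ.ker ≤ l.ker := fun n hn => by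
    rw [MonoidHom.mem_ker]
    refine hl n (D.le_K ((QuotientGroup.eq_one_iff (n : G)).1 ?_))
    exact congrArg Subtype.val (MonoidHom.mem_ker.1 hn)
  let L : D.Qb →* ℂˣ := D.toQ.liftOfSurjective D.toQ_surj ⟨l, hker⟩
  have hL : ∀ n, L (D.toQ n) = l n := fun n =>
    MonoidHom.liftOfRightInverse_comp_apply _ _ _ _ _
  refine hl1 (S.sec_fixed hg hl fun n => ?_)
  obtain ⟨m, hm, c, hc, e⟩ := D.exists_mul (QuotientGroup.mk' D.M g)
  obtain ⟨m, hm', rfl⟩ := hm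
  have hx : D.toQ n ∈ D.sys.U := hU ▸ Subgroup.mem_top _
  have h1 := hx L ⟨c, hc⟩
  have hc' : ((⟨c, hc⟩ : D.Cb) : G ⧸ D.M) = QuotientGroup.mk' D.M (m⁻¹ * g) := by
    show c = _
    rw [map_mul, map_inv, e, inv_mul_cancel_left]
  rw [sys_act, D.actC_toQ hc', hL, hL] at h1
  rw [← h1]
  rw [show MulAut.conjNormal g n = (⟨m, hm'⟩ : S.N) * MulAut.conjNormal (m⁻¹ * g) n *
    (⟨m, hm'⟩ : S.N)⁻¹ from Subtype.ext (by simp; group), map_mul, map_mul, map_inv,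
    mul_comm _ (l (MulAut.conjNormal (m⁻¹ * g) n)), mul_inv_cancel_right]

/-- The stabiliser in the section of a character of `M`. -/
theorem exists_stab_data [Fintype S.N] [Fintype D.Qb] [Fintype D.M] (θ : IrrCharacter D.M)
    (hθ : ¬ D.Triv (θ : D.M → ℂ)) :
    ∃ (y : D.Qb) (T : Subgroup D.Qb) (c : D.Cb),
      (∀ n : S.N, (n : G) ∈ inertia D.M (θ : D.M → ℂ) → y * D.toQ n * y⁻¹ ∈ T) ∧
      (∀ a b : T, a * b = b * a) ∧ c ≠ 1 ∧ (∀ x ∈ T, D.sys.act c x = x) ∧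
      ¬ S.q ∣ charDegree (θ : D.M → ℂ) ∧
      ∀ β : IrrCharacter D.Qb, charDegree (β : D.Qb → ℂ) ≠ 1 →
        gdeg D.sys.act (β : D.Qb → ℂ) ∣
            T.index * (Subgroup.zpowers c).index * charDegree (θ : D.M → ℂ) →
          gdeg D.sys.act (β : D.Qb → ℂ) =
            T.index * (Subgroup.zpowers c).index * charDegree (θ : D.M → ℂ) := by
  classical
  haveI := Fact.mk S.hq
  obtain ⟨hab, ⟨g, hgI, hgN⟩, hq, hmem, hd1⟩ := D.inertia_facts θ hθ
  set I := inertia D.M (θ : D.M → ℂ) with hI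
  have hMI : D.M ≤ I := le_inertia D.M θ.2.isClassFunction
  set π := QuotientGroup.mk' D.M
  set J := I.map π with hJ
  have hJc : ∀ a ∈ J, ∀ b ∈ J, a * b = b * a := by
    rintro _ ⟨a, ha, rfl⟩ _ ⟨b, hb, rfl⟩
    rw [← mul_inv_eq_one, mul_inv_rev, show π a * π b * ((π a)⁻¹ * (π b)⁻¹) =
      π (a * b * a⁻¹ * b⁻¹) by simp [map_mul, mul_assoc]]
    exact (QuotientGroup.eq_one_iff _).2 (hab a ha b hb)
  obtain ⟨k, hk⟩ := D.pGroup_Qb.exists_card_eq
  -- a generator of the part prime to `q`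
  haveI := S.isCyclic_quot
  haveI : IsCyclic (I.map (QuotientGroup.mk' S.N)) := Subgroup.isCyclic _
  obtain ⟨⟨z, hz⟩, hzgen⟩ := IsCyclic.exists_generator (α := I.map (QuotientGroup.mk' S.N))
  obtain ⟨g₁, hg₁, rfl⟩ := hz
  set c' := π g₁ ^ S.q ^ k with hc'
  have hc'J : c' ∈ J := pow_mem (show π g₁ ∈ J from ⟨g₁, hg₁, rfl⟩) _
  have hc'f : c' ^ S.N.index = 1 := by
    rw [hc', ← pow_mul, mul_comm, pow_mul, ← hk, ← map_pow]
    exact congrArg Subtype.val (pow_card_eq_one' (G := D.Qb)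
      (x := (⟨π (g₁ ^ S.N.index), D.mem_Qb_iff.2 S.pow_mem_N⟩ : D.Qb)))
  obtain ⟨n₀, hn₀, c, hc, he⟩ := D.exists_mul c'
  have hB : ∀ j : ℕ, c' ^ j ∈ D.Qb → c' ^ j = 1 := fun j hj => by
    refine RelDeg.eq_one_of_pow_coprime (a := S.N.index) (b := S.q ^ k) ?_ ?_
      (Nat.Coprime.pow_right k ((S.hq.coprime_iff_not_dvd).2 S.not_dvd_index).symm)
    · rw [← pow_mul, mul_comm, pow_mul, hc'f, one_pow]
    · rw [← hk]; exact congrArg Subtype.val (pow_card_eq_one' (G := D.Qb) (x := ⟨_, hj⟩))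
  have hmodQ : ∀ j : ℕ, (QuotientGroup.mk' D.Qb c') ^ j = (QuotientGroup.mk' D.Qb c) ^ j := by
    intro j
    rw [he, map_mul, show QuotientGroup.mk' D.Qb n₀ = 1 from (QuotientGroup.eq_one_iff _).2 hn₀,
      one_mul]
  have hord : orderOf c' = orderOf c := by
    refine orderOf_eq_orderOf_iff.2 fun j => ⟨fun h => ?_, fun h => ?_⟩
    · refine D.eq_one_of_mem ((QuotientGroup.eq_one_iff _).1 ?_) (pow_mem hc j)
      show QuotientGroup.mk' D.Qb (c ^ j) = 1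
      rw [map_pow, ← hmodQ, ← map_pow, h, map_one]
    · refine hB j ((QuotientGroup.eq_one_iff _).1 ?_)
      show QuotientGroup.mk' D.Qb (c' ^ j) = 1
      rw [map_pow, hmodQ, ← map_pow, h, map_one]
  -- conjugate into the complement
  obtain ⟨n, hn, hconj⟩ := Cfsg.Lib.Coprime.exists_conj_of_coprime D.Qb (Subgroup.zpowers c)
    (Subgroup.zpowers c') (by rw [Subgroup.normalizer_eq_top]; exact le_top)
    (Nat.Coprime.coprime_dvd_left (Subgroup.card_dvd_of_le (Subgroup.zpowers_le.2 hc))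
      D.coprime_cards.symm)
    (Or.inl inferInstance)
    (Subgroup.zpowers_le.2 (he ▸ Subgroup.mul_mem_sup hn₀ (Subgroup.mem_zpowers c)))
    (by rw [Nat.card_zpowers, Nat.card_zpowers, hord])
  have hJdec : J ≤ (J ⊓ D.Qb) ⊔ Subgroup.zpowers c' := by
    rintro _ ⟨i, hi, rfl⟩
    obtain ⟨m, hm⟩ := exists_pow_eq_self_of_coprime (x := QuotientGroup.mk' S.N g₁) (n := S.q ^ k)
      (Nat.Coprime.coprime_dvd_right ((orderOf_dvd_natCard _).trans (by rw [Subgroup.index_eq_card]))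
        (Nat.Coprime.pow_left k ((S.hq.coprime_iff_not_dvd).2 S.not_dvd_index)))
    obtain ⟨t, ht⟩ := Submonoid.mem_powers_iff _ _ |>.1
      (mem_powers_iff_mem_zpowers.2 (hzgen ⟨_, i, hi, rfl⟩))
    have ht' : (QuotientGroup.mk' S.N g₁) ^ t = QuotientGroup.mk' S.N i := congrArg Subtype.val ht
    have hmem : i * ((g₁ ^ S.q ^ k) ^ (m * t))⁻¹ ∈ S.N := by
      rw [← QuotientGroup.eq_one_iff]
      show QuotientGroup.mk' S.N _ = 1
      rw [map_mul, map_inv, map_pow, map_pow, pow_mul, hm, ht', mul_inv_cancel]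
    rw [show π i = π (i * ((g₁ ^ S.q ^ k) ^ (m * t))⁻¹) * c' ^ (m * t) by
      rw [hc', map_mul, map_inv, map_pow, map_pow, inv_mul_cancel_right]]
    exact Subgroup.mul_mem_sup ⟨⟨_, mul_mem hi (inv_mem (pow_mem (pow_mem hg₁ _) _)), rfl⟩,
      D.mem_Qb_iff.2 hmem⟩ (pow_mem (Subgroup.mem_zpowers _) _)
  have hJeq : (J ⊓ D.Qb) ⊔ Subgroup.zpowers c' = J :=
    le_antisymm (sup_le inf_le_left (Subgroup.zpowers_le.2 hc'J)) hJdec
  have hdis : Disjoint (J ⊓ D.Qb) (Subgroup.zpowers c') := by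
    rw [Subgroup.disjoint_def]
    intro x hx hx'
    obtain ⟨j, rfl⟩ := Submonoid.mem_powers_iff _ _ |>.1 (mem_powers_iff_mem_zpowers.2 hx')
    exact hB j hx.2
  have hcardJ : Nat.card J = Nat.card ↥(J ⊓ D.Qb) * orderOf c := by
    rw [← hord, ← Nat.card_zpowers, ← Cfsg.Lib.Coprime.card_sup_of_disjoint (fun b hb => ?_) hdis,
      hJeq]
    refine Subgroup.mem_normalizer_iff.2 fun y => ?_
    have hbJ : b ∈ J := Subgroup.zpowers_le.2 hc'J hb
    refine ⟨fun hy => ?_, fun hy => ?_⟩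
    · rwa [hJc b hbJ y hy.1, mul_inv_cancel_right]
    · have h2 : y = b⁻¹ * (b * y * b⁻¹) * b := by group
      rw [h2, hJc _ (inv_mem hbJ) _ hy.1, inv_mul_cancel_right]
      exact hy
  set y : D.Qb := ⟨n, hn⟩⁻¹ with hy
  set T : Subgroup D.Qb := ((J ⊓ D.Qb).subgroupOf D.Qb).map (MulAut.conj y).toMonoidHom with hT
  have hcb : (⟨c, hc⟩ : D.Cb) ≠ 1 := fun e => by
    have h1 : c = 1 := congrArg Subtype.val e
    rw [h1, orderOf_one] at hord
    have h3 : π g ∈ J := ⟨g, hgI, rfl⟩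
    rw [← hJeq, orderOf_eq_one_iff.1 hord, Subgroup.zpowers_one_eq_bot, sup_bot_eq] at h3
    exact hgN (D.mem_Qb_iff.1 h3.2)
  refine ⟨y, T, ⟨c, hc⟩, fun m hm => ⟨D.toQ m, ?_, rfl⟩, fun a b => ?_, hcb, fun x hx => ?_, hq, ?_⟩
  · exact ⟨⟨m, hm, rfl⟩, (D.toQ m).2⟩
  · obtain ⟨a₀, ha₀, ea⟩ := a.2
    obtain ⟨b₀, hb₀, eb⟩ := b.2
    refine Subtype.ext ?_
    show (a : D.Qb) * b = b * a
    rw [← ea, ← eb, MulEquiv.coe_toMonoidHom, ← map_mul, ← map_mul,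
      show a₀ * b₀ = b₀ * a₀ from Subtype.ext (hJc _ ha₀.1 _ hb₀.1)]
  · obtain ⟨x₀, hx₀, rfl⟩ := hx
    refine Subtype.ext ?_
    show ((MulAut.conjNormal c (MulAut.conj y x₀) : D.Qb) : G ⧸ D.M) = _
    rw [MulAut.conjNormal_apply]
    show c * (n⁻¹ * (x₀ : G ⧸ D.M) * n⁻¹⁻¹) * c⁻¹ = n⁻¹ * (x₀ : G ⧸ D.M) * n⁻¹⁻¹
    have h1 : n * c * n⁻¹ ∈ J := Subgroup.zpowers_le.2 hc'J
      (hconj ▸ ⟨c, Subgroup.mem_zpowers c, rfl⟩ : n * c * n⁻¹ ∈ Subgroup.zpowers c')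
    have h2 : n * c * n⁻¹ * (x₀ : G ⧸ D.M) = (x₀ : G ⧸ D.M) * (n * c * n⁻¹) := hJc _ h1 _ hx₀.1
    calc c * (n⁻¹ * (x₀ : G ⧸ D.M) * n⁻¹⁻¹) * c⁻¹
        = n⁻¹ * ((n * c * n⁻¹) * (x₀ : G ⧸ D.M) * (n * c * n⁻¹)⁻¹) * n⁻¹⁻¹ := by group
      _ = _ := by rw [h2, mul_inv_cancel_right]
  -- the degree
  have hTidx : T.index * (Subgroup.zpowers (⟨c, hc⟩ : D.Cb)).index = I.index := by
    have h1 : Nat.card T = Nat.card ↥(J ⊓ D.Qb) := by
      rw [hT, Subgroup.card_map_of_injective (MulAut.conj y).injective,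
        Nat.card_congr (Subgroup.subgroupOfEquivOfLe inf_le_right).toEquiv]
    have h2 : Nat.card (Subgroup.zpowers (⟨c, hc⟩ : D.Cb)) = orderOf c := by
      rw [Nat.card_zpowers, ← Subgroup.orderOf_coe]
    have h3 : J.index = I.index := by
      rw [hJ, Subgroup.index_map_eq]
      · exact QuotientGroup.mk'_surjective _
      · rwa [QuotientGroup.ker_mk']
    have e1 := Subgroup.card_mul_index T
    have e2 := Subgroup.card_mul_index (Subgroup.zpowers (⟨c, hc⟩ : D.Cb))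
    have e3 := Subgroup.card_mul_index J
    rw [D.card_quot, hcardJ, h3, ← e1, ← e2, h1, h2] at e3
    have hpos : 0 < Nat.card ↥(J ⊓ D.Qb) * orderOf c := Nat.mul_pos Nat.card_pos (orderOf_pos c)
    refine (Nat.eq_of_mul_eq_mul_left hpos ?_).symm
    rw [e3]; ring
  intro β hβ hdvd
  rw [hTidx, sys_act, D.gdeg_comp] at hdvd ⊢
  have hb : charDegree (fun n => (β : D.Qb → ℂ) (D.toQ n)) ≠ 1 := by rwa [D.deg_comp]
  exact S.eq_of_dvd (S.gdegN_mem ⟨_, D.irr_comp β⟩) hmem (S.gdegN_ne_one ⟨_, D.irr_comp β⟩ hb) hdvd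

end Cfsg.Lib.Char.Ndad.Sect
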