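import Cfsg.Agent.Lib.Char.Ndad.Over
import Mathlib.GroupTheory.PGroup
import Mathlib.GroupTheory.SpecificGroups.Cyclic
import Mathlib.GroupTheory.Abelianization.Finite
import Mathlib.GroupTheory.FiniteAbelian.Duality

/-!
# A group of prime power order with a cyclic group of automorphisms

`U` is the preimage of the fixed points on the abelianization.  Non-linear characters vanish off
`U`.
-/

set_option autoImplicit false
set_option linter.unusedSectionVars false
set_option linter.style.haveILetI false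

namespace Cfsg.Lib.Char.Ndad

open Cfsg Cfsg.Lib.Char
open scoped commutatorElement

universe u v

section Aux

variable {Q : Type u} [Group Q]

/-- Linear characters separate the points of the abelianization. -/
theorem mem_commutator_of_linear [Finite Q] {x : Q} (h : ∀ L : Q →* ℂˣ, L x = 1) :
    x ∈ commutator Q := by
  by_contra hx
  haveI : Fintype (Abelianization Q) := Fintype.ofFinite _
  haveI : NeZero (Monoid.exponent (Abelianization Q)) :=
    ⟨Monoid.ExponentExists.of_finite.exponent_ne_zero⟩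
  obtain ⟨φ, hφ⟩ := CommGroup.exists_apply_ne_one_of_hasEnoughRootsOfUnity (Abelianization Q) ℂ
    (a := Abelianization.of x) fun e => hx ((QuotientGroup.eq_one_iff x).1 e)
  exact hφ (h (φ.comp Abelianization.of))

/-- A linear character takes values of order prime to `o` on a group of prime power order. -/
theorem hom_eq_one_of_pow {M : Type v} [Monoid M] {q : ℕ} (hq : q.Prime) (hpQ : IsPGroup q Q)
    (L : Q →* M) {x : Q} {o : ℕ} (ho : ¬ q ∣ o) (h : L x ^ o = 1) : L x = 1 := by
  obtain ⟨k, hk⟩ := hpQ x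
  exact RelDeg.eq_one_of_pow_coprime h (by rw [← map_pow, hk, map_one])
    ((Nat.Coprime.pow_left k ((hq.coprime_iff_not_dvd).2 ho)).symm)

variable {C : Type v} [Group C]

/-- The elements of `C` that fix a function. -/
def fixer (act : C →* MulAut Q) (f : Q → ℂ) : Subgroup C where
  carrier := {c | ∀ x, f (act c x) = f x}
  one_mem' x := by simp
  mul_mem' {a b} ha hb x := by rw [map_mul, MulAut.mul_apply, ha, hb]
  inv_mem' {a} ha x := by
    conv_rhs => rw [show x = act a (act a⁻¹ x) by rw [← MulAut.mul_apply, ← map_mul, mul_inv_cancel,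
      map_one, MulAut.one_apply]]
    rw [ha]

theorem mem_fixer {act : C →* MulAut Q} {f : Q → ℂ} {c : C} :
    c ∈ fixer act f ↔ ∀ x, f (act c x) = f x := Iff.rfl

/-- The degree of the character over `f` in the semidirect product. -/
noncomputable def gdeg (act : C →* MulAut Q) (f : Q → ℂ) : ℕ :=
  charDegree f * (fixer act f).index

end Aux

/-- The hypotheses on a `q`-section. -/
structure Sys (Q : Type u) [Group Q] (C : Type v) [Group C] where
  q : ℕ
  hq : q.Prime
  hpQ : IsPGroup q Q
  act : C →* MulAut Q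
  cyc : IsCyclic C
  cop : ¬ q ∣ Nat.card C
  lin : ∀ L : Q →* ℂˣ, ∀ c : C, c ≠ 1 → (∀ x, L (act c x) = L x) → ∀ d x, L (act d x) = L x
  stab : ∀ β : IrrCharacter Q, charDegree (β : Q → ℂ) ≠ 1 →
    ∃ c : C, c ≠ 1 ∧ c ∈ fixer act (β : Q → ℂ)
  anti : ∀ β β' : IrrCharacter Q, charDegree (β : Q → ℂ) ≠ 1 → charDegree (β' : Q → ℂ) ≠ 1 →
    gdeg act (β : Q → ℂ) ∣ gdeg act (β' : Q → ℂ) →
      gdeg act (β : Q → ℂ) = gdeg act (β' : Q → ℂ)

namespace Sys

variable {Q : Type u} [Group Q] [Fintype Q] {C : Type v} [Group C] [Finite C] (S : Sys Q C)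

theorem comm_C (S : Sys Q C) (a b : C) : a * b = b * a := by
  haveI := S.cyc
  letI := IsCyclic.commGroup (α := C)
  exact mul_comm a b

theorem act_mul (a b : C) (x : Q) : S.act (a * b) x = S.act a (S.act b x) := by
  rw [map_mul, MulAut.mul_apply]

theorem act_one (x : Q) : S.act 1 x = x := by simp

theorem act_comm (a b : C) (x : Q) : S.act a (S.act b x) = S.act b (S.act a x) := by
  rw [← act_mul, ← act_mul, S.comm_C]

/-- An element of `C` has order prime to `q`. -/
theorem not_dvd_orderOf (c : C) : ¬ S.q ∣ orderOf c := fun h =>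
  S.cop (h.trans (orderOf_dvd_natCard c))

/-- The preimage of the fixed points of `C` on the abelianization. -/
def U : Subgroup Q where
  carrier := {x | ∀ (L : Q →* ℂˣ) (c : C), L (S.act c x) = L x}
  one_mem' L c := by simp
  mul_mem' {a b} ha hb L c := by rw [map_mul, map_mul, map_mul, ha, hb]
  inv_mem' {a} ha L c := by rw [map_inv, map_inv, map_inv, ha]

theorem mem_U {x : Q} : x ∈ S.U ↔ ∀ (L : Q →* ℂˣ) (c : C), L (S.act c x) = L x := Iff.rfl

theorem commutator_le_U : commutator Q ≤ S.U := fun x hx L c => by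
  have h1 : L x = 1 := Abelianization.commutator_subset_ker L hx
  have h2 : (L.comp (S.act c).toMonoidHom) x = 1 := Abelianization.commutator_subset_ker _ hx
  rw [h1]
  exact h2

instance normal_U : S.U.Normal := ⟨fun x hx g => by
  have h : g * x * g⁻¹ * x⁻¹ ∈ S.U := S.commutator_le_U
    (Subgroup.commutator_mem_commutator (Subgroup.mem_top g) (Subgroup.mem_top x))
  simpa using mul_mem h hx⟩

theorem act_mem_U (c : C) {x : Q} (hx : x ∈ S.U) : S.act c x ∈ S.U := fun L d => by
  rw [S.act_comm d c]
  exact hx (L.comp (S.act c).toMonoidHom) d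

theorem displacement_mem (c : C) {x : Q} (hx : x ∈ S.U) : x⁻¹ * S.act c x ∈ commutator Q :=
  mem_commutator_of_linear fun L => by rw [map_mul, map_inv, hx L c, inv_mul_cancel]

/-- A linear character trivial on `U` and fixed by a non-trivial element is trivial. -/
theorem eq_one_of_fixed {L : Q →* ℂˣ} (hU : ∀ x ∈ S.U, L x = 1) {c : C} (hc : c ≠ 1)
    (hfix : ∀ x, L (S.act c x) = L x) : L = 1 := by
  classical
  haveI := Fintype.ofFinite C
  have hall := S.lin L c hc hfix
  refine MonoidHom.ext fun x => ?_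
  obtain ⟨y, hy⟩ : ∃ y : Q, Abelianization.of y = ∏ d : C, Abelianization.of (S.act d x) :=
    QuotientGroup.mk_surjective _
  have hy' : y ∈ S.U := fun M e => by
    have h1 : ∀ N : Q →* ℂˣ, N y = ∏ d : C, N (S.act d x) := fun N => by
      rw [← Abelianization.lift_apply_of N y, hy, map_prod]
      simp
    have h2 := h1 (M.comp (S.act e).toMonoidHom)
    simp only [MonoidHom.comp_apply, MulEquiv.coe_toMonoidHom] at h2
    rw [h2, h1 M]
    exact Fintype.prod_equiv (Equiv.mulLeft e) _ _ fun d => by simp [act_mul]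
  have h1 := hU y hy'
  rw [← Abelianization.lift_apply_of L y, hy, map_prod] at h1
  simp only [Abelianization.lift_apply_of, hall, Finset.prod_const, Finset.card_univ] at h1
  exact hom_eq_one_of_pow S.hq S.hpQ L (Nat.card_eq_fintype_card (α := C) ▸ S.cop) h1

/-- Fixed modulo the derived group by one non-trivial element: in `U`. -/
theorem mem_U_of_fixed {c : C} (hc : c ≠ 1) {x : Q} (h : x⁻¹ * S.act c x ∈ commutator Q) :
    x ∈ S.U := by
  classical
  intro L d
  have hcx : ∀ (N : Q →* ℂˣ) (i : ℕ), N (S.act (c ^ i) x) = N x := by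
    intro N i
    induction i generalizing N with
    | zero => simp
    | succ i ih =>
      have e : N (S.act c x) = N x := by
        have h1 : N (x⁻¹ * S.act c x) = 1 := Abelianization.commutator_subset_ker N h
        rwa [map_mul, map_inv, inv_mul_eq_one, eq_comm] at h1
      rw [pow_succ', act_mul]
      have h1 := ih (N.comp (S.act c).toMonoidHom)
      simp only [MonoidHom.comp_apply, MulEquiv.coe_toMonoidHom] at h1
      rw [h1, e]
  set M : Q →* ℂˣ := L.comp (S.act d).toMonoidHom * L⁻¹ with hM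
  set P : Q →* ℂˣ := ∏ i ∈ Finset.range (orderOf c), M.comp (S.act (c ^ i)).toMonoidHom with hP
  have hP' : ∀ y, P y = ∏ i ∈ Finset.range (orderOf c), M (S.act (c ^ i) y) := fun y => by
    rw [hP, MonoidHom.finsetProd_apply]
    rfl
  have hPU : ∀ y ∈ S.U, P y = 1 := fun y hy => by
    rw [hP']
    refine Finset.prod_eq_one fun i _ => ?_
    rw [hM, MonoidHom.mul_apply, MonoidHom.inv_apply, MonoidHom.comp_apply, MulEquiv.coe_toMonoidHom,
      (S.act_mem_U _ hy) L d, mul_inv_cancel]
  have hPc : ∀ y, P (S.act c y) = P y := fun y => by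
    rw [hP', hP', Finset.prod_congr rfl fun i _ => by rw [← act_mul, ← pow_succ]]
    have h1 := Finset.prod_range_succ' (fun i => M (S.act (c ^ i) y)) (orderOf c)
    have h2 := Finset.prod_range_succ (fun i => M (S.act (c ^ i) y)) (orderOf c)
    rw [pow_orderOf_eq_one] at h2
    rw [pow_zero] at h1
    exact mul_right_cancel (h1.symm.trans h2)
  have h3 := DFunLike.congr_fun (S.eq_one_of_fixed hPU hc hPc) x
  rw [hP', Finset.prod_congr rfl fun i _ => hcx M i, Finset.prod_const, Finset.card_range,
    MonoidHom.one_apply] at h3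
  have h4 := hom_eq_one_of_pow S.hq S.hpQ M (S.not_dvd_orderOf c) h3
  rwa [hM, MonoidHom.mul_apply, MonoidHom.inv_apply, mul_inv_eq_one] at h4

/-- Non-linear irreducible characters absorb the linear characters trivial on `U`. -/
theorem mul_lin_eq (β : IrrCharacter Q) (hβ : charDegree (β : Q → ℂ) ≠ 1) (L : Q →* ℂˣ)
    (hL : ∀ x ∈ S.U, L x = 1) (x : Q) : (β : Q → ℂ) x * (L x : ℂ) = (β : Q → ℂ) x := by
  let Λ : Subgroup (Q →* ℂˣ) :=
    { carrier := {M | ∀ x ∈ S.U, M x = 1}
      one_mem' := fun _ _ => rfl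
      mul_mem' := fun {a b} ha hb x hx => by rw [MonoidHom.mul_apply, ha x hx, hb x hx, one_mul]
      inv_mem' := fun {a} ha x hx => by rw [MonoidHom.inv_apply, ha x hx, inv_one] }
  haveI : Finite (Q →* ℂˣ) := Finite.of_equiv _ (Abelianization.lift (G := Q) (A := ℂˣ)).symm
  refine mul_eq_self (fun c : C => S.act c) (fun c => c ≠ 1)
    (fun i j f _ y => by rw [S.act_comm]) Λ (fun c M hM y hy => hM _ (S.act_mem_U c hy))
    (fun c hc M hM e => S.eq_one_of_fixed hM hc fun y => DFunLike.congr_fun e y)
    β.2.isClassFunction (fun M hM => ?_) L hL x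
  have hdeg : charDegree (fun g => (β : Q → ℂ) g * (M g : ℂ)) = charDegree (β : Q → ℂ) := by
    simp [charDegree]
  obtain ⟨c, hc, hfix⟩ := S.stab ⟨_, isIrrCharacter_mul_linear β.2 M⟩ (hdeg ▸ hβ)
  exact ⟨c, hc, hfix⟩

/-- Non-linear irreducible characters vanish off `U`. -/
theorem eq_zero_of_not_mem_U (β : IrrCharacter Q) (hβ : charDegree (β : Q → ℂ) ≠ 1) {x : Q}
    (hx : x ∉ S.U) : (β : Q → ℂ) x = 0 := by
  by_contra h0
  rw [mem_U] at hx
  push Not at hx
  obtain ⟨L, c, hLc⟩ := hx
  let M : Q →* ℂˣ := L.comp (S.act c).toMonoidHom * L⁻¹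
  have hM : ∀ y ∈ S.U, M y = 1 := fun y hy => by
    simp [M, hy L c]
  have h1 := S.mul_lin_eq β hβ M hM x
  have h2 : M x = 1 := Units.ext (by simpa using (mul_eq_left₀ h0).1 h1)
  exact hLc (by simpa [M, mul_inv_eq_one] using h2)

end Sys

end Cfsg.Lib.Char.Ndad
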