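import Cfsg.Agent.Lib.Char.Ndad.Ext
import Cfsg.Agent.Lib.Char.Ndad.Frame
import Cfsg.Agent.Lib.Char.Ndad.Sys
import Cfsg.Agent.Lib.Char.GlaubermanCyclic
import Cfsg.Agent.Lib.Char.MinimalDegrees
import Cfsg.Agent.Lib.Coprime.Action
import Cfsg.Agent.S4456

/-!
# The fixed point free case: degrees, the normal complement and the free elements
-/

set_option autoImplicit false
set_option linter.unusedSectionVars false
set_option linter.style.haveILetI false
set_option maxHeartbeats 800000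

namespace Cfsg.Lib.Char.Ndad

open Cfsg Cfsg.Lib.Char
open scoped commutatorElement

universe u

/-- The hypotheses of the fixed point free case. -/
structure Setup (G : Type u) [Group G] where
  q : ℕ
  K : Subgroup G
  N : Subgroup G
  hF : FixedPointFreeCase q K N
  hnd : ∀ a ∈ charDegrees G, ∀ b ∈ charDegrees G, 1 < a → a < b → ¬ a ∣ b
  [normalN : N.Normal]
  [normalK : K.Normal]

attribute [instance] Setup.normalN Setup.normalK

namespace Setup

variable {G : Type u} [Group G] [Fintype G] (S : Setup G)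

include S

theorem hq : S.q.Prime := S.hF.2.2.2.1

theorem one_lt_index : 1 < S.N.index := by
  have h0 : S.N.index ≠ 0 := Subgroup.index_ne_zero_of_finite
  have h1 : S.N.index ≠ 1 := fun h => S.hF.2.2.2.2.2.1 (Subgroup.index_eq_one.1 h)
  omega

theorem deg_mem (χ : IrrCharacter G) : charDegree (χ : G → ℂ) ∈ charDegrees G := ⟨χ, rfl⟩

theorem eq_of_dvd {a b : ℕ} (ha : a ∈ charDegrees G) (hb : b ∈ charDegrees G) (ha1 : a ≠ 1)
    (h : a ∣ b) : a = b := by
  obtain ⟨χ, rfl⟩ := ha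
  obtain ⟨η, rfl⟩ := hb
  by_contra hne
  have h1 := χ.2.charDegree_pos
  exact S.hnd _ (S.deg_mem χ) _ (S.deg_mem η) (by omega)
    (lt_of_le_of_ne (Nat.le_of_dvd η.2.charDegree_pos h) hne) h

theorem index_mem : S.N.index ∈ charDegrees G := by
  haveI := Fintype.ofFinite S.N
  obtain ⟨χ, hχ⟩ := S.hF.exists_index_mul ⟨_, isIrrCharacter_one⟩ (by
    show ¬ S.q ∣ charDegree (fun _ : S.N => (1 : ℂ))
    rw [show charDegree (fun _ : S.N => (1 : ℂ)) = 1 by simp [charDegree]]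
    exact S.hq.not_dvd_one)
  exact ⟨χ, by
    rw [hχ, show charDegree ((⟨_, isIrrCharacter_one⟩ : IrrCharacter S.N) : S.N → ℂ) = 1 by
      simp [charDegree], mul_one]⟩

theorem q_dvd [Fintype S.N] (ψ : IrrCharacter S.N) (hψ : charDegree (ψ : S.N → ℂ) ≠ 1) :
    S.q ∣ charDegree (ψ : S.N → ℂ) := by
  by_contra hd
  obtain ⟨η, hη⟩ := S.hF.exists_index_mul ψ hd
  have h1 := S.eq_of_dvd S.index_mem (S.deg_mem η) S.one_lt_index.ne' (hη ▸ dvd_mul_right _ _)
  rw [hη] at h1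
  exact hψ ((Nat.mul_eq_left (by have := S.one_lt_index; omega)).1 h1.symm)

theorem mem_of_comm (x y : G) : x * y * x⁻¹ * y⁻¹ ∈ S.N := S.hF.2.2.2.2.2.2.1 x y

/-- Linear characters of the section. -/
theorem exists_sec : ∃ l : S.N →* ℂˣ, (∀ n : S.N, (n : G) ∈ S.K → l n = 1) ∧ l ≠ 1 :=
  S.hF.2.2.2.2.2.2.2.2

theorem sec_fixed {g : G} (hg : g ∉ S.N) {a : S.N →* ℂˣ}
    (ha : ∀ n : S.N, (n : G) ∈ S.K → a n = 1)
    (hga : ∀ n : S.N, a (MulAut.conjNormal g n) = a n) : a = 1 := by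
  refine MonoidHom.ext fun n => ?_
  obtain ⟨b, hb, hbK⟩ := S.hF.2.2.2.2.2.2.2.1 g hg n n.2
  have h2 := ha (n⁻¹ * ((MulAut.conjNormal g ⟨b, hb⟩ : S.N) * (⟨b, hb⟩ : S.N)⁻¹)) (by
    simp only [Subgroup.coe_mul, InvMemClass.coe_inv, MulAut.conjNormal_apply]
    exact hbK)
  rw [map_mul, map_mul, map_inv, map_inv, hga, mul_inv_cancel, mul_one, inv_eq_one] at h2
  rw [h2, MonoidHom.one_apply]

/-- The linear characters of the section. -/
def secChars : Subgroup (S.N →* ℂˣ) where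
  carrier := {a | ∀ n : S.N, (n : G) ∈ S.K → a n = 1}
  one_mem' := fun _ _ => rfl
  mul_mem' := fun {a b} ha hb n hn => by rw [MonoidHom.mul_apply, ha n hn, hb n hn, one_mul]
  inv_mem' := fun {a} ha n hn => by rw [MonoidHom.inv_apply, ha n hn, inv_one]

theorem secChars_finite : Finite S.secChars := by
  haveI : Finite (S.N →* ℂˣ) := Nat.finite_of_card_ne_zero
    (by rw [card_linear_eq_index]; exact Subgroup.index_ne_zero_of_finite)
  infer_instance

theorem secChars_comp {g : G} {a : S.N →* ℂˣ} (ha : a ∈ S.secChars) :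
    a.comp (MulAut.conjNormal g : MulAut S.N).toMonoidHom ∈ S.secChars := fun n hn => ha _ (by
  rw [MulEquiv.coe_toMonoidHom, MulAut.conjNormal_apply]
  exact S.normalK.conj_mem _ hn g)

theorem pow_mem_N {g : G} : g ^ S.N.index ∈ S.N := Subgroup.pow_index_mem S.N g

theorem not_dvd_index : ¬ S.q ∣ S.N.index := by
  intro hd
  haveI := Fact.mk S.hq
  rw [Subgroup.index_eq_card] at hd
  obtain ⟨z, hz⟩ := exists_prime_orderOf_dvd_card' S.q hd
  obtain ⟨g, rfl⟩ := QuotientGroup.mk_surjective z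
  have hgN : g ∉ S.N := fun h => by
    rw [(QuotientGroup.eq_one_iff g).2 h, orderOf_one] at hz
    exact S.hq.ne_one hz.symm
  have hgq : g ^ S.q ∈ S.N := by
    rw [← QuotientGroup.eq_one_iff, QuotientGroup.mk_pow, ← hz, pow_orderOf_eq_one]
  haveI := S.secChars_finite
  set T : Equiv.Perm S.secChars :=
    { toFun := fun a => ⟨_, S.secChars_comp (g := g) a.2⟩
      invFun := fun a => ⟨_, S.secChars_comp (g := g⁻¹) a.2⟩
      left_inv := fun a => Subtype.ext (MonoidHom.ext fun n => congrArg (a : S.N →* ℂˣ)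
        (Subtype.ext (by simp only [MulEquiv.coe_toMonoidHom, MulAut.conjNormal_apply]; group)))
      right_inv := fun a => Subtype.ext (MonoidHom.ext fun n => congrArg (a : S.N →* ℂˣ)
        (Subtype.ext (by simp only [MulEquiv.coe_toMonoidHom, MulAut.conjNormal_apply]; group))) }
  have hit : ∀ (j : ℕ) (a : S.secChars) (n : S.N),
      ((T ^ j) a : S.N →* ℂˣ) n = (a : S.N →* ℂˣ) (MulAut.conjNormal (g ^ j) n) := by
    intro j
    induction j with
    | zero => intro a n; simp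
    | succ j ih =>
      intro a n
      rw [pow_succ, Equiv.Perm.mul_apply, ih, pow_succ', map_mul]
      rfl
  have hTq : T ^ S.q = 1 := Equiv.ext fun a => Subtype.ext (MonoidHom.ext fun n => by
    rw [hit]
    show (a : S.N →* ℂˣ) _ = (a : S.N →* ℂˣ) n
    rw [show MulAut.conjNormal (g ^ S.q) n = (⟨g ^ S.q, hgq⟩ : S.N) * n * (⟨g ^ S.q, hgq⟩ : S.N)⁻¹ from
      Subtype.ext (by rw [MulAut.conjNormal_apply]; rfl), map_mul, map_mul, map_inv,
      mul_comm _ ((a : S.N →* ℂˣ) n), mul_inv_cancel_right])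
  have hP : IsPGroup S.q (Subgroup.zpowers T) := fun x => ⟨1, Subtype.ext (by
    obtain ⟨k, hk⟩ := Subgroup.mem_zpowers_iff.1 x.2
    rw [pow_one, SubmonoidClass.coe_pow, ← hk, ← zpow_natCast, zpow_comm, zpow_natCast, hTq,
      one_zpow]
    rfl)⟩
  obtain ⟨l, hl, hl1⟩ := S.exists_sec
  have hqG : IsPGroup S.q S.secChars := fun a => by
    obtain ⟨k, hk⟩ := S.hF.2.2.2.2.1
    refine ⟨k, Subtype.ext (MonoidHom.ext fun n => ?_)⟩
    rw [SubmonoidClass.coe_pow, MonoidHom.pow_apply, ← map_pow]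
    exact a.2 _ (Subgroup.mem_subgroupOf.1
      (hk ▸ Subgroup.pow_index_mem (S.K.subgroupOf S.N) n))
  haveI : Nontrivial S.secChars := ⟨⟨⟨l, hl⟩, 1, fun e => hl1 (congrArg Subtype.val e)⟩⟩
  obtain ⟨i, hi⟩ := hqG.exists_card_eq
  have hi0 : i ≠ 0 := fun e => (Finite.one_lt_card (α := S.secChars)).ne' (by rw [hi, e, pow_zero])
  have hT1 : T 1 = 1 := Subtype.ext (MonoidHom.ext fun n => rfl)
  obtain ⟨a, ha, ha1⟩ := hP.exists_fixed_point_of_prime_dvd_card_of_fixed_point S.secChars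
    (hi ▸ dvd_pow_self S.q hi0) (a := 1) (fun x => by
      obtain ⟨k, hk⟩ := Subgroup.mem_zpowers_iff.1 x.2
      show (x : Equiv.Perm S.secChars) 1 = 1
      rw [← hk]
      exact Equiv.Perm.zpow_apply_eq_self_of_apply_eq_self hT1 k)
  refine ha1 (Subtype.ext (S.sec_fixed hgN a.2 fun n => ?_)).symm
  exact DFunLike.congr_fun (congrArg Subtype.val (ha ⟨T, Subgroup.mem_zpowers T⟩ : T a = a)) n

theorem isCyclic_quot : IsCyclic (G ⧸ S.N) := by
  haveI := S.secChars_finite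
  obtain ⟨l, hl, hl1⟩ := S.exists_sec
  letI : CommGroup (G ⧸ S.N) := { (inferInstance : Group (G ⧸ S.N)) with
    mul_comm := fun a b => by
      obtain ⟨a, rfl⟩ := QuotientGroup.mk_surjective a
      obtain ⟨b, rfl⟩ := QuotientGroup.mk_surjective b
      refine QuotientGroup.eq.2 ?_
      rw [show (a * b)⁻¹ * (b * a) = b⁻¹ * a⁻¹ * (b⁻¹)⁻¹ * (a⁻¹)⁻¹ by group]
      exact S.mem_of_comm _ _ }
  let act : G →* MulAut S.secChars :=
    { toFun := fun g =>
        { toFun := fun a => ⟨_, S.secChars_comp (g := g⁻¹) a.2⟩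
          invFun := fun a => ⟨_, S.secChars_comp (g := g) a.2⟩
          left_inv := fun a => Subtype.ext (MonoidHom.ext fun n => congrArg (a : S.N →* ℂˣ)
            (Subtype.ext (by simp only [MulEquiv.coe_toMonoidHom, MulAut.conjNormal_apply]; group)))
          right_inv := fun a => Subtype.ext (MonoidHom.ext fun n => congrArg (a : S.N →* ℂˣ)
            (Subtype.ext (by simp only [MulEquiv.coe_toMonoidHom, MulAut.conjNormal_apply]; group)))
          map_mul' := fun a b => rfl }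
      map_one' := MulEquiv.ext fun a => Subtype.ext (MonoidHom.ext fun n =>
        congrArg (a : S.N →* ℂˣ) (Subtype.ext (by simp)))
      map_mul' := fun g h => MulEquiv.ext fun a => Subtype.ext (MonoidHom.ext fun n =>
        congrArg (a : S.N →* ℂˣ) (Subtype.ext (by simp [mul_assoc]))) }
  have hker : S.N ≤ act.ker := fun m hm => MonoidHom.mem_ker.2 (MulEquiv.ext fun a =>
    Subtype.ext (MonoidHom.ext fun n => by
      show (a : S.N →* ℂˣ) (MulAut.conjNormal m⁻¹ n) = (a : S.N →* ℂˣ) n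
      rw [show MulAut.conjNormal m⁻¹ n = (⟨m, hm⟩ : S.N)⁻¹ * n * (⟨m, hm⟩ : S.N) from
        Subtype.ext (by simp), map_mul, map_mul, map_inv, mul_comm _ ((a : S.N →* ℂˣ) n),
        mul_assoc, inv_mul_cancel, mul_one]))
  refine isCyclic_of_free (QuotientGroup.lift S.N act hker) (fun b hb a ha => ?_)
    ⟨⟨l, hl⟩, fun e => hl1 (congrArg Subtype.val e)⟩
  obtain ⟨g, rfl⟩ := QuotientGroup.mk_surjective b
  have hgN : g⁻¹ ∉ S.N := fun h => hb ((QuotientGroup.eq_one_iff g).2 (by simpa using inv_mem h))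
  exact Subtype.ext (S.sec_fixed hgN a.2 fun n => DFunLike.congr_fun (congrArg Subtype.val ha) n)

/-- The degree over a character of `N`. -/
noncomputable def gdegN (ψ : S.N → ℂ) : ℕ := (inertia S.N ψ).index * charDegree ψ

/-- Above a character of `N` all degrees are the index of its inertia group times its degree. -/
theorem degree_over [Fintype S.N] (ψ : IrrCharacter S.N) :
    (∃ χ : IrrCharacter G, classInner (fun n : S.N => (χ : G → ℂ) n) (ψ : S.N → ℂ) ≠ 0 ∧
      charDegree (χ : G → ℂ) = S.gdegN ψ) ∧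
    ∀ χ : IrrCharacter G, classInner (fun n : S.N => (χ : G → ℂ) n) (ψ : S.N → ℂ) ≠ 0 →
      charDegree (χ : G → ℂ) = S.gdegN ψ := by
  classical
  set I := inertia S.N (ψ : S.N → ℂ) with hI
  have hNI : S.N ≤ I := le_inertia S.N ψ.2.isClassFunction
  haveI := Fintype.ofFinite I
  haveI : (S.N.subgroupOf I).Normal := S.normalN.subgroupOf I
  haveI := Fintype.ofFinite (S.N.subgroupOf I)
  have hcyc : IsCyclic (I ⧸ S.N.subgroupOf I) := by
    haveI := S.isCyclic_quot
    exact isCyclic_of_injective (QuotientGroup.map (S.N.subgroupOf I) S.N I.subtype fun x hx => hx) (by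
      rw [← MonoidHom.ker_eq_bot_iff, eq_bot_iff]
      rintro x hx
      obtain ⟨x, rfl⟩ := QuotientGroup.mk_surjective x
      change ((x : G) : G ⧸ S.N) = 1 at hx
      rw [QuotientGroup.eq_one_iff] at hx
      exact Subgroup.mem_bot.2 ((QuotientGroup.eq_one_iff x).2 hx))
  obtain ⟨η, hη, hres⟩ := exists_extension_cyclic (S.N.subgroupOf I)
    (isIrrCharacter_resTo S.N ψ.2 hNI)
    (fun t => funext fun x => (mem_inertia_iff S.N).1 (t.2 : (t : G) ∈ inertia S.N (ψ : S.N → ℂ))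
      ⟨((x : I) : G), Subgroup.mem_subgroupOf.1 x.2⟩) hcyc
  have hres' : ∀ n : S.N, η ⟨n, hNI n.2⟩ = (ψ : S.N → ℂ) n := fun n =>
    congrFun hres ⟨⟨n, hNI n.2⟩, Subgroup.mem_subgroupOf.2 n.2⟩
  have hab : ∀ x ∈ I, ∀ y ∈ I, x * y * x⁻¹ * y⁻¹ ∈ S.N := fun x _ y _ => S.mem_of_comm x y
  have hval : ∀ χ : IrrCharacter G, (χ : G → ℂ) 1 = (I.index : ℂ) * (ψ : S.N → ℂ) 1 →
      charDegree (χ : G → ℂ) = S.gdegN ψ := fun χ hχ => charDegree_of_one_eq (by
    rw [hχ, ψ.2.apply_one_eq_charDegree, gdegN, ← hI]; push_cast; rfl)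
  refine ⟨?_, fun χ hχ => hval χ
    (apply_one_of_abelian_inertia S.N ψ.2 hI hNI hη hres' hab χ hχ)⟩
  obtain ⟨χ, hχ, hχ1⟩ := exists_gallagher_induced S.N ψ.2 hI hNI hη hres' ⟨_, isIrrCharacter_one⟩
    fun _ _ => rfl
  exact ⟨χ, hχ, hval χ (by rw [hχ1]; simp)⟩

theorem gdegN_mem [Fintype S.N] (ψ : IrrCharacter S.N) : S.gdegN ψ ∈ charDegrees G := by
  obtain ⟨⟨χ, -, hχ⟩, -⟩ := S.degree_over ψ
  exact ⟨χ, hχ⟩

theorem inertia_ne [Fintype S.N] (ψ : IrrCharacter S.N) (hψ : charDegree (ψ : S.N → ℂ) ≠ 1) :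
    ∃ g ∉ S.N, g ∈ inertia S.N (ψ : S.N → ℂ) := by
  by_contra h
  push Not at h
  have he : inertia S.N (ψ : S.N → ℂ) = S.N :=
    le_antisymm (fun g hg => by_contra fun hgN => h g hgN hg) (le_inertia S.N ψ.2.isClassFunction)
  have h1 := S.eq_of_dvd S.index_mem (S.gdegN_mem ψ) S.one_lt_index.ne'
    (by rw [gdegN, he]; exact dvd_mul_right _ _)
  rw [gdegN, he] at h1
  exact hψ ((Nat.mul_eq_left (by have := S.one_lt_index; omega)).1 h1.symm)

theorem gdegN_ne_one [Fintype S.N] (ψ : IrrCharacter S.N) (hψ : charDegree (ψ : S.N → ℂ) ≠ 1) :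
    S.gdegN ψ ≠ 1 := fun h => hψ (Nat.eq_one_of_mul_eq_one_left h)

theorem gdegN_anti [Fintype S.N] (ψ φ : IrrCharacter S.N) (hψ : charDegree (ψ : S.N → ℂ) ≠ 1)
    (h : S.gdegN ψ ∣ S.gdegN φ) : S.gdegN ψ = S.gdegN φ :=
  S.eq_of_dvd (S.gdegN_mem ψ) (S.gdegN_mem φ) (S.gdegN_ne_one ψ hψ) h

/-- A linear character fixed by an element outside is invariant. -/
theorem lin_fix (L : S.N →* ℂˣ) {g : G} (hg : g ∉ S.N)
    (hfix : ∀ n, L (MulAut.conjNormal g n) = L n) (y : G) (n : S.N) :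
    L (MulAut.conjNormal y n) = L n := by
  haveI := Fintype.ofFinite S.N
  set ψ : IrrCharacter S.N := ⟨RelDeg.lin L, RelDeg.isIrr_lin S.N L⟩
  have hψ1 : charDegree (RelDeg.lin L) = 1 := charDegree_of_one_eq (by simp [RelDeg.lin])
  have hgI : g ∈ inertia S.N (RelDeg.lin L) :=
    (mem_inertia_iff S.N).2 fun m => congrArg Units.val (by
      rw [← hfix m]; exact congrArg L (Subtype.ext (by simp)))
  have hd : S.gdegN (RelDeg.lin L) ∣ S.N.index := by
    rw [gdegN, hψ1, mul_one]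
    exact Subgroup.index_dvd_of_le (le_inertia S.N (RelDeg.isIrr_lin S.N L).isClassFunction)
  have htop : inertia S.N (RelDeg.lin L) = ⊤ := by
    by_contra hne
    have h1 : S.gdegN (RelDeg.lin L) ≠ 1 := by
      rw [gdegN, hψ1, mul_one]; exact fun e => hne (Subgroup.index_eq_one.1 e)
    have h2 := S.eq_of_dvd (S.gdegN_mem ψ) S.index_mem h1 hd
    change S.gdegN (RelDeg.lin L) = _ at h2
    rw [gdegN, hψ1, mul_one] at h2
    have hle := le_inertia S.N (RelDeg.isIrr_lin S.N L).isClassFunction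
    have h3 := Subgroup.relIndex_mul_index hle
    rw [h2] at h3
    exact hg ((Subgroup.relIndex_eq_one.1
      ((Nat.mul_eq_right Subgroup.index_ne_zero_of_finite).1 h3)) hgI)
  have hy := (mem_inertia_iff S.N).1 (htop ▸ Subgroup.mem_top y : y ∈ inertia S.N (RelDeg.lin L)) n
  have hy2 : L ⟨y * n * y⁻¹, S.normalN.conj_mem n n.2 y⟩ = L n := Units.ext hy
  rw [← hy2]
  exact congrArg L (Subtype.ext (by simp))

/-- Degrees of `G`. -/
theorem cases [Fintype S.N] (χ : IrrCharacter G) :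
    charDegree (χ : G → ℂ) = 1 ∨ charDegree (χ : G → ℂ) = S.N.index ∨
      ∃ ψ : IrrCharacter S.N, charDegree (ψ : S.N → ℂ) ≠ 1 ∧
        charDegree (χ : G → ℂ) = S.gdegN ψ := by
  obtain ⟨ψ, hψ⟩ := exists_irr_constituent_res S.N χ.2
  have hd := (S.degree_over ψ).2 χ hψ
  by_cases h1 : charDegree (ψ : S.N → ℂ) = 1
  · by_cases h : charDegree (χ : G → ℂ) = 1
    · exact Or.inl h
    refine Or.inr (Or.inl (S.eq_of_dvd (S.deg_mem χ) S.index_mem h ?_))
    rw [hd, gdegN, h1, mul_one]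
    exact Subgroup.index_dvd_of_le (le_inertia S.N ψ.2.isClassFunction)
  · exact Or.inr (Or.inr ⟨ψ, h1, hd⟩)

end Setup

/-- The normal complement and a generator of the quotient. -/
structure Sect {G : Type u} [Group G] (S : Setup G) where
  M : Subgroup G
  [normalM : M.Normal]
  le : M ≤ S.N
  cop : (Nat.card M).Coprime S.q
  idx : ∃ k, M.relIndex S.N = S.q ^ k
  c₀ : G
  c₀_pow : c₀ ^ S.N.index ∈ M
  gen : ∀ y, ∃ n ∈ S.N, ∃ k : ℕ, y = n * c₀ ^ k

attribute [instance] Sect.normalM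

namespace Setup

variable {G : Type u} [Group G] [Fintype G] (S : Setup G)

theorem exists_sect : Nonempty (Sect S) := by
  classical
  haveI := Fintype.ofFinite S.N
  obtain ⟨C, hCn, hCcop, k, hCidx⟩ := Cfsg.Agent.S4456.result (G := S.N) S.q S.hq S.q_dvd
  haveI := hCn
  set M := C.map S.N.subtype with hM
  have hcardM : Nat.card M = Nat.card C := Subgroup.card_map_of_injective S.N.subtype_injective
  have hMn : M.Normal := ⟨by
    rintro _ ⟨y, hy, rfl⟩ g
    refine ⟨MulAut.conjNormal g y, ?_, by simp⟩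
    have h1 : (QuotientGroup.mk' C (MulAut.conjNormal g y)) ^ Nat.card C = 1 := by
      rw [← map_pow, ← map_pow, show y ^ Nat.card C = 1 from congrArg Subtype.val
        (pow_card_eq_one' (G := C) (x := ⟨y, hy⟩)), map_one, map_one]
    have h2 : (QuotientGroup.mk' C (MulAut.conjNormal g y)) ^ (S.q ^ k) = 1 := by
      rw [← map_pow, ← hCidx]
      exact (QuotientGroup.eq_one_iff _).2 (Subgroup.pow_index_mem C _)
    exact (QuotientGroup.eq_one_iff _).1
      (RelDeg.eq_one_of_pow_coprime h1 h2 (Nat.Coprime.pow_right k hCcop))⟩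
  have hrel : M.relIndex S.N = S.q ^ k := by
    rw [← hCidx, Subgroup.relIndex, hM]
    congr 1
    exact Subgroup.comap_map_eq_self_of_injective S.N.subtype_injective C
  haveI := S.isCyclic_quot
  obtain ⟨z, hz⟩ := IsCyclic.exists_generator (α := G ⧸ S.N)
  obtain ⟨g, rfl⟩ := QuotientGroup.mk_surjective z
  have ho : orderOf (g : G ⧸ S.N) = S.N.index := by
    rw [Subgroup.index_eq_card, orderOf_eq_card_of_forall_mem_zpowers hz]
  obtain ⟨m, hm⟩ := exists_pow_eq_self_of_coprime (x := (g : G ⧸ S.N)) (n := S.q ^ k)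
    (by rw [ho]; exact Nat.Coprime.pow_left k ((S.hq.coprime_iff_not_dvd).2 S.not_dvd_index))
  refine ⟨@Sect.mk G _ S M hMn (Subgroup.map_subtype_le C) (hcardM ▸ hCcop) ⟨k, hrel⟩ (g ^ S.q ^ k)
    ?_ fun y => ?_⟩
  · rw [← pow_mul, mul_comm, pow_mul]
    refine ⟨(⟨g ^ S.N.index, S.pow_mem_N⟩ : S.N) ^ (S.q ^ k), ?_, by simp⟩
    rw [← hCidx]
    exact Subgroup.pow_index_mem C _
  · obtain ⟨j, hj⟩ := Submonoid.mem_powers_iff _ _ |>.1 (mem_powers_iff_mem_zpowers.2 (hz (y : G ⧸ S.N)))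
    refine ⟨y * ((g ^ S.q ^ k) ^ (m * j))⁻¹, ?_, m * j, by group⟩
    rw [← QuotientGroup.eq_one_iff, QuotientGroup.mk_mul, QuotientGroup.mk_inv, QuotientGroup.mk_pow,
      QuotientGroup.mk_pow, pow_mul, hm, hj, mul_inv_cancel]

end Setup

namespace Sect

variable {G : Type u} [Group G] [Fintype G] {S : Setup G} (D : Sect S)

include D

theorem le_K : D.M ≤ S.K := fun m hm => by
  obtain ⟨k, hk⟩ := S.hF.2.2.2.2.1
  haveI : (S.K.subgroupOf S.N).Normal := S.normalK.subgroupOf S.N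
  refine Subgroup.mem_subgroupOf.1 ((QuotientGroup.eq_one_iff (⟨m, D.le hm⟩ : S.N)).1
    (RelDeg.eq_one_of_pow_coprime
    (x := QuotientGroup.mk' (S.K.subgroupOf S.N) ⟨m, D.le hm⟩) (a := Nat.card D.M) (b := S.q ^ k)
      ?_ ?_ (Nat.Coprime.pow_right k D.cop)))
  · rw [← map_pow, show (⟨m, D.le hm⟩ : S.N) ^ Nat.card D.M = 1 from Subtype.ext (by
      rw [SubmonoidClass.coe_pow]
      exact congrArg Subtype.val (pow_card_eq_one' (x := (⟨m, hm⟩ : D.M)))), map_one]
  · rw [← map_pow, ← hk]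
    exact (QuotientGroup.eq_one_iff _).2 (Subgroup.pow_index_mem (S.K.subgroupOf S.N) _)

theorem cop_pow (k : ℕ) : (Nat.card D.M).Coprime (S.q ^ k) := Nat.Coprime.pow_right k D.cop

/-- A linear and `N`-invariant character of `M`. -/
def Triv (θ : D.M → ℂ) : Prop := charDegree θ = 1 ∧ S.N ≤ inertia D.M θ

/-- The inertia group of a character of `M` that is not both linear and invariant under `N`. -/
theorem inertia_facts [Fintype D.M] (θ : IrrCharacter D.M) (hθ : ¬ D.Triv θ) :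
    (∀ x ∈ inertia D.M (θ : D.M → ℂ), ∀ y ∈ inertia D.M (θ : D.M → ℂ),
      x * y * x⁻¹ * y⁻¹ ∈ D.M) ∧
    (∃ g ∈ inertia D.M (θ : D.M → ℂ), g ∉ S.N) ∧ ¬ S.q ∣ charDegree (θ : D.M → ℂ) ∧
    (inertia D.M (θ : D.M → ℂ)).index * charDegree (θ : D.M → ℂ) ∈ charDegrees G ∧
    (inertia D.M (θ : D.M → ℂ)).index * charDegree (θ : D.M → ℂ) ≠ 1 := by
  classical
  set I := inertia D.M (θ : D.M → ℂ) with hI
  have hMI : D.M ≤ I := le_inertia D.M θ.2.isClassFunction
  haveI := Fintype.ofFinite I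
  haveI : (D.M.subgroupOf I).Normal := D.normalM.subgroupOf I
  haveI : (S.N.subgroupOf I).Normal := S.normalN.subgroupOf I
  haveI := Fintype.ofFinite (D.M.subgroupOf I)
  have hRidx : ¬ S.q ∣ (S.N.subgroupOf I).index := fun h =>
    S.not_dvd_index (h.trans (Subgroup.relIndex_dvd_index_of_normal S.N I))
  have hrel : ∃ k, (D.M.subgroupOf I).relIndex (S.N.subgroupOf I) = S.q ^ k := by
    obtain ⟨k, hk⟩ := D.idx
    have h1 : (D.M.subgroupOf I).relIndex (S.N.subgroupOf I) = D.M.relIndex (S.N ⊓ I) := by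
      rw [Subgroup.subgroupOf, Subgroup.relIndex_comap, Subgroup.subgroupOf_map_subtype]
    have h2 : D.M.relIndex (S.N ⊓ I) ∣ D.M.relIndex S.N :=
      Subgroup.relIndex_mul_relIndex D.M (S.N ⊓ I) S.N (le_inf D.le hMI) inf_le_left ▸
        dvd_mul_right _ _
    rw [hk] at h2
    obtain ⟨j, -, hj⟩ := (Nat.dvd_prime_pow S.hq).1 h2
    exact ⟨j, h1.trans hj⟩
  have hcyc : IsCyclic (I ⧸ S.N.subgroupOf I) := by
    haveI := S.isCyclic_quot
    exact isCyclic_of_injective (QuotientGroup.map (S.N.subgroupOf I) S.N I.subtype fun x hx => hx) (by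
      rw [← MonoidHom.ker_eq_bot_iff, eq_bot_iff]
      rintro x hx
      obtain ⟨x, rfl⟩ := QuotientGroup.mk_surjective x
      change ((x : G) : G ⧸ S.N) = 1 at hx
      rw [QuotientGroup.eq_one_iff] at hx
      exact Subgroup.mem_bot.2 ((QuotientGroup.eq_one_iff x).2 hx))
  obtain ⟨η, hη, hres⟩ := exists_extension_split (D.M.subgroupOf I) (S.N.subgroupOf I)
    (fun x hx => Subgroup.mem_subgroupOf.2 (D.le (Subgroup.mem_subgroupOf.1 hx)))
    (isIrrCharacter_resTo D.M θ.2 hMI)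
    (fun t => funext fun x => (mem_inertia_iff D.M).1 (t.2 : (t : G) ∈ inertia D.M (θ : D.M → ℂ))
      ⟨((x : I) : G), Subgroup.mem_subgroupOf.1 x.2⟩) S.hq
    (by rw [Nat.card_congr (Subgroup.subgroupOfEquivOfLe hMI).toEquiv]; exact D.cop) hrel hRidx hcyc
  have hres' : ∀ n : D.M, η ⟨n, hMI n.2⟩ = (θ : D.M → ℂ) n := fun n =>
    congrFun hres ⟨⟨n, hMI n.2⟩, Subgroup.mem_subgroupOf.2 n.2⟩
  set d := I.index * charDegree (θ : D.M → ℂ) with hd
  have hdeg : ∀ (β : IrrCharacter I), (∀ h : I, (h : G) ∈ D.M → (β : I → ℂ) h = (β : I → ℂ) 1) →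
      d * charDegree (β : I → ℂ) ∈ charDegrees G := fun β hβ => by
    obtain ⟨χ, -, hχ⟩ := exists_gallagher_induced D.M θ.2 hI hMI hη hres' β hβ
    exact ⟨χ, charDegree_of_one_eq (by
      rw [hχ, θ.2.apply_one_eq_charDegree, β.2.apply_one_eq_charDegree, hd]; push_cast; rfl)⟩
  have hdmem : d ∈ charDegrees G := by
    have h := hdeg ⟨_, isIrrCharacter_one⟩ fun _ _ => rfl
    rwa [show charDegree ((⟨_, isIrrCharacter_one⟩ : IrrCharacter I) : I → ℂ) = 1 by
      simp [charDegree], mul_one] at h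
  have hd1 : d ≠ 1 := fun e => hθ ⟨Nat.eq_one_of_mul_eq_one_left e, by
    rw [← hI, Subgroup.index_eq_one.1 (Nat.eq_one_of_mul_eq_one_right e)]; exact le_top⟩
  refine ⟨?_, ?_, fun h => ?_, hdmem, hd1⟩
  · haveI := Fintype.ofFinite (I ⧸ D.M.subgroupOf I)
    have hlin : ∀ β : IrrCharacter (I ⧸ D.M.subgroupOf I), charDegree (β : I ⧸ D.M.subgroupOf I → ℂ) = 1 := fun β => by
      have h1 := hdeg ⟨_, isIrrCharacter_inflate (D.M.subgroupOf I) β.2⟩ fun h hh => by
        show (β : I ⧸ D.M.subgroupOf I → ℂ) (h : I ⧸ D.M.subgroupOf I) =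
          (β : I ⧸ D.M.subgroupOf I → ℂ) ((1 : I) : I ⧸ D.M.subgroupOf I)
        rw [(QuotientGroup.eq_one_iff h).2 hh, QuotientGroup.mk_one]
      have h2 := S.eq_of_dvd hdmem h1 hd1 (dvd_mul_right _ _)
      have hd0 : d ≠ 0 := mul_ne_zero Subgroup.index_ne_zero_of_finite θ.2.charDegree_pos.ne'
      exact (Nat.mul_eq_left hd0).1 h2.symm
    intro x hx y hy
    have h1 := Subgroup.commutator_mem_commutator
      (Subgroup.mem_top ((⟨x, hx⟩ : I) : I ⧸ D.M.subgroupOf I))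
      (Subgroup.mem_top ((⟨y, hy⟩ : I) : I ⧸ D.M.subgroupOf I))
    rw [← commutator_def, commutator_eq_bot_of_linear hlin, Subgroup.mem_bot] at h1
    exact Subgroup.mem_subgroupOf.1 ((QuotientGroup.eq_one_iff
      (⁅(⟨x, hx⟩ : I), (⟨y, hy⟩ : I)⁆)).1 h1)
  · by_contra hno
    push Not at hno
    have hle : I ≤ S.N := hno
    have h1 : S.N.index ∣ d := (Subgroup.index_dvd_of_le hle).mul_right _
    have h2 := S.eq_of_dvd S.index_mem hdmem S.one_lt_index.ne' h1
    rw [hd, ← Subgroup.relIndex_mul_index hle, mul_comm (I.relIndex S.N), mul_assoc] at h2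
    have h3 := (Nat.mul_eq_left Subgroup.index_ne_zero_of_finite).1 h2.symm
    exact hθ ⟨Nat.eq_one_of_mul_eq_one_left h3,
      Subgroup.relIndex_eq_one.1 (Nat.eq_one_of_mul_eq_one_right h3)⟩
  · obtain ⟨χ, hχ⟩ := charDegree_dvd_card θ.2
    exact S.hq.ne_one (Nat.dvd_one.1 (D.cop.gcd_eq_one ▸
      Nat.dvd_gcd (h.trans ⟨χ, hχ⟩) dvd_rfl))

/-- An element of order `q` moving every non-trivial character. -/
def Free (a : G) : Prop :=
  a ∈ S.N ∧ a ^ S.q = 1 ∧
    ∀ θ : IrrCharacter D.M, ¬ D.Triv θ → a ∉ inertia D.M (θ : D.M → ℂ)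

theorem cop_order {a : G} (ha : D.Free a) : (Nat.card D.M).Coprime (orderOf a) :=
  Nat.Coprime.coprime_dvd_right (orderOf_dvd_of_pow_eq_one ha.2.1) D.cop

theorem card_lin_cop [Fintype D.M] (L : D.M →* ℂˣ) (m : D.M) (h : L m ^ S.q = 1) : L m = 1 :=
  RelDeg.eq_one_of_pow_coprime h (by rw [← map_pow, pow_card_eq_one', map_one]) D.cop.symm

/-- A linear character fixed by a free element is `N`-invariant. -/
theorem lin_invariant [Fintype D.M] {a : G} (ha : D.Free a) (L : D.M →* ℂˣ)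
    (hfix : RelDeg.twHom D.M L a = L) {n : G} (hn : n ∈ S.N) : RelDeg.twHom D.M L n = L := by
  by_contra hne
  refine ha.2.2 ⟨_, RelDeg.isIrr_lin D.M L⟩ (fun h => hne ?_) (RelDeg.mem_inertia_lin (N := D.M) |>.2 hfix)
  exact (RelDeg.mem_inertia_lin (N := D.M)).1 (h.2 hn)

/-- The product over the powers of a free element. -/
theorem norm_invariant [Fintype D.M] {a : G} (ha : D.Free a) (L : D.M →* ℂˣ) {n : G}
    (hn : n ∈ S.N) :
    RelDeg.twHom D.M (∏ i ∈ Finset.range S.q, RelDeg.twHom D.M L (a ^ i)) n =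
      ∏ i ∈ Finset.range S.q, RelDeg.twHom D.M L (a ^ i) := by
  refine D.lin_invariant ha _ ?_ hn
  refine MonoidHom.ext fun m => ?_
  show (∏ i ∈ Finset.range S.q, RelDeg.twHom D.M L (a ^ i)) (MulAut.conjNormal a m) = _
  simp only [MonoidHom.finsetProd_apply]
  have h1 := Finset.prod_range_succ' (fun i => RelDeg.twHom D.M L (a ^ i) m) S.q
  have h2 := Finset.prod_range_succ (fun i => RelDeg.twHom D.M L (a ^ i) m) S.q
  rw [ha.2.1, pow_zero] at *
  refine Eq.trans (Finset.prod_congr rfl fun i _ => ?_) (mul_right_cancel (h1.symm.trans h2))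
  show L (MulAut.conjNormal (a ^ i) (MulAut.conjNormal a m)) = L (MulAut.conjNormal (a ^ (i + 1)) m)
  rw [pow_succ, map_mul]
  rfl

/-- A free element centralises no non-trivial element of the derived group of `M`. -/
theorem free_fpf [Group.IsSolvable G] {a : G} (ha : D.Free a) :
    ∀ y ∈ ⁅D.M, D.M⁆, a * y = y * a → y = 1 := by
  classical
  haveI := Fintype.ofFinite D.M
  set C := D.M ⊓ Subgroup.centralizer ({a} : Set G) with hC
  haveI := Fintype.ofFinite C
  have hCiff : ∀ x, x ∈ C ↔ x ∈ D.M ∧ Commute x a := fun x => by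
    rw [hC, Subgroup.mem_inf, Subgroup.mem_centralizer_singleton_iff]
    rfl
  have hcard := card_invariant_eq_card_classes (N := D.M) (s := a) (D.cop_order ha) hCiff
  rw [← card_irr_eq_card_conjClasses (G := C)] at hcard
  have hlin : ∀ χ : {χ : IrrCharacter D.M //
      ∀ n, (χ : D.M → ℂ) (MulAut.conjNormal a n) = (χ : D.M → ℂ) n},
      ∃ L : D.M →* ℂˣ, ((χ.1 : IrrCharacter D.M) : D.M → ℂ) = RelDeg.lin L ∧
        RelDeg.twHom D.M L a = L := by
    intro χ
    have h1 : D.Triv χ.1 := by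
      by_contra h
      refine ha.2.2 χ.1 h ((mem_inertia_iff D.M).2 fun n => ?_)
      rw [← χ.2 n]
      exact congrArg _ (Subtype.ext (by simp))
    obtain ⟨L, hL⟩ := exists_hom_of_degree_one χ.1.2.isCharacter
      (by rw [χ.1.2.apply_one_eq_charDegree, h1.1, Nat.cast_one])
    refine ⟨L, hL, MonoidHom.ext fun n => Units.ext ?_⟩
    have := χ.2 n
    rw [hL] at this
    exact this
  choose L hL hLa using hlin
  let r : {χ : IrrCharacter D.M //
      ∀ n, (χ : D.M → ℂ) (MulAut.conjNormal a n) = (χ : D.M → ℂ) n} → IrrCharacter C :=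
    fun χ => ⟨fun c => ((L χ) (Subgroup.inclusion inf_le_left c) : ℂ),
      isIrrCharacter_linear ((L χ).comp (Subgroup.inclusion inf_le_left))⟩
  have hsup : ∀ m : D.M, ∃ t ∈ ⁅D.M, Subgroup.zpowers a⁆, ∃ c ∈ C, (m : G) = t * c := fun m => by
    obtain ⟨t, ht, c, hc, e⟩ := Cfsg.Lib.Coprime.le_commutator_sup_centralizer
      (A := Subgroup.zpowers a) (G := D.M)
      (by rw [Subgroup.normalizer_eq_top]; exact le_top)
      (by rw [Nat.card_zpowers]; exact (D.cop_order ha).symm) (Or.inr inferInstance) m.2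
    refine ⟨t, ht, c, ⟨hc.1, Subgroup.mem_centralizer_singleton_iff.2 ?_⟩, e⟩
    exact (Subgroup.mem_centralizer_iff.1 hc.2 a (Subgroup.mem_zpowers a)).symm
  have hrinj : Function.Injective r := by
    intro χ χ' h
    refine Subtype.ext (Subtype.ext ?_)
    rw [hL, hL]
    suffices L χ = L χ' by rw [this]
    have hker : ∀ χ, ∀ t ∈ ⁅D.M, Subgroup.zpowers a⁆, ∀ ht : t ∈ D.M, L χ ⟨t, ht⟩ = 1 := by
      intro χ t ht
      let T : Subgroup G :=
        { carrier := {y | ∃ hy : y ∈ D.M, L χ ⟨y, hy⟩ = 1}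
          one_mem' := ⟨one_mem _, map_one _⟩
          mul_mem' := fun {x y} hx hy => ⟨mul_mem hx.1 hy.1, by
            rw [show (⟨x * y, mul_mem hx.1 hy.1⟩ : D.M) = ⟨x, hx.1⟩ * ⟨y, hy.1⟩ from rfl, map_mul,
              hx.2, hy.2, one_mul]⟩
          inv_mem' := fun {x} hx => ⟨inv_mem hx.1, by
            rw [show (⟨x⁻¹, inv_mem hx.1⟩ : D.M) = ⟨x, hx.1⟩⁻¹ from rfl, map_inv, hx.2, inv_one]⟩ }
      have hle : ⁅D.M, Subgroup.zpowers a⁆ ≤ T := by
        rw [Subgroup.commutator_le]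
        intro x hx b hb
        have hinv : RelDeg.twHom D.M (L χ) b = L χ := by
          have h1 : b ∈ inertia D.M (RelDeg.lin (L χ)) :=
            Subgroup.zpowers_le.2 (RelDeg.mem_inertia_lin (N := D.M) |>.2 (hLa χ)) hb
          exact RelDeg.mem_inertia_lin (N := D.M) |>.1 h1
        refine ⟨?_, ?_⟩
        · rw [commutatorElement_def, mul_assoc, mul_assoc]
          exact mul_mem hx (by rw [← mul_assoc]; exact D.normalM.conj_mem _ (inv_mem hx) b)
        · rw [show (⟨⁅x, b⁆, _⟩ : D.M) = ⟨x, hx⟩ * MulAut.conjNormal b ⟨x, hx⟩⁻¹ from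
            Subtype.ext (by simp [commutatorElement_def, mul_assoc]), map_mul]
          have h2 := DFunLike.congr_fun hinv ⟨x, hx⟩⁻¹
          rw [show L χ (MulAut.conjNormal b ⟨x, hx⟩⁻¹) = L χ ⟨x, hx⟩⁻¹ from h2, map_inv,
            mul_inv_cancel]
      exact fun ht' => (hle ht).2
    refine MonoidHom.ext fun m => ?_
    obtain ⟨t, ht, c, hc, e⟩ := hsup m
    have htM : t ∈ D.M := by
      have := mul_mem m.2 (inv_mem hc.1)
      rwa [e, mul_inv_cancel_right] at this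
    rw [show m = (⟨t, htM⟩ : D.M) * ⟨c, hc.1⟩ from Subtype.ext e, map_mul, map_mul,
      hker χ t ht htM, hker χ' t ht htM, one_mul, one_mul]
    exact Units.ext (congrFun (congrArg Subtype.val h) ⟨c, hc⟩)
  intro y hy hay
  have hyC : y ∈ C := ⟨(Subgroup.commutator_le_left D.M D.M) hy,
    Subgroup.mem_centralizer_singleton_iff.2 hay.symm⟩
  have hy' : (Subgroup.inclusion inf_le_left (⟨y, hyC⟩ : C) : D.M) ∈ commutator D.M := by
    rw [← Subgroup.map_subtype_commutator] at hy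
    obtain ⟨z, hz, hzy⟩ := hy
    rwa [show (Subgroup.inclusion inf_le_left (⟨y, hyC⟩ : C) : D.M) = z from Subtype.ext hzy.symm]
  have hbij := hrinj.bijective_of_nat_card_le hcard.ge
  by_contra hy1
  have hs := sum_degree_mul (G := C) ⟨y, hyC⟩
  rw [if_neg fun e => hy1 (congrArg Subtype.val e)] at hs
  have hterm : ∀ φ : IrrCharacter C, (φ : C → ℂ) 1 * (φ : C → ℂ) ⟨y, hyC⟩ = 1 := fun φ => by
    obtain ⟨χ, rfl⟩ := hbij.2 φ
    show ((L χ) (Subgroup.inclusion inf_le_left 1) : ℂ) * ((L χ) _ : ℂ) = 1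
    have h1 : (L χ) (Subgroup.inclusion inf_le_left (⟨y, hyC⟩ : C)) = 1 :=
      Abelianization.commutator_subset_ker (L χ) hy'
    rw [map_one, map_one, Units.val_one, h1, Units.val_one, mul_one]
  simp only [hterm, Finset.sum_const, nsmul_eq_mul, mul_one, Nat.cast_eq_zero,
    Finset.card_eq_zero] at hs
  exact Finset.notMem_empty (⟨_, isIrrCharacter_one⟩ : IrrCharacter C) (hs ▸ Finset.mem_univ _)

end Sect

end Cfsg.Lib.Char.Ndad
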