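import Cfsg.Agent.Lib.Char.Ndad.StageThree
import Cfsg.Agent.Lib.Char.Ndad.LieAlg
import Cfsg.Agent.Lib.Char.Ndad.Modules
import Cfsg.Agent.Lib.Char.CoherenceDescent

/-!
# The fourth layer is trivial
-/

set_option autoImplicit false
set_option linter.unusedSectionVars false
set_option linter.style.haveILetI false
set_option maxHeartbeats 400000

namespace Cfsg.Lib.Char.Ndad

open Cfsg Cfsg.Lib.Char
open scoped commutatorElement IsMulCommutative

universe u v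

variable {Q : Type u} [Group Q]

/-- A layer of the lower central series as a group. -/
abbrev LQ (Q : Type u) [Group Q] (k : ℕ) := ↥(lcs Q k) ⧸ (lcs Q (k + 1)).subgroupOf (lcs Q k)

instance LQ.isMulCommutative (k : ℕ) : IsMulCommutative (LQ Q k) := ⟨⟨fun a b => by
  obtain ⟨a, rfl⟩ := QuotientGroup.mk_surjective a
  obtain ⟨b, rfl⟩ := QuotientGroup.mk_surjective b
  refine QuotientGroup.eq.2 (Subgroup.mem_subgroupOf.2 ?_)
  show ((a : Q) * b)⁻¹ * ((b : Q) * a) ∈ _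
  rw [show ((a : Q) * b)⁻¹ * ((b : Q) * a) = ⁅(b : Q)⁻¹, (a : Q)⁻¹⁆ by
    simp only [commutatorElement_def]; group]
  exact lcs_le (by omega) (comm_mem_lcs (inv_mem b.2) (inv_mem a.2))⟩⟩

theorem Layer.pow {k : ℕ} {f : Q → ℂˣ} (hf : Layer k f) (n : ℕ) : Layer k fun x => f x ^ n :=
  ⟨fun a ha b hb => by rw [hf.map_mul a ha b hb, mul_pow], fun a ha => by rw [hf.kills a ha, one_pow]⟩

variable [Fintype Q] {C : Type v} [Group C] [Finite C]

instance Sys.quotU_isMulCommutative (S : Sys Q C) : IsMulCommutative (Q ⧸ S.U) := ⟨⟨fun a b => by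
  obtain ⟨a, rfl⟩ := QuotientGroup.mk_surjective a
  obtain ⟨b, rfl⟩ := QuotientGroup.mk_surjective b
  refine QuotientGroup.eq.2 (S.commutator_le_U ?_)
  rw [show (a * b)⁻¹ * (b * a) = ⁅b⁻¹, a⁻¹⁆ by simp only [commutatorElement_def]; group]
  exact Subgroup.commutator_mem_commutator (Subgroup.mem_top _) (Subgroup.mem_top _)⟩⟩

namespace Sys.Proper

variable {S : Sys Q C} (P : S.Proper)

include P

theorem radOne_eq {f : Q → ℂˣ} (hf : Layer 1 f) (hf0 : NonTriv 1 f) : hf.radOne = S.U := by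
  obtain ⟨χ, hχ⟩ := hf.isLam.exists_over
  exact le_antisymm (S.layerOne_char hf hf0 hχ).2.2.2 fun x hx y => hf.kills _ (P.comm_U x hx y)

theorem comm_one_mem (x : Q) : ∀ u ∈ S.U, ⁅x, u⁆ ∈ lcs Q 2 := fun u hu => by
  rw [← commutatorElement_inv]
  exact inv_mem (P.comm_U u hu x)

/-- The second layer has exponent `q`. -/
theorem pow_mem_two {z : Q} (hz : z ∈ lcs Q 1) : z ^ S.q ∈ lcs Q 2 := by
  classical
  refine mem_lcs_succ_of_layer (pow_mem hz _) fun f hf => ?_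
  rw [hf.isLam.map_pow hz]
  by_contra hne
  have h0 : NonTriv 1 fun x => f x ^ S.q := ⟨z, hz, hne⟩
  have hrad := P.radOne_eq (hf.pow S.q) h0
  -- an element outside `U` with power inside
  obtain ⟨x, hxU, hxq⟩ : ∃ x, x ∉ S.U ∧ x ^ S.q ∈ S.U := by
    obtain ⟨x, hx⟩ : ∃ x, x ∉ S.U := by
      by_contra h
      push Not at h
      obtain ⟨g, hg, w, hw, hgw⟩ := P.layer
      refine hgw (hg.kills w ?_)
      exact (show lcs Q 1 ≤ lcs Q 2 from fun y hy => by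
        have h1 : (⊤ : Subgroup Q).lowerCentralSeries 1 = ⁅(⊤ : Subgroup Q), ⊤⁆ := rfl
        exact (Subgroup.commutator_le.2 fun a _ b _ => P.comm_U a (h a) b :
          ⁅(⊤ : Subgroup Q), ⊤⁆ ≤ lcs Q 2) (h1 ▸ hy)) hw
    obtain ⟨k, hk⟩ := S.hpQ x
    have hex : ∃ m, x ^ S.q ^ m ∈ S.U := ⟨k, by rw [hk]; exact one_mem _⟩
    have h0 : Nat.find hex ≠ 0 := fun e => hx (by simpa [e] using Nat.find_spec hex)
    obtain ⟨m, hm⟩ := Nat.exists_eq_succ_of_ne_zero h0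
    refine ⟨x ^ S.q ^ m, Nat.find_min hex (by omega), ?_⟩
    rw [← pow_mul, ← pow_succ]
    simpa [hm] using Nat.find_spec hex
  refine hxU (hrad ▸ fun y => ?_)
  have hx1 : ∀ n : ℕ, f ⁅x ^ n, y⁆ = f ⁅x, y⁆ ^ n := by
    intro n
    induction n with
    | zero => simp [hf.isLam.map_one]
    | succ n ih =>
      rw [pow_succ, hf.pair_mul_left (i := 0) (j := 0) rfl (mem_lcs_zero _) (mem_lcs_zero _)
        (mem_lcs_zero y), ih, pow_succ]
  show f ⁅x, y⁆ ^ S.q = 1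
  rw [← hx1]
  exact hf.kills _ (P.comm_U _ hxq y)

/-- The abelianization modulo `U` has exponent `q`. -/
theorem pow_mem_U (x : Q) : x ^ S.q ∈ S.U := by
  obtain ⟨f, hf, hf0⟩ := P.layer
  rw [← P.radOne_eq hf hf0]
  intro y
  have hx1 : ∀ n : ℕ, f ⁅x ^ n, y⁆ = f ⁅x, y⁆ ^ n := by
    intro n
    induction n with
    | zero => simp [hf.isLam.map_one]
    | succ n ih =>
      rw [pow_succ, hf.pair_mul_left (i := 0) (j := 0) rfl (mem_lcs_zero _) (mem_lcs_zero _)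
        (mem_lcs_zero y), ih, pow_succ]
  rw [hx1, ← hf.isLam.map_pow (comm_mem_one x y)]
  exact hf.kills _ (P.pow_mem_two (comm_mem_one x y))

theorem pow_mem_three {w : Q} (hw : w ∈ lcs Q 2) : w ^ S.q ∈ lcs Q 3 := by
  refine mem_lcs_succ_of_layer (pow_mem hw _) fun f hf => ?_
  rw [hf.isLam.map_pow hw]
  refine eq_one_of_not_nonTriv ((hf.pow S.q).not_nonTriv_of_gen fun z hz x => ?_) hw
  have h : ∀ n : ℕ, f ⁅z ^ n, x⁆ = f ⁅z, x⁆ ^ n := by
    intro n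
    induction n with
    | zero => simp [hf.isLam.map_one]
    | succ n ih =>
      rw [pow_succ, hf.pair_mul_left (i := 1) (j := 0) rfl (pow_mem hz n) hz (mem_lcs_zero x), ih,
        pow_succ]
  show f ⁅z, x⁆ ^ S.q = 1
  rw [← h]
  exact hf.kills _ (comm_mem_succ (P.pow_mem_two hz) x)

theorem ker_two {f : Q → ℂˣ} (hf : Layer 3 f) (hf0 : NonTriv 3 f) {w : Q} (hw : w ∈ lcs Q 2)
    (h : ∀ x, f ⁅w, x⁆ = 1) : w ∈ lcs Q 3 := by
  refine S.ker_le_succ hf hf0.choose_spec.1 hf0.choose_spec.2 (fun c hc hc1 l hl hfix y hy => ?_)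
    hw h
  by_contra hne
  refine hf.not_nonTriv_of_gen (fun z hz x => ?_) hf0
  have hd : S.act c z * z⁻¹ ∈ lcs Q 3 := by
    refine mem_lcs_succ_of_layer (mul_mem (S.act_mem_lcs c hz) (inv_mem hz)) fun m hm => ?_
    rw [hm.map_mul _ (S.act_mem_lcs c hz) _ (inv_mem hz), hm.isLam.map_inv hz]
    by_cases hm0 : NonTriv 2 m
    · have hcm : c ∈ S.fixOn 2 m := P.fix_two hl hm ⟨y, hy, hne⟩ hm0 ▸ hfix
      rw [hcm z hz, mul_inv_cancel]
    · rw [eq_one_of_not_nonTriv hm0 hz, eq_one_of_not_nonTriv hm0 (S.act_mem_lcs c hz), inv_one,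
        one_mul]
  have h1 := S.eq_one_of_fixed (L := hf.pairHom hz)
    (fun u hu => hf.kills _ (P.comm_two_U hz hu)) hc1 fun y => ?_
  · exact DFunLike.congr_fun h1 x
  · have h3 : f ⁅S.act c z, S.act c y⁆ = f ⁅z, y⁆ := by
      rw [← map_commutatorElement]; exact hc _ (comm_mem_succ hz y)
    rw [show S.act c z = S.act c z * z⁻¹ * z by group,
      hf.pair_mul_left (i := 2) (j := 0) rfl (lcs_le (Nat.le_succ _) hd) hz (mem_lcs_zero _),
      hf.pair_deep_left (i := 3) (j := 0) (by omega) hd (mem_lcs_zero _), one_mul] at h3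
    rw [Layer.pairHom_apply, Layer.pairHom_apply]
    exact h3

/-- The degree bound against a subgroup on which the commutator form is degenerate. -/
theorem nondeg_on {F : Q → ℂˣ} (hF : Layer 2 F) (hF0 : NonTriv 2 F) (T : Subgroup Q)
    (hTU : S.U ≤ T) (hTcomm : ∀ x ∈ T, ∀ y ∈ T, ⁅x, y⁆ ∈ lcs Q 2)
    (hUT : ∀ u ∈ S.U, ∀ y ∈ T, F ⁅u, y⁆ = 1)
    (hcard : T.index = (lcs Q 2).relIndex (lcs Q 1)) {x : Q} (hx : x ∈ T)
    (h : ∀ y ∈ T, F ⁅x, y⁆ = 1) : x ∈ S.U := by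
  classical
  obtain ⟨χ, hχ⟩ := hF.isLam.exists_over
  obtain ⟨-, -, hsq⟩ := P.layerTwo_char hF hF0 hχ
  let X : Subgroup T :=
    { carrier := {a | ∀ y ∈ T, F ⁅(a : Q), y⁆ = 1}
      one_mem' := fun y _ => by simp [hF.isLam.map_one]
      mul_mem' := fun {a b} ha hb y hy => by
        rw [Subgroup.coe_mul, hF.isLam.comm_mul_left (hTcomm _ a.2 _ hy) (hTcomm _ b.2 _ hy),
          ha y hy, hb y hy, one_mul]
      inv_mem' := fun {a} ha y hy => by
        rw [Subgroup.coe_inv, hF.isLam.comm_inv_left (hTcomm _ a.2 _ hy), ha y hy, inv_one] }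
  haveI : T.Normal := ⟨fun a ha g => by
    have h := mul_mem (hTU (S.commutator_le_U
      (Subgroup.commutator_mem_commutator (Subgroup.mem_top g) (Subgroup.mem_top a)))) ha
    rwa [show ⁅g, a⁆ * a = g * a * g⁻¹ by simp only [commutatorElement_def]; group] at h⟩
  haveI := Fintype.ofFinite T
  haveI := Fintype.ofFinite X
  obtain ⟨θ, hθ⟩ := exists_irr_constituent_res T χ.2
  have h1 : ((θ : T → ℂ) 1).re ^ 2 ≤ (X.index : ℝ) := by
    refine sq_degree_le_of_central X θ.2 fun a ha y => ?_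
    refine apply_eq_of_constituent (χ.2.isCharacter.comp T.subtype) θ.2 hθ ?_
    show (χ : Q → ℂ) _ = (χ : Q → ℂ) ((1 : T) : Q)
    simp only [Subgroup.coe_mul, Subgroup.coe_inv, OneMemClass.coe_one, ← commutatorElement_def,
      map_commutatorElement, Subgroup.coe_subtype]
    rw [hF.isLam.over_apply hχ (hTcomm _ a.2 _ y.2), ha y y.2, Units.val_one, mul_one]
  have h2 : ((χ : Q → ℂ) 1).re ≤ (T.index : ℝ) * ((θ : T → ℂ) 1).re := by
    have h3 := degree_le_of_constituent χ.2 (isCharacter_indFun T θ.2.isCharacter) (by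
      rw [classInner_indFun T _ χ.2.isClassFunction, ← classInner_conj_symm]
      exact (map_ne_zero _).2 hθ)
    rwa [indFun_apply_one, Complex.mul_re, Complex.natCast_re, Complex.natCast_im, zero_mul,
      sub_zero] at h3
  rw [θ.2.apply_one_eq_charDegree, Complex.natCast_re] at h1 h2
  rw [χ.2.apply_one_eq_charDegree, Complex.natCast_re] at h2
  have h1' : charDegree (θ : T → ℂ) ^ 2 ≤ X.index := by exact_mod_cast h1
  have h2' : charDegree (χ : Q → ℂ) ≤ T.index * charDegree (θ : T → ℂ) := by exact_mod_cast h2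
  set l := (lcs Q 2).relIndex (lcs Q 1)
  have hTpos : 0 < T.index := Nat.pos_of_ne_zero Subgroup.index_ne_zero_of_finite
  have h4 : S.U.relIndex T * (T.index * T.index) ≤ X.index * (T.index * T.index) := by
    calc S.U.relIndex T * (T.index * T.index) = S.U.index * l := by
          rw [← hcard, ← Subgroup.relIndex_mul_index hTU, mul_assoc]
      _ = charDegree (χ : Q → ℂ) ^ 2 := hsq.symm
      _ ≤ (T.index * charDegree (θ : T → ℂ)) ^ 2 := Nat.pow_le_pow_left h2' 2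
      _ ≤ X.index * (T.index * T.index) := by
          rw [mul_pow, sq T.index, mul_comm]
          exact Nat.mul_le_mul_right _ h1'
  have h5 : S.U.relIndex T ≤ X.index := Nat.le_of_mul_le_mul_right h4 (Nat.mul_pos hTpos hTpos)
  have hle : S.U.subgroupOf T ≤ X := fun a ha y hy => hUT _ (Subgroup.mem_subgroupOf.1 ha) y hy
  have heq : S.U.subgroupOf T = X := by
    refine le_antisymm hle (Subgroup.relIndex_eq_one.1 ?_)
    have h6 := Subgroup.relIndex_mul_index hle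
    have h7 : X.index ≠ 0 := Subgroup.index_ne_zero_of_finite
    have h8 : 0 < (S.U.subgroupOf T).relIndex X :=
      Nat.pos_of_ne_zero fun e => by
        rw [e, zero_mul] at h6
        exact Subgroup.index_ne_zero_of_finite h6.symm
    have h9 : (S.U.subgroupOf T).relIndex X * X.index ≤ 1 * X.index := by
      rw [h6, one_mul]
      exact h5
    have := Nat.le_of_mul_le_mul_right h9 (Nat.pos_of_ne_zero h7)
    omega
  have : (⟨x, hx⟩ : T) ∈ X := fun y hy => h y hy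
  rw [← heq] at this
  exact Subgroup.mem_subgroupOf.1 this

omit P

/-- A representative modulo `U`. -/
def mV (S : Sys Q C) (x : Q) : Additive (Q ⧸ S.U) := Additive.ofMul (x : Q ⧸ S.U)

omit [Fintype Q] in
/-- A representative in the second layer. -/
def mL (z : ↥(lcs Q 1)) : Additive (LQ Q 1) := Additive.ofMul (z : LQ Q 1)

omit [Fintype Q] in
/-- A representative in the third layer. -/
def mW (z : ↥(lcs Q 2)) : Additive (LQ Q 2) := Additive.ofMul (z : LQ Q 2)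

/-- A commutator in the second layer. -/
def cL (x y : Q) : ↥(lcs Q 1) := ⟨⁅x, y⁆, comm_mem_one x y⟩

/-- A commutator in the third layer. -/
def cW (z : ↥(lcs Q 1)) (y : Q) : ↥(lcs Q 2) := ⟨⁅(z : Q), y⁆, comm_mem_succ z.2 y⟩

theorem sV (a : Additive (Q ⧸ S.U)) : ∃ x, mV S x = a := QuotientGroup.mk_surjective a.toMul

theorem sL (a : Additive (LQ Q 1)) : ∃ x, mL x = a := QuotientGroup.mk_surjective a.toMul

theorem sW (a : Additive (LQ Q 2)) : ∃ x, mW x = a := QuotientGroup.mk_surjective a.toMul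

theorem zV (x : Q) : mV S x = 0 ↔ x ∈ S.U := QuotientGroup.eq_one_iff x

theorem zL (z : ↥(lcs Q 1)) : mL z = 0 ↔ (z : Q) ∈ lcs Q 2 :=
  (QuotientGroup.eq_one_iff z).trans Subgroup.mem_subgroupOf

theorem zW (z : ↥(lcs Q 2)) : mW z = 0 ↔ (z : Q) ∈ lcs Q 3 :=
  (QuotientGroup.eq_one_iff z).trans Subgroup.mem_subgroupOf

theorem addL (a b : ↥(lcs Q 1)) : mL (a * b) = mL a + mL b := rfl

theorem addW (a b : ↥(lcs Q 2)) : mW (a * b) = mW a + mW b := rfl

theorem eqL {a b : ↥(lcs Q 1)} (h : ∀ h : Q → ℂˣ, Layer 1 h → h a = h b) : mL a = mL b := by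
  refine sub_eq_zero.1 ?_
  rw [show mL a - mL b = mL (a * b⁻¹) by rw [sub_eq_add_neg]; rfl, zL]
  exact mem_lcs_succ_of_layer (a * b⁻¹ : ↥(lcs Q 1)).2 fun m hm => by
    rw [Subgroup.coe_mul, Subgroup.coe_inv, hm.map_mul _ a.2 _ (inv_mem b.2), hm.isLam.map_inv b.2,
      h m hm, mul_inv_cancel]

theorem eqW {a b : ↥(lcs Q 2)} (h : ∀ h : Q → ℂˣ, Layer 2 h → h a = h b) : mW a = mW b := by
  refine sub_eq_zero.1 ?_
  rw [show mW a - mW b = mW (a * b⁻¹) by rw [sub_eq_add_neg]; rfl, zW]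
  exact mem_lcs_succ_of_layer (a * b⁻¹ : ↥(lcs Q 2)).2 fun m hm => by
    rw [Subgroup.coe_mul, Subgroup.coe_inv, hm.map_mul _ a.2 _ (inv_mem b.2), hm.isLam.map_inv b.2,
      h m hm, mul_inv_cancel]

include P

section Pairings

variable [Fact S.q.Prime] [Module (ZMod S.q) (Additive (Q ⧸ S.U))]
  [Module (ZMod S.q) (Additive (LQ Q 1))] [Module (ZMod S.q) (Additive (LQ Q 2))]

/-- The pairing into the second layer. -/
noncomputable def bb :
    Additive (Q ⧸ S.U) →ₗ[ZMod S.q] Additive (Q ⧸ S.U) →ₗ[ZMod S.q] Additive (LQ Q 1) :=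
  bilin (q := S.q) (X' := S.U) (Y' := S.U)
    (fun x y => mL (cL x y))
    (fun a b y => (eqL (a := cL (a * b) y) (b := cL a y * cL b y) fun h hh => by
      show h ⁅a * b, y⁆ = h (⁅a, y⁆ * ⁅b, y⁆)
      rw [hh.pair_mul_left (i := 0) (j := 0) rfl (mem_lcs_zero a) (mem_lcs_zero b) (mem_lcs_zero y),
        hh.map_mul _ (comm_mem_one a y) _ (comm_mem_one b y)]).trans (addL _ _))
    (fun x a b => (eqL (a := cL x (a * b)) (b := cL x a * cL x b) fun h hh => by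
      show h ⁅x, a * b⁆ = h (⁅x, a⁆ * ⁅x, b⁆)
      rw [hh.pair_mul_right (i := 0) (j := 0) rfl (mem_lcs_zero x) (mem_lcs_zero a) (mem_lcs_zero b),
        hh.map_mul _ (comm_mem_one x a) _ (comm_mem_one x b)]).trans (addL _ _))
    (fun x hx y => (zL _).2 (P.comm_U x hx y)) (fun x y hy => (zL _).2 (P.comm_one_mem x y hy))

/-- The pairing into the third layer. -/
noncomputable def gg :
    Additive (LQ Q 1) →ₗ[ZMod S.q] Additive (Q ⧸ S.U) →ₗ[ZMod S.q] Additive (LQ Q 2) :=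
  bilin (q := S.q) (X' := (lcs Q 2).subgroupOf (lcs Q 1)) (Y' := S.U)
    (fun z y => mW (cW z y))
    (fun a b y => (eqW (a := cW (a * b) y) (b := cW a y * cW b y) fun h hh => by
      show h ⁅(a : Q) * b, y⁆ = h (⁅(a : Q), y⁆ * ⁅(b : Q), y⁆)
      rw [hh.pair_mul_left (i := 1) (j := 0) rfl a.2 b.2 (mem_lcs_zero y),
        hh.map_mul _ (comm_mem_succ a.2 y) _ (comm_mem_succ b.2 y)]).trans (addW _ _))
    (fun x a b => (eqW (a := cW x (a * b)) (b := cW x a * cW x b) fun h hh => by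
      show h ⁅(x : Q), a * b⁆ = h (⁅(x : Q), a⁆ * ⁅(x : Q), b⁆)
      rw [hh.pair_mul_right (i := 1) (j := 0) rfl x.2 (mem_lcs_zero a) (mem_lcs_zero b),
        hh.map_mul _ (comm_mem_succ x.2 a) _ (comm_mem_succ x.2 b)]).trans (addW _ _))
    (fun z hz y => (zW _).2 (comm_mem_succ (Subgroup.mem_subgroupOf.1 hz) y))
    (fun z y hy => (zW _).2 (P.comm_one_U z.2 hy))

theorem hb (x y : Q) : P.bb (mV S x) (mV S y) = mL (cL x y) := rfl

theorem hg (z : ↥(lcs Q 1)) (y : Q) : P.gg (mL z) (mV S y) = mW (cW z y) := rfl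


theorem dualL (φ : Module.Dual (ZMod S.q) (Additive (LQ Q 1))) (hφ : φ ≠ 0) :
    ∃ F : Q → ℂˣ, Layer 1 F ∧ NonTriv 1 F ∧ ∀ z : ↥(lcs Q 1), F z = expK (φ (mL z)) := by
  classical
  let F : Q → ℂˣ := fun z => if hz : z ∈ lcs Q 1 then expK (φ (mL ⟨z, hz⟩)) else 1
  have hF : ∀ z : ↥(lcs Q 1), F z = expK (φ (mL z)) := fun z => dif_pos z.2
  refine ⟨F, ⟨fun a ha b hb => ?_, fun a ha => ?_⟩, ?_, hF⟩
  · rw [show a * b = ((⟨a, ha⟩ * ⟨b, hb⟩ : ↥(lcs Q 1)) : Q) from rfl, hF, addL, map_add, expK_add, ← hF, ← hF]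
  · rw [hF ⟨a, lcs_le (Nat.le_succ _) ha⟩, (zL _).2 ha, map_zero, expK_zero]
  · by_contra h
    refine hφ (LinearMap.ext fun a => ?_)
    obtain ⟨z, rfl⟩ := sL a
    exact expK_eq_one ((hF z).symm.trans (eq_one_of_not_nonTriv h z.2))

theorem dualW (φ : Module.Dual (ZMod S.q) (Additive (LQ Q 2))) (hφ : φ ≠ 0) :
    ∃ F : Q → ℂˣ, Layer 2 F ∧ NonTriv 2 F ∧ ∀ z : ↥(lcs Q 2), F z = expK (φ (mW z)) := by
  classical
  let F : Q → ℂˣ := fun z => if hz : z ∈ lcs Q 2 then expK (φ (mW ⟨z, hz⟩)) else 1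
  have hF : ∀ z : ↥(lcs Q 2), F z = expK (φ (mW z)) := fun z => dif_pos z.2
  refine ⟨F, ⟨fun a ha b hb => ?_, fun a ha => ?_⟩, ?_, hF⟩
  · rw [show a * b = ((⟨a, ha⟩ * ⟨b, hb⟩ : ↥(lcs Q 2)) : Q) from rfl, hF, addW, map_add, expK_add, ← hF, ← hF]
  · rw [hF ⟨a, lcs_le (Nat.le_succ _) ha⟩, (zW _).2 ha, map_zero, expK_zero]
  · by_contra h
    refine hφ (LinearMap.ext fun a => ?_)
    obtain ⟨z, rfl⟩ := sW a
    exact expK_eq_one ((hF z).symm.trans (eq_one_of_not_nonTriv h z.2))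

/-- The members have small spaces of functions. -/
theorem members_le (M : Submodule (ZMod S.q) (Additive (Q ⧸ S.U)))
    (Ω : Submodule (ZMod S.q) (Module.Dual (ZMod S.q) (Additive (LQ Q 2))))
    (hΩ : ∀ φ ∈ Ω, φ ≠ 0 → ∀ x, x ∈ M ↔ ∀ z, φ (P.gg z x) = 0) :
    2 * Module.finrank (ZMod S.q) Ω ≤ Module.finrank (ZMod S.q) M := by
  classical
  by_cases hΩ0 : Ω = ⊥
  · rw [hΩ0, finrank_bot, mul_zero]
    exact Nat.zero_le _
  haveI : Nontrivial Ω := Submodule.nontrivial_iff_ne_bot.2 hΩ0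
  let T : Subgroup Q :=
    { carrier := {x | mV S x ∈ M}
      one_mem' := M.zero_mem
      mul_mem' := fun ha hb => M.add_mem ha hb
      inv_mem' := fun ha => M.neg_mem ha }
  have hTU : S.U ≤ T := fun x hx => by
    show mV S x ∈ M
    rw [(zV x).2 hx]
    exact M.zero_mem
  have hmemT : ∀ φ ∈ Ω, φ ≠ 0 → ∀ F : Q → ℂˣ, (∀ z : ↥(lcs Q 2), F z = expK (φ (mW z))) →
      ∀ z ∈ lcs Q 1, ∀ x ∈ T, F ⁅z, x⁆ = 1 := by
    intro φ hφ hφ0 F hFe z hz x hx
    rw [show ⁅z, x⁆ = (cW ⟨z, hz⟩ x : Q) from rfl, hFe, ← P.hg, (hΩ φ hφ hφ0 _).1 hx, expK_zero]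
  obtain ⟨⟨φ₀, hφ₀⟩, hne⟩ := exists_ne (0 : Ω)
  have hφ₀0 : φ₀ ≠ 0 := fun e => hne (Subtype.ext e)
  obtain ⟨F₀, hF₀, hF₀0, hF₀e⟩ := P.dualW φ₀ hφ₀0
  have hTcomm : ∀ x ∈ T, ∀ y ∈ T, ⁅x, y⁆ ∈ lcs Q 2 := by
    intro x hx y hy
    refine P.ker_one hF₀ hF₀0 (comm_mem_one x y) fun c => ?_
    have hj := hF₀.jacobi (i := 0) (j := 0) (l := 0) rfl (mem_lcs_zero x) (mem_lcs_zero y)
      (mem_lcs_zero c)
    rwa [hmemT φ₀ hφ₀ hφ₀0 F₀ hF₀e _ (comm_mem_one y c) x hx,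
      hmemT φ₀ hφ₀ hφ₀0 F₀ hF₀e _ (comm_mem_one c x) y hy, mul_one, mul_one] at hj
  -- `U` pairs trivially with the members
  have hUT : ∀ φ ∈ Ω, ∀ u, ∀ hu : u ∈ S.U, ∀ y ∈ T,
      φ (mW ⟨⁅u, y⁆, P.comm_U u hu y⟩) = 0 := by
    intro φ hφ u hu y hy
    by_cases hφ0 : φ = 0
    · simp [hφ0]
    obtain ⟨F, hF, hF0, hFe⟩ := P.dualW φ hφ0
    obtain ⟨z, hz, hzR⟩ := P.exists_mul_mem_radTwo hF hF0 hu
    refine expK_eq_one ?_
    rw [← hFe]
    show F ⁅u, y⁆ = 1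
    rw [show u = u * z⁻¹ * z by group,
      hF.isLam.comm_mul_left (P.comm_U _ hzR.1 y) (comm_mem_succ hz y), hzR.2 y,
      hmemT φ hφ hφ0 F hFe z hz y hy, one_mul]
  have hadd : ∀ (φ : Module.Dual (ZMod S.q) (Additive (LQ Q 2))), ∀ a b c : ↥(lcs Q 2),
      (∀ h : Q → ℂˣ, Layer 2 h → h a = h b * h c) → φ (mW a) = φ (mW b) + φ (mW c) := by
    intro φ a b c h
    rw [← map_add, ← addW]
    refine congrArg φ (eqW fun m hm => ?_)
    rw [h m hm, Subgroup.coe_mul, hm.map_mul _ b.2 _ c.2]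
  -- the commutator form on the member
  let U' := S.U.subgroupOf T
  have hUn : U'.Normal := S.normal_U.subgroupOf T
  haveI : IsMulCommutative (↥T ⧸ U') := ⟨⟨fun a b => by
    obtain ⟨a, rfl⟩ := QuotientGroup.mk_surjective a
    obtain ⟨b, rfl⟩ := QuotientGroup.mk_surjective b
    refine QuotientGroup.eq.2 (Subgroup.mem_subgroupOf.2 (S.commutator_le_U ?_))
    show ((a : Q) * b)⁻¹ * ((b : Q) * a) ∈ _
    rw [show ((a : Q) * b)⁻¹ * ((b : Q) * a) = ⁅(b : Q)⁻¹, (a : Q)⁻¹⁆ by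
      simp only [commutatorElement_def]; group]
    exact Subgroup.commutator_mem_commutator (Subgroup.mem_top _) (Subgroup.mem_top _)⟩⟩
  have hqT : ∀ x : Additive (↥T ⧸ U'), S.q • x = 0 := fun x => by
    obtain ⟨a, ha⟩ := QuotientGroup.mk_surjective x.toMul
    refine Additive.toMul.injective ?_
    show x.toMul ^ S.q = 1
    rw [← ha]
    exact (QuotientGroup.eq_one_iff _).2 (Subgroup.mem_subgroupOf.2 (P.pow_mem_U a))
  let hqTM := AddCommGroup.zmodModule hqT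
  haveI : Module (ZMod S.q) (Additive (↥T ⧸ U')) := hqTM
  let BB : ↥T → ↥T → Module.Dual (ZMod S.q) Ω := fun x y =>
    (Module.Dual.eval (ZMod S.q) (Additive (LQ Q 2))
      (mW ⟨⁅(x : Q), (y : Q)⁆, hTcomm _ x.2 _ y.2⟩)).comp Ω.subtype
  have hBB : ∀ x y (φ : Ω), BB x y φ = (φ : Module.Dual (ZMod S.q) (Additive (LQ Q 2)))
      (mW ⟨⁅(x : Q), (y : Q)⁆, hTcomm _ x.2 _ y.2⟩) := fun _ _ _ => rfl
  let B' := bilin (q := S.q) (X' := U') (Y' := U') BB
    (fun a b y => LinearMap.ext fun φ => by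
      rw [LinearMap.add_apply, hBB, hBB, hBB]
      exact hadd _ _ _ _ fun h hh =>
        hh.isLam.comm_mul_left (hTcomm _ a.2 _ y.2) (hTcomm _ b.2 _ y.2))
    (fun x a b => LinearMap.ext fun φ => by
      rw [LinearMap.add_apply, hBB, hBB, hBB]
      exact hadd _ _ _ _ fun h hh =>
        hh.isLam.comm_mul_right (hTcomm _ x.2 _ a.2) (hTcomm _ x.2 _ b.2))
    (fun x hx y => LinearMap.ext fun φ => hUT φ φ.2 x (Subgroup.mem_subgroupOf.1 hx) y y.2)
    (fun x y hy => LinearMap.ext fun φ => by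
      rw [hBB, LinearMap.zero_apply]
      have e : (⟨⁅(x : Q), (y : Q)⁆, hTcomm _ x.2 _ y.2⟩ : ↥(lcs Q 2)) =
          (⟨⁅(y : Q), (x : Q)⁆, hTcomm _ y.2 _ x.2⟩)⁻¹ :=
        Subtype.ext (commutatorElement_inv _ _).symm
      rw [e, show mW ((⟨⁅(y : Q), (x : Q)⁆, hTcomm _ y.2 _ x.2⟩ : ↥(lcs Q 2)))⁻¹ =
        -mW ⟨⁅(y : Q), (x : Q)⁆, hTcomm _ y.2 _ x.2⟩ from rfl, map_neg,
        hUT φ φ.2 y (Subgroup.mem_subgroupOf.1 hy) x x.2, neg_zero])
  let ι : Additive (↥T ⧸ U') →ₗ[ZMod S.q] Additive (Q ⧸ S.U) :=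
    (MonoidHom.toAdditive (QuotientGroup.map U' S.U T.subtype
      (fun a ha => Subgroup.mem_subgroupOf.1 ha))).toZModLinearMap S.q
  have hι : ∀ a : T, ι (Additive.ofMul (a : ↥T ⧸ U')) = mV S a := fun a => rfl
  have sT : ∀ a : Additive (↥T ⧸ U'), ∃ x : T, Additive.ofMul (x : ↥T ⧸ U') = a :=
    fun a => QuotientGroup.mk_surjective a.toMul
  have hιinj : Function.Injective ι := by
    refine (injective_iff_map_eq_zero ι).2 fun a ha => ?_
    obtain ⟨x, rfl⟩ := sT a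
    rw [hι, zV] at ha
    exact (QuotientGroup.eq_one_iff _).2 (Subgroup.mem_subgroupOf.2 ha)
  have hιrange : LinearMap.range ι = M := by
    ext a
    constructor
    · rintro ⟨b, rfl⟩
      obtain ⟨x, rfl⟩ := sT b
      exact x.2
    · intro ha
      obtain ⟨x, rfl⟩ := sV a
      exact ⟨Additive.ofMul ((⟨x, ha⟩ : T) : ↥T ⧸ U'), rfl⟩
  have hdimM : Module.finrank (ZMod S.q) (Additive (↥T ⧸ U')) = Module.finrank (ZMod S.q) M := by
    rw [← hιrange, LinearMap.finrank_range_of_inj hιinj]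
  haveI : Module.Finite (ZMod S.q) (Additive (↥T ⧸ U')) := Module.Finite.of_finite
  rw [← hdimM, ← Subspace.dual_finrank_eq (K := ZMod S.q) (V := Ω)]
  -- the member has the index of the second layer
  have hidx : T.index = (lcs Q 2).relIndex (lcs Q 1) := by
    have hM : M = LinearMap.ker (P.gg.compr₂ φ₀).flip := by
      ext a
      rw [hΩ φ₀ hφ₀ hφ₀0 a]
      exact ⟨fun h => LinearMap.ext fun z => h z, fun h z => LinearMap.congr_fun h z⟩
    have h1 := LieAlg.finrank_rightKer (P.gg.compr₂ φ₀) fun a ha => by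
      obtain ⟨z, rfl⟩ := sL a
      rw [zL]
      refine P.ker_one hF₀ hF₀0 z.2 fun y => ?_
      rw [show ⁅(z : Q), y⁆ = (cW z y : Q) from rfl, hF₀e, ← P.hg]
      rw [show φ₀ (P.gg (mL z) (mV S y)) = 0 from ha (mV S y), expK_zero]
    rw [← hM, ← hdimM] at h1
    have hc : ∀ (A : Type u) [AddCommGroup A] [Module (ZMod S.q) A]
        [Module.Finite (ZMod S.q) A], Nat.card A = S.q ^ Module.finrank (ZMod S.q) A :=
      fun A _ _ _ => by rw [Module.natCard_eq_pow_finrank (K := ZMod S.q), Nat.card_zmod]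
    have c1 : Nat.card (Additive (↥T ⧸ U')) = S.U.relIndex T :=
      (Nat.card_congr Additive.toMul).trans rfl
    have c2 : Nat.card (Additive (LQ Q 1)) = (lcs Q 2).relIndex (lcs Q 1) :=
      (Nat.card_congr Additive.toMul).trans rfl
    have c3 : Nat.card (Additive (Q ⧸ S.U)) = S.U.index :=
      (Nat.card_congr Additive.toMul).trans rfl
    rw [hc] at c1 c2 c3
    have h2 : S.U.relIndex T * (lcs Q 2).relIndex (lcs Q 1) = S.U.relIndex T * T.index := by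
      rw [Subgroup.relIndex_mul_index hTU, ← c1, ← c2, ← c3, ← pow_add, h1]
    exact (mul_left_cancel₀ (c1 ▸ pow_ne_zero _ S.hq.ne_zero) h2).symm
  by_cases hnt : Nontrivial (Additive (↥T ⧸ U'))
  swap
  · exfalso
    obtain ⟨x, hx⟩ : ∃ x, x ∉ S.U := by
      by_contra hh
      push Not at hh
      obtain ⟨g, hg, w, hw, hgw⟩ := P.layer
      refine hgw (eq_one_of_not_nonTriv (hg.not_nonTriv_of_gen fun z _ y => ?_) hw)
      exact hg.kills _ (P.comm_U z (hh z) y)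
    have hT : T = S.U := le_antisymm (fun a ha => by
      by_contra haU
      exact hnt ⟨⟨Additive.ofMul ((⟨a, ha⟩ : T) : ↥T ⧸ U'), 0, fun e =>
        haU (Subgroup.mem_subgroupOf.1 ((QuotientGroup.eq_one_iff _).1 e))⟩⟩) hTU
    obtain ⟨g, hg, hg0⟩ := P.layer
    obtain ⟨χ, hχ⟩ := hg.isLam.exists_over
    obtain ⟨-, -, hsq, -⟩ := S.layerOne_char hg hg0 hχ
    obtain ⟨η, hη⟩ := hF₀.isLam.exists_over
    obtain ⟨-, -, hsq'⟩ := P.layerTwo_char hF₀ hF₀0 hη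
    haveI := Fintype.ofFinite S.U
    obtain ⟨θ, hθ⟩ := exists_irr_constituent_res S.U η.2
    have h1 : ((θ : S.U → ℂ) 1).re ^ 2 ≤ ((⊤ : Subgroup S.U).index : ℝ) := by
      haveI := Fintype.ofFinite (⊤ : Subgroup S.U)
      refine sq_degree_le_of_central _ θ.2 fun a _ y => ?_
      refine apply_eq_of_constituent (η.2.isCharacter.comp S.U.subtype) θ.2 hθ ?_
      show (η : Q → ℂ) _ = (η : Q → ℂ) ((1 : S.U) : Q)
      simp only [Subgroup.coe_mul, Subgroup.coe_inv, OneMemClass.coe_one, ← commutatorElement_def,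
  map_commutatorElement, Subgroup.coe_subtype]
      rw [hF₀.isLam.over_apply hη (P.comm_U _ a.2 _), P.UU hF₀ a.2 y.2, Units.val_one, mul_one]
    have h2 := degree_le_of_constituent η.2 (isCharacter_indFun S.U θ.2.isCharacter) (by
      rw [classInner_indFun S.U _ η.2.isClassFunction, ← classInner_conj_symm]
      exact (map_ne_zero _).2 hθ)
    rw [indFun_apply_one, Complex.mul_re, Complex.natCast_re, Complex.natCast_im, zero_mul,
      sub_zero, θ.2.apply_one_eq_charDegree, η.2.apply_one_eq_charDegree, Complex.natCast_re,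
      Complex.natCast_re] at h2
    rw [θ.2.apply_one_eq_charDegree, Complex.natCast_re, Subgroup.index_top, Nat.cast_one] at h1
    have h1' : charDegree (θ : S.U → ℂ) ^ 2 ≤ 1 := by exact_mod_cast h1
    have h2' : charDegree (η : Q → ℂ) ≤ S.U.index * charDegree (θ : S.U → ℂ) := by exact_mod_cast h2
    have hθ1 : charDegree (θ : S.U → ℂ) ≤ 1 :=
      (Nat.le_self_pow two_ne_zero _).trans h1'
    rw [hT] at hidx
    have h3 : charDegree (η : Q → ℂ) ^ 2 ≤ S.U.index ^ 2 :=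
      Nat.pow_le_pow_left (h2'.trans ((Nat.mul_le_mul_left _ hθ1).trans (mul_one _).le)) 2
    rw [hsq', ← hidx] at h3
    -- the index of `U` is at least twice the second layer
    haveI : Nontrivial (Additive (Q ⧸ S.U)) := ⟨⟨mV S x, 0, fun e => hx ((zV x).1 e)⟩⟩
    have h4 := Forms.two_finrank_le P.bb (fun a => by
        obtain ⟨y, rfl⟩ := sV a
        rw [P.hb, zL]
        simp [cL])
      (fun φ hφ a h => by
        obtain ⟨y, rfl⟩ := sV a
        obtain ⟨F, hF, hF0, hFe⟩ := P.dualL φ hφ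
        rw [zV, ← P.radOne_eq hF hF0]
        intro y'
        rw [show ⁅y, y'⁆ = (cL y y' : Q) from rfl, hFe, ← P.hb, h, expK_zero])
    have c2 : S.q ^ Module.finrank (ZMod S.q) (Additive (LQ Q 1)) = S.U.index := by
      have h := Module.natCard_eq_pow_finrank (K := ZMod S.q) (V := Additive (LQ Q 1))
      rw [Nat.card_zmod] at h
      rw [hidx, ← h]
      exact (Nat.card_congr Additive.toMul).trans rfl
    have c3 : S.q ^ Module.finrank (ZMod S.q) (Additive (Q ⧸ S.U)) = S.U.index := by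
      have h := Module.natCard_eq_pow_finrank (K := ZMod S.q) (V := Additive (Q ⧸ S.U))
      rw [Nat.card_zmod] at h
      rw [← h]
      exact (Nat.card_congr Additive.toMul).trans rfl
    have h5 := Nat.pow_right_injective S.hq.two_le (c2.trans c3.symm)
    have h6 : 0 < Module.finrank (ZMod S.q) (Additive (Q ⧸ S.U)) := Module.finrank_pos
    omega
  refine Forms.two_finrank_le B' (fun a => ?_) fun Φ hΦ a hka => ?_
  · obtain ⟨x, rfl⟩ := sT a
    refine LinearMap.ext fun φ => ?_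
    show BB x x φ = 0
    rw [hBB, show mW ⟨⁅(x : Q), (x : Q)⁆, hTcomm _ x.2 _ x.2⟩ = 0 from
      (zW _).2 (by simp), map_zero]
  · obtain ⟨φ, rfl⟩ := (Module.evalEquiv (ZMod S.q) Ω).surjective Φ
    have hφ0 : (φ : Module.Dual (ZMod S.q) (Additive (LQ Q 2))) ≠ 0 := fun e =>
      hΦ (by rw [show φ = 0 from Subtype.ext e, map_zero])
    obtain ⟨F, hF, hF0, hFe⟩ := P.dualW _ hφ0
    obtain ⟨x, rfl⟩ := sT a
    refine (QuotientGroup.eq_one_iff _).2 (Subgroup.mem_subgroupOf.2 ?_)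
    refine P.nondeg_on hF hF0 T hTU hTcomm ?_ hidx x.2 ?_
    · intro u hu y hy
      rw [show ⁅u, y⁆ = ((⟨⁅u, y⁆, P.comm_U u hu y⟩ : ↥(lcs Q 2)) : Q) from rfl, hFe,
        hUT _ φ.2 u hu y hy, expK_zero]
    · intro y hy
      have h1 : BB x ⟨y, hy⟩ φ = 0 := hka (Additive.ofMul ((⟨y, hy⟩ : T) : ↥T ⧸ U'))
      rw [hBB] at h1
      rw [show ⁅(x : Q), y⁆ = ((⟨⁅(x : Q), y⁆, hTcomm _ x.2 _ hy⟩ : ↥(lcs Q 2)) : Q) from rfl,
        hFe, h1, expK_zero]

theorem bb_alt (a : Additive (Q ⧸ S.U)) :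
    P.bb a a = 0 := by
  obtain ⟨x, rfl⟩ := sV a
  rw [P.hb, zL]
  simp [cL]

theorem gg_jacobi (a b c : Additive (Q ⧸ S.U)) :
    P.gg (P.bb a b) c + P.gg (P.bb b c) a + P.gg (P.bb c a) b = 0 := by
  obtain ⟨x, rfl⟩ := sV a
  obtain ⟨y, rfl⟩ := sV b
  obtain ⟨z, rfl⟩ := sV c
  rw [P.hb, P.hb, P.hb, P.hg, P.hg, P.hg, ← addW, ← addW, zW]
  refine mem_lcs_succ_of_layer (cW (cL x y) z * cW (cL y z) x * cW (cL z x) y).2 fun h hh => ?_
  rw [Subgroup.coe_mul, Subgroup.coe_mul, hh.map_mul _ (mul_mem (cW (cL x y) z).2 (cW (cL y z) x).2) _ (cW (cL z x) y).2,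
    hh.map_mul _ (cW (cL x y) z).2 _ (cW (cL y z) x).2]
  exact hh.jacobi (i := 0) (j := 0) (l := 0) rfl (mem_lcs_zero x) (mem_lcs_zero y) (mem_lcs_zero z)

theorem bb_nondeg (φ : Module.Dual (ZMod S.q) (Additive (LQ Q 1))) (hφ : φ ≠ 0)
    (a : Additive (Q ⧸ S.U)) (h : ∀ y, φ (P.bb a y) = 0) :
    a = 0 := by
  obtain ⟨x, rfl⟩ := sV a
  obtain ⟨F, hF, hF0, hFe⟩ := P.dualL φ hφ
  rw [zV, ← P.radOne_eq hF hF0]
  intro y
  rw [show ⁅x, y⁆ = (cL x y : Q) from rfl, hFe, ← P.hb, h, expK_zero]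

theorem gg_leftKer (φ : Module.Dual (ZMod S.q) (Additive (LQ Q 2))) (hφ : φ ≠ 0)
    (a : Additive (LQ Q 1)) (h : ∀ x, φ (P.gg a x) = 0) :
    a = 0 := by
  obtain ⟨z, rfl⟩ := sL a
  obtain ⟨F, hF, hF0, hFe⟩ := P.dualW φ hφ
  rw [zL]
  refine P.ker_one hF hF0 z.2 fun y => ?_
  rw [show ⁅(z : Q), y⁆ = (cW z y : Q) from rfl, hFe, ← P.hg, h, expK_zero]

variable {f : Q → ℂˣ} (hf : Layer 3 f)

include hf

theorem pow_tau {w : Q} (hw : w ∈ lcs Q 2) (y : Q) : f ⁅w, y⁆ ^ S.q = 1 := by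
  have h : ∀ n : ℕ, f ⁅w, y ^ n⁆ = f ⁅w, y⁆ ^ n := by
    intro n
    induction n with
    | zero => simp [hf.isLam.map_one]
    | succ n ih =>
      rw [pow_succ, hf.pair_mul_right (i := 2) (j := 0) rfl hw (mem_lcs_zero _) (mem_lcs_zero y),
        ih, pow_succ]
  rw [← h]
  exact hf.kills _ (P.comm_two_U hw (P.pow_mem_U y))

theorem pow_two {a : Q} (ha : a ∈ lcs Q 1) {b : Q} (hb : b ∈ lcs Q 1) : f ⁅a, b⁆ ^ S.q = 1 := by
  have h : ∀ n : ℕ, f ⁅a ^ n, b⁆ = f ⁅a, b⁆ ^ n := by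
    intro n
    induction n with
    | zero => simp [hf.isLam.map_one]
    | succ n ih =>
      rw [pow_succ, hf.pair_mul_left (i := 1) (j := 1) rfl (pow_mem ha n) ha hb, ih, pow_succ]
  rw [← h]
  exact hf.pair_deep_left (i := 2) (j := 1) (by omega) (P.pow_mem_two ha) hb

/-- The pairing into the fourth layer. -/
noncomputable def tt :
    Additive (LQ Q 2) →ₗ[ZMod S.q] Additive (Q ⧸ S.U) →ₗ[ZMod S.q] ZMod S.q :=
  bilin (q := S.q) (X' := (lcs Q 3).subgroupOf (lcs Q 2)) (Y' := S.U)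
    (fun w y => logK (q := S.q) (f ⁅(w : Q), y⁆))
    (fun a b y => by
      rw [Subgroup.coe_mul, hf.pair_mul_left (i := 2) (j := 0) rfl a.2 b.2 (mem_lcs_zero y),
        logK_mul (P.pow_tau hf a.2 y) (P.pow_tau hf b.2 y)])
    (fun x a b => by
      rw [hf.pair_mul_right (i := 2) (j := 0) rfl x.2 (mem_lcs_zero a) (mem_lcs_zero b),
        logK_mul (P.pow_tau hf x.2 a) (P.pow_tau hf x.2 b)])
    (fun w hw y => by
      rw [hf.kills _ (comm_mem_succ (Subgroup.mem_subgroupOf.1 hw) y), logK_one])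
    (fun w y hy => by rw [hf.kills _ (P.comm_two_U w.2 hy), logK_one])

/-- The form on the second layer. -/
noncomputable def PP :
    Additive (LQ Q 1) →ₗ[ZMod S.q] Additive (LQ Q 1) →ₗ[ZMod S.q] ZMod S.q :=
  bilin (q := S.q) (X' := (lcs Q 2).subgroupOf (lcs Q 1))
    (Y' := (lcs Q 2).subgroupOf (lcs Q 1))
    (fun a b => logK (q := S.q) (f ⁅(a : Q), (b : Q)⁆))
    (fun a b y => by
      rw [Subgroup.coe_mul, hf.pair_mul_left (i := 1) (j := 1) rfl a.2 b.2 y.2,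
        logK_mul (P.pow_two hf a.2 y.2) (P.pow_two hf b.2 y.2)])
    (fun x a b => by
      rw [Subgroup.coe_mul, hf.pair_mul_right (i := 1) (j := 1) rfl x.2 a.2 b.2,
        logK_mul (P.pow_two hf x.2 a.2) (P.pow_two hf x.2 b.2)])
    (fun a ha b => by
      rw [hf.pair_deep_left (i := 2) (j := 1) (by omega) (Subgroup.mem_subgroupOf.1 ha) b.2,
        logK_one])
    (fun a b hb => by
      rw [hf.pair_deep_left (i := 1) (j := 2) (by omega) a.2 (Subgroup.mem_subgroupOf.1 hb),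
        logK_one])

theorem ht (w : ↥(lcs Q 2)) (y : Q) :
    P.tt hf (mW w) (mV S y) = logK (f ⁅(w : Q), y⁆) := rfl

theorem hP (a b : ↥(lcs Q 1)) : P.PP hf (mL a) (mL b) = logK (f ⁅(a : Q), (b : Q)⁆) := rfl

theorem PP_alt (a : Additive (LQ Q 1)) :
    P.PP hf a a = 0 := by
  obtain ⟨z, rfl⟩ := sL a
  rw [P.hP hf]
  simp [hf.isLam.map_one, logK_one]

theorem tt_jacobi (a : Additive (LQ Q 1)) (b c : Additive (Q ⧸ S.U)) :
    P.tt hf (P.gg a b) c - P.tt hf (P.gg a c) b = P.PP hf a (P.bb b c) := by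
  obtain ⟨z, rfl⟩ := sL a
  obtain ⟨x, rfl⟩ := sV b
  obtain ⟨y, rfl⟩ := sV c
  rw [P.hg, P.hg, P.ht hf, P.ht hf, P.hb, P.hP hf]
  simp only [cW, cL]
  show logK (f ⁅⁅(z : Q), x⁆, y⁆) - logK (f ⁅⁅(z : Q), y⁆, x⁆) = logK (f ⁅(z : Q), ⁅x, y⁆⁆)
  have hj := hf.jacobi (i := 1) (j := 0) (l := 0) rfl z.2 (mem_lcs_zero x) (mem_lcs_zero y)
  have e1 : f ⁅⁅y, (z : Q)⁆, x⁆ = (f ⁅⁅(z : Q), y⁆, x⁆)⁻¹ := by
    rw [← commutatorElement_inv (z : Q) y, hf.pair_inv_left (i := 2) (j := 0) rfl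
      (comm_mem_succ z.2 y) (mem_lcs_zero x)]
  have e2 : f ⁅⁅x, y⁆, (z : Q)⁆ = (f ⁅(z : Q), ⁅x, y⁆⁆)⁻¹ :=
    hf.isLam.comm_swap (by simpa only [Nat.reduceAdd] using comm_mem_lcs z.2 (comm_mem_one x y))
  rw [e1, e2, mul_inv_eq_one, mul_inv_eq_iff_eq_mul] at hj
  rw [hj, logK_mul (P.pow_tau hf (comm_mem_succ z.2 y) x) (P.pow_two hf z.2 (comm_mem_one x y)),
    add_sub_cancel_left]

theorem tt_ker (hf0 : NonTriv 3 f) (a : Additive (LQ Q 2)) (h : ∀ x, P.tt hf a x = 0) :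
    a = 0 := by
  obtain ⟨w, rfl⟩ := sW a
  rw [zW]
  refine P.ker_two hf hf0 w.2 fun y => eq_one_of_logK (P.pow_tau hf w.2 y) ?_
  rw [← P.ht hf, h]

/-- The pairings of the four layers. -/
theorem data (hf0 : NonTriv 3 f) : LieAlg.Data P.bb P.gg (P.tt hf) (P.PP hf) where
  alt := P.bb_alt
  altP := P.PP_alt hf
  jacobi := P.gg_jacobi
  jacobi' := P.tt_jacobi hf
  nondeg := P.bb_nondeg
  leftKer := P.gg_leftKer
  topKer := P.tt_ker hf hf0
  members := P.members_le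

end Pairings

/-- There is no fourth layer. -/
theorem not_nonTriv_three {f : Q → ℂˣ} (hf : Layer 3 f) : ¬ NonTriv 3 f := by
  classical
  intro hf0
  haveI : Fact S.q.Prime := ⟨S.hq⟩
  have hqV : ∀ x : Q ⧸ S.U, x ^ S.q = 1 := fun x => by
    obtain ⟨x, rfl⟩ := QuotientGroup.mk_surjective x
    exact (QuotientGroup.eq_one_iff _).2 (P.pow_mem_U x)
  have hqL : ∀ z : LQ Q 1, z ^ S.q = 1 := fun z => by
    obtain ⟨z, rfl⟩ := QuotientGroup.mk_surjective z
    exact (QuotientGroup.eq_one_iff _).2 (Subgroup.mem_subgroupOf.2 (P.pow_mem_two z.2))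
  have hqW : ∀ z : LQ Q 2, z ^ S.q = 1 := fun z => by
    obtain ⟨z, rfl⟩ := QuotientGroup.mk_surjective z
    exact (QuotientGroup.eq_one_iff _).2 (Subgroup.mem_subgroupOf.2 (P.pow_mem_three z.2))
  have hqV' : ∀ x : Additive (Q ⧸ S.U), S.q • x = 0 := fun x => Additive.toMul.injective (hqV x.toMul)
  let hqVM := AddCommGroup.zmodModule hqV'
  haveI : Module (ZMod S.q) (Additive (Q ⧸ S.U)) := hqVM
  have hqL' : ∀ x : Additive (LQ Q 1), S.q • x = 0 := fun x => Additive.toMul.injective (hqL x.toMul)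
  let hqLM := AddCommGroup.zmodModule hqL'
  haveI : Module (ZMod S.q) (Additive (LQ Q 1)) := hqLM
  have hqW' : ∀ x : Additive (LQ Q 2), S.q • x = 0 := fun x => Additive.toMul.injective (hqW x.toMul)
  let hqWM := AddCommGroup.zmodModule hqW'
  haveI : Module (ZMod S.q) (Additive (LQ Q 2)) := hqWM
  haveI : Module.Finite (ZMod S.q) (Additive (Q ⧸ S.U)) := Module.Finite.of_finite
  haveI : Module.Finite (ZMod S.q) (Additive (LQ Q 1)) := Module.Finite.of_finite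
  haveI : Module.Finite (ZMod S.q) (Additive (LQ Q 2)) := Module.Finite.of_finite
  obtain ⟨g, hg₁, w₁, hw₁, hg₁w⟩ := P.layer
  haveI : Nontrivial (Additive (LQ Q 1)) :=
    ⟨⟨mL ⟨w₁, hw₁⟩, 0, fun e => hg₁w (hg₁.kills _ ((zL _).1 e))⟩⟩
  haveI : Nontrivial (Additive (Q ⧸ S.U)) := by
    obtain ⟨x, hx⟩ : ∃ x, x ∉ S.U := by
      by_contra hh
      push Not at hh
      refine hg₁w (eq_one_of_not_nonTriv (hg₁.not_nonTriv_of_gen fun z _ y => ?_) hw₁)
      exact hg₁.kills _ (P.comm_U z (hh z) y)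
    exact ⟨⟨mV S x, 0, fun e => hx ((zV x).1 e)⟩⟩
  haveI : Nontrivial (Additive (LQ Q 2)) := by
    obtain ⟨w, hw⟩ : ∃ w : ↥(lcs Q 2), (w : Q) ∉ lcs Q 3 := by
      by_contra hh
      push Not at hh
      refine hf.not_nonTriv_of_gen (fun z hz x => ?_) hf0
      exact hf.kills _ (comm_mem_succ (hh ⟨z, hz⟩) x)
    exact ⟨⟨mW w, 0, fun e => hw ((zW _).1 e)⟩⟩
  exact (P.data hf hf0).false

end Sys.Proper

end Cfsg.Lib.Char.Ndad
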