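import Cfsg.Agent.Lib.Char.Ndad.StageTwo

/-!
# The third layer
-/

set_option autoImplicit false
set_option linter.unusedSectionVars false
set_option linter.style.haveILetI false

namespace Cfsg.Lib.Char.Ndad

open Cfsg Cfsg.Lib.Char
open scoped commutatorElement

universe u v

variable {Q : Type u} [Group Q]

/-- A function vanishing on the generators of a layer is trivial. -/
theorem Layer.not_nonTriv_of_gen {k : ℕ} {f : Q → ℂˣ} (hf : Layer (k + 1) f)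
    (h : ∀ z ∈ lcs Q k, ∀ x, f ⁅z, x⁆ = 1) : ¬ NonTriv (k + 1) f := by
  let T : Subgroup Q :=
    { carrier := {z | z ∈ lcs Q (k + 1) ∧ f z = 1}
      one_mem' := ⟨one_mem _, hf.isLam.map_one⟩
      mul_mem' := fun {a b} ha hb => ⟨mul_mem ha.1 hb.1, by
        rw [hf.map_mul _ ha.1 _ hb.1, ha.2, hb.2, one_mul]⟩
      inv_mem' := fun {a} ha => ⟨inv_mem ha.1, by rw [hf.isLam.map_inv ha.1, ha.2, inv_one]⟩ }
  have hT : lcs Q (k + 1) ≤ T := by
    show ⁅lcs Q k, (⊤ : Subgroup Q)⁆ ≤ T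
    exact Subgroup.commutator_le.2 fun z hz x _ => ⟨comm_mem_succ hz x, h z hz x⟩
  rintro ⟨z, hz, hz1⟩
  exact hz1 (hT hz).2

/-- The hypotheses after the dichotomy: a proper common stabiliser of the second layer. -/
structure Sys.Proper [Fintype Q] {C : Type v} [Group C] [Finite C] (S : Sys Q C) where
  D : Subgroup C
  ne_top : D ≠ ⊤
  fix : ∀ f : Q → ℂˣ, Layer 1 f → NonTriv 1 f → S.fixOn 1 f = D
  comm_U : ∀ x ∈ S.U, ∀ y : Q, ⁅x, y⁆ ∈ lcs Q 2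
  layer : ∃ f : Q → ℂˣ, Layer 1 f ∧ NonTriv 1 f

namespace Sys.Proper

variable [Fintype Q] {C : Type v} [Group C] [Finite C] {S : Sys Q C} (P : S.Proper)

include P

theorem exists_mem_D : ∃ c ∈ P.D, c ≠ 1 := by
  obtain ⟨f, hf, z, hz, hfz⟩ := P.layer
  obtain ⟨-, -, -, c, hc, -, hcf⟩ := S.exists_stab le_rfl hf hz hfz
  exact ⟨c, P.fix f hf ⟨z, hz, hfz⟩ ▸ hcf, hc⟩

theorem act_sub_mem_two {c : C} (hc : c ∈ P.D) {z : Q} (hz : z ∈ lcs Q 1) :
    S.act c z * z⁻¹ ∈ lcs Q 2 :=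
  mem_lcs_succ_of_layer (mul_mem (S.act_mem_lcs c hz) (inv_mem hz)) fun h hh => by
    rw [hh.map_mul _ (S.act_mem_lcs c hz) _ (inv_mem hz), hh.isLam.map_inv hz]
    by_cases hh0 : NonTriv 1 h
    · rw [← P.fix h hh hh0] at hc
      rw [hc z hz, mul_inv_cancel]
    · rw [eq_one_of_not_nonTriv hh0 hz, eq_one_of_not_nonTriv hh0 (S.act_mem_lcs c hz), inv_one,
        one_mul]

theorem comm_one_U {z u : Q} (hz : z ∈ lcs Q 1) (hu : u ∈ S.U) : ⁅z, u⁆ ∈ lcs Q 3 := by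
  refine mem_lcs_succ_of_layer (comm_mem_succ hz u) fun f hf => ?_
  let T : Subgroup Q :=
    { carrier := {a | a ∈ lcs Q 1 ∧ f ⁅a, u⁆ = 1}
      one_mem' := ⟨one_mem _, by simp [hf.isLam.map_one]⟩
      mul_mem' := fun {a b} ha hb => ⟨mul_mem ha.1 hb.1, by
        rw [hf.pair_mul_left (i := 1) (j := 0) rfl ha.1 hb.1 (mem_lcs_zero u), ha.2, hb.2, one_mul]⟩
      inv_mem' := fun {a} ha => ⟨inv_mem ha.1, by
        rw [hf.pair_inv_left (i := 1) (j := 0) rfl ha.1 (mem_lcs_zero u), ha.2, inv_one]⟩ }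
  have hT : lcs Q 1 ≤ T := by
    rw [lcs_one, commutator_def]
    refine Subgroup.commutator_le.2 fun a _ b _ => ⟨comm_mem_one a b, ?_⟩
    have h := hf.jacobi (i := 0) (j := 0) (l := 0) rfl (mem_lcs_zero a) (mem_lcs_zero b) (mem_lcs_zero u)
    have h2 : ⁅b, u⁆ ∈ lcs Q 2 := by rw [← commutatorElement_inv]; exact inv_mem (P.comm_U u hu b)
    rwa [hf.pair_deep_left (i := 2) (j := 0) (by omega) h2 (mem_lcs_zero a),
      hf.pair_deep_left (i := 2) (j := 0) (by omega) (P.comm_U u hu a) (mem_lcs_zero b), mul_one,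
      mul_one] at h
  exact (hT hz).2

theorem comm_two_U {w u : Q} (hw : w ∈ lcs Q 2) (hu : u ∈ S.U) : ⁅w, u⁆ ∈ lcs Q 4 := by
  refine mem_lcs_succ_of_layer (comm_mem_succ hw u) fun f hf => ?_
  let T : Subgroup Q :=
    { carrier := {a | a ∈ lcs Q 2 ∧ f ⁅a, u⁆ = 1}
      one_mem' := ⟨one_mem _, by simp [hf.isLam.map_one]⟩
      mul_mem' := fun {a b} ha hb => ⟨mul_mem ha.1 hb.1, by
        rw [hf.pair_mul_left (i := 2) (j := 0) rfl ha.1 hb.1 (mem_lcs_zero u), ha.2, hb.2, one_mul]⟩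
      inv_mem' := fun {a} ha => ⟨inv_mem ha.1, by
        rw [hf.pair_inv_left (i := 2) (j := 0) rfl ha.1 (mem_lcs_zero u), ha.2, inv_one]⟩ }
  have hT : lcs Q 2 ≤ T := by
    show ⁅lcs Q 1, (⊤ : Subgroup Q)⁆ ≤ T
    refine Subgroup.commutator_le.2 fun z hz x _ => ⟨comm_mem_succ hz x, ?_⟩
    have h := hf.jacobi (i := 1) (j := 0) (l := 0) rfl hz (mem_lcs_zero x) (mem_lcs_zero u)
    have h2 : ⁅x, u⁆ ∈ lcs Q 2 := by rw [← commutatorElement_inv]; exact inv_mem (P.comm_U u hu x)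
    have h3 : ⁅u, z⁆ ∈ lcs Q 3 := by
      rw [← commutatorElement_inv]; exact inv_mem (P.comm_one_U hz hu)
    rwa [hf.pair_deep_left (i := 2) (j := 1) (by omega) h2 hz,
      hf.pair_deep_left (i := 3) (j := 0) (by omega) h3 (mem_lcs_zero x), mul_one, mul_one] at h
  exact (hT hw).2

/-- An element of the common stabiliser does not fix a non-trivial function on the third layer. -/
theorem eq_one_of_mem_D {f : Q → ℂˣ} (hf : Layer 2 f) (hf0 : NonTriv 2 f) {c : C}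
    (hc : c ∈ S.fixOn 2 f) (hcD : c ∈ P.D) : c = 1 := by
  by_contra hc1
  refine hf.not_nonTriv_of_gen (fun z hz x => ?_) hf0
  have h := S.eq_one_of_fixed (L := hf.pairHom hz)
    (fun u hu => hf.kills _ (P.comm_one_U hz hu)) hc1 fun y => ?_
  · exact DFunLike.congr_fun h x
  · have h2 := P.act_sub_mem_two hcD hz
    have h3 : f ⁅S.act c z, S.act c y⁆ = f ⁅z, y⁆ := by
      rw [← map_commutatorElement]; exact hc _ (comm_mem_succ hz y)
    rw [show S.act c z = S.act c z * z⁻¹ * z by group,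
      hf.pair_mul_left (i := 1) (j := 0) rfl (lcs_le (Nat.le_succ _) h2) hz (mem_lcs_zero _),
      hf.pair_deep_left (i := 2) (j := 0) (by omega) h2 (mem_lcs_zero _), one_mul] at h3
    rw [Layer.pairHom_apply, Layer.pairHom_apply]
    exact h3

theorem free_one {f : Q → ℂˣ} (hf : Layer 2 f) (hf0 : NonTriv 2 f) {c : C}
    (hc : c ∈ S.fixOn 2 f) (hc1 : c ≠ 1) {h : Q → ℂˣ} (hh : Layer 1 h)
    (hfix : ∀ z ∈ lcs Q 1, h (S.act c z) = h z) {z : Q} (hz : z ∈ lcs Q 1) : h z = 1 := by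
  by_contra hne
  exact hc1 (P.eq_one_of_mem_D hf hf0 hc (P.fix h hh ⟨z, hz, hne⟩ ▸ hfix))

theorem no_fixed_two : ∀ h : Q → ℂˣ, Layer 2 h → S.fixOn 2 h = ⊤ → ∀ w ∈ lcs Q 2, h w = 1 := by
  intro h hh htop w hw
  by_contra hne
  obtain ⟨c, hc, hc1⟩ := P.exists_mem_D
  exact hc1 (P.eq_one_of_mem_D hh ⟨w, hw, hne⟩ (htop.symm ▸ Subgroup.mem_top c) hc)

theorem pair_U_act {f : Q → ℂˣ} (hf : Layer 2 f) (c : C) {x y : Q} (hx : x ∈ S.U) (hy : y ∈ S.U) :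
    f ⁅S.act c x, y⁆ = f ⁅x, y⁆ := by
  have hd := S.displacement_mem_lcs c hx
  rw [show S.act c x = x * (x⁻¹ * S.act c x) by group,
    hf.isLam.comm_mul_left (P.comm_U x hx y) (comm_mem_succ hd y),
    hf.kills _ (P.comm_one_U hd hy), mul_one]

theorem UU {f : Q → ℂˣ} (hf : Layer 2 f) {x y : Q} (hx : x ∈ S.U) (hy : y ∈ S.U) :
    f ⁅x, y⁆ = 1 := by
  refine S.layer_eq_one_of_fixed hf (P.comm_U x hx y) (fun c => ?_) P.no_fixed_two
  rw [map_commutatorElement, P.pair_U_act hf c hx (S.act_mem_U c hy),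
    hf.isLam.comm_swap (P.comm_U _ (S.act_mem_U c hy) x), P.pair_U_act hf c hy hx,
    ← hf.isLam.comm_swap (P.comm_U y hy x)]

/-- The radical of a function on the third layer. -/
def radTwo {f : Q → ℂˣ} (hf : Layer 2 f) : Subgroup Q where
  carrier := {x | x ∈ S.U ∧ ∀ y, f ⁅x, y⁆ = 1}
  one_mem' := ⟨one_mem _, fun y => by simp [hf.isLam.map_one]⟩
  mul_mem' {a b} ha hb := ⟨mul_mem ha.1 hb.1, fun y => by
    rw [hf.isLam.comm_mul_left (P.comm_U a ha.1 y) (P.comm_U b hb.1 y), ha.2, hb.2, one_mul]⟩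
  inv_mem' {a} ha := ⟨inv_mem ha.1, fun y => by
    rw [hf.isLam.comm_inv_left (P.comm_U a ha.1 y), ha.2, inv_one]⟩

theorem mem_radTwo {f : Q → ℂˣ} {hf : Layer 2 f} {x : Q} :
    x ∈ P.radTwo hf ↔ x ∈ S.U ∧ ∀ y, f ⁅x, y⁆ = 1 := Iff.rfl

theorem two_le_radTwo {f : Q → ℂˣ} (hf : Layer 2 f) : lcs Q 2 ≤ P.radTwo hf := fun _ hz =>
  ⟨S.commutator_le_U (lcs_one (Q := Q) ▸ lcs_le (Nat.le_succ 1) hz),
    fun y => hf.kills _ (comm_mem_succ hz y)⟩

theorem ker_one {f : Q → ℂˣ} (hf : Layer 2 f) (hf0 : NonTriv 2 f) {z : Q} (hz : z ∈ lcs Q 1)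
    (h : ∀ x, f ⁅z, x⁆ = 1) : z ∈ lcs Q 2 :=
  S.ker_le_succ hf hf0.choose_spec.1 hf0.choose_spec.2
    (fun _ hc hc1 _ hh hfix _ hy => P.free_one hf hf0 hc hc1 hh hfix hy) hz h

theorem radTwo_normal {f : Q → ℂˣ} (hf : Layer 2 f) : (P.radTwo hf).Normal := ⟨fun x hx g => by
  have h : ⁅g, x⁆ ∈ lcs Q 2 := by rw [← commutatorElement_inv]; exact inv_mem (P.comm_U x hx.1 g)
  have h2 := mul_mem (P.two_le_radTwo hf h) hx
  rwa [show ⁅g, x⁆ * x = g * x * g⁻¹ by simp only [commutatorElement_def]; group] at h2⟩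

theorem radTwo_act {f : Q → ℂˣ} (hf : Layer 2 f) {c : C} (hc : c ∈ S.fixOn 2 f) {x : Q}
    (hx : x ∈ P.radTwo hf) : S.act c x ∈ P.radTwo hf := ⟨S.act_mem_U c hx.1, fun y => by
  obtain ⟨y, rfl⟩ := (S.act c).surjective y
  rw [← map_commutatorElement, hc _ (P.comm_U x hx.1 y), hx.2 y]⟩

/-- Modulo the radical every element of `U` comes from the derived group. -/
theorem exists_mul_mem_radTwo {f : Q → ℂˣ} (hf : Layer 2 f) (hf0 : NonTriv 2 f) {x : Q}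
    (hx : x ∈ S.U) : ∃ z ∈ lcs Q 1, x * z⁻¹ ∈ P.radTwo hf := by
  classical
  obtain ⟨w, hw, hfw⟩ := hf0
  obtain ⟨-, -, -, c, hc1, -, hc⟩ := S.exists_stab one_le_two hf hw hfw
  let Φ : Q → Q → ℂˣ := fun x y => f ⁅x, y⁆
  let P1 : Set (Q → ℂˣ) := (fun z => Φ z) '' (lcs Q 1 : Set Q)
  haveI : Finite P1 := (Set.toFinite (lcs Q 1 : Set Q)).image _
  have hsmul : ∀ z ∈ lcs Q 1, (fun y => f ⁅S.act c z, y⁆ * (f ⁅z, y⁆)⁻¹) = Φ (S.act c z * z⁻¹) :=
    fun z hz => funext fun y => by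
      show _ = f ⁅_, y⁆
      rw [hf.pair_mul_left (i := 1) (j := 0) rfl (S.act_mem_lcs c hz) (inv_mem hz) (mem_lcs_zero y),
        hf.pair_inv_left (i := 1) (j := 0) rfl hz (mem_lcs_zero y)]
  let δ : P1 → P1 := fun p => ⟨fun y => f ⁅S.act c p.2.choose, y⁆ * (f ⁅p.2.choose, y⁆)⁻¹,
    _, mul_mem (S.act_mem_lcs c p.2.choose_spec.1) (inv_mem p.2.choose_spec.1),
    (hsmul _ p.2.choose_spec.1).symm⟩
  -- a displacement determines its value
  have hfix : ∀ a b : Q, a ∈ lcs Q 1 → b ∈ lcs Q 1 →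
      (∀ y, f ⁅S.act c a, y⁆ * (f ⁅a, y⁆)⁻¹ = f ⁅S.act c b, y⁆ * (f ⁅b, y⁆)⁻¹) → Φ a = Φ b := by
    intro a b ha hb h
    have hab : a * b⁻¹ ∈ lcs Q 1 := mul_mem ha (inv_mem hb)
    have hpi : ∀ y, ∀ {a b : Q}, a ∈ lcs Q 1 → b ∈ lcs Q 1 →
        f ⁅a * b⁻¹, y⁆ = f ⁅a, y⁆ * (f ⁅b, y⁆)⁻¹ := fun y a b ha hb => by
      rw [hf.pair_mul_left (i := 1) (j := 0) rfl ha (inv_mem hb) (mem_lcs_zero y),
        hf.pair_inv_left (i := 1) (j := 0) rfl hb (mem_lcs_zero y)]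
    have h1 := S.eq_one_of_fixed (L := hf.pairHom hab)
      (fun u hu => hf.kills _ (P.comm_one_U hab hu)) hc1 fun y => ?_
    · funext y
      have h2 := DFunLike.congr_fun h1 y
      rw [Layer.pairHom_apply, MonoidHom.one_apply, hpi y ha hb, mul_inv_eq_one] at h2
      exact h2
    · rw [Layer.pairHom_apply, Layer.pairHom_apply, hpi _ ha hb]
      have h2 := h (S.act c y)
      have h3 : f ⁅a * b⁻¹, y⁆ = f (S.act c ⁅a * b⁻¹, y⁆) := (hc _ (comm_mem_succ hab y)).symm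
      rw [h3, map_commutatorElement, map_mul, map_inv, hpi _ (S.act_mem_lcs c ha) (S.act_mem_lcs c hb)]
      rw [mul_inv_eq_iff_eq_mul] at h2 ⊢
      rw [h2, mul_comm (f ⁅S.act c b, _⁆) ((f ⁅b, _⁆)⁻¹), mul_assoc ((f ⁅b, _⁆)⁻¹),
        mul_assoc ((f ⁅b, _⁆)⁻¹), mul_comm (f ⁅S.act c b, _⁆), mul_inv_cancel_right,
        mul_comm, mul_inv_cancel_left]
  have hinj : Function.Injective δ := fun p p' e => by
    refine Subtype.ext (p.2.choose_spec.2.symm.trans (Eq.trans ?_ p'.2.choose_spec.2))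
    exact hfix _ _ p.2.choose_spec.1 p'.2.choose_spec.1 fun y => congrFun (congrArg Subtype.val e) y
  -- the displacement of `x`
  have hd := S.displacement_mem_lcs c hx
  obtain ⟨p, hp⟩ := (Finite.injective_iff_surjective.1 hinj) ⟨_, _, hd, rfl⟩
  refine ⟨p.2.choose, p.2.choose_spec.1, ?_⟩
  set z := p.2.choose
  have hz : z ∈ lcs Q 1 := p.2.choose_spec.1
  have hxz : x * z⁻¹ ∈ S.U := mul_mem hx (S.commutator_le_U (lcs_one (Q := Q) ▸ inv_mem hz))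
  have hL : ∀ (a y : Q), a ∈ S.U → f ⁅a * z⁻¹, y⁆ = f ⁅a, y⁆ * (f ⁅z, y⁆)⁻¹ := fun a y ha => by
    rw [hf.isLam.comm_mul_left (P.comm_U a ha y) (comm_mem_succ (inv_mem hz) y),
      hf.pair_inv_left (i := 1) (j := 0) rfl hz (mem_lcs_zero y)]
  let L : Q →* ℂˣ :=
    { toFun := fun y => f ⁅x * z⁻¹, y⁆
      map_one' := by simp [hf.isLam.map_one]
      map_mul' := fun a b => hf.isLam.comm_mul_right (P.comm_U _ hxz a) (P.comm_U _ hxz b) }
  have hL1 : L = 1 := S.eq_one_of_fixed (fun u hu => P.UU hf hxz hu) hc1 fun y => by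
    show f ⁅x * z⁻¹, S.act c y⁆ = f ⁅x * z⁻¹, y⁆
    rw [← hc _ (P.comm_U _ hxz y), map_commutatorElement]
    have hδ := congrFun (congrArg Subtype.val hp) (S.act c y)
    change f ⁅S.act c z, S.act c y⁆ * (f ⁅z, S.act c y⁆)⁻¹ = f ⁅x⁻¹ * S.act c x, S.act c y⁆ at hδ
    have e : S.act c (x * z⁻¹) = x * (x⁻¹ * S.act c x) * (S.act c z)⁻¹ := by
      rw [map_mul, map_inv, mul_inv_cancel_left]
    rw [e, hf.isLam.comm_mul_left (P.comm_U _ (mul_mem hx (S.commutator_le_U (lcs_one (Q := Q) ▸ hd))) _)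
        (comm_mem_succ (inv_mem (S.act_mem_lcs c hz)) _),
      hf.isLam.comm_mul_left (P.comm_U x hx _) (comm_mem_succ hd _), ← hδ,
      hf.pair_inv_left (i := 1) (j := 0) rfl (S.act_mem_lcs c hz) (mem_lcs_zero _), hL x _ hx,
      mul_comm (f ⁅S.act c z, _⁆), mul_assoc, mul_inv_cancel_right]
  exact ⟨hxz, fun y => DFunLike.congr_fun hL1 y⟩

/-- Characters over a non-trivial function on the third layer. -/
theorem layerTwo_char {f : Q → ℂˣ} (hf : Layer 2 f) (hf0 : NonTriv 2 f) {χ : IrrCharacter Q}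
    (hO : Over (lcs Q 2) hf.isLam.hom χ) :
    charDegree (χ : Q → ℂ) ≠ 1 ∧ fixer S.act (χ : Q → ℂ) = S.fixOn 2 f ∧
      charDegree (χ : Q → ℂ) ^ 2 = S.U.index * (lcs Q 2).relIndex (lcs Q 1) := by
  have hle : lcs Q 2 ≤ commutator Q := lcs_one (Q := Q) ▸ lcs_le one_le_two
  have h1 := hf.isLam.degree_ne_one hle hf0.choose_spec.1 hf0.choose_spec.2 hO
  haveI := P.radTwo_normal hf
  have hR : ∀ x ∈ P.radTwo hf, ∀ y, ∃ _h : ⁅x, y⁆ ∈ lcs Q 2, f ⁅x, y⁆ = 1 := fun x hx y =>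
    ⟨P.comm_U x hx.1 y, hx.2 y⟩
  have hcap : ∀ z, z ∈ lcs Q 1 → z ∈ P.radTwo hf → z ∈ lcs Q 2 := fun z hz hz' =>
    P.ker_one hf hf0 hz hz'.2
  obtain ⟨h2, h3⟩ := S.fixer_eq hf hO (P.radTwo hf) (P.two_le_radTwo hf) hR (fun x hx => by
    by_cases hxU : x ∈ S.U
    · have hy : ¬ ∀ y, f ⁅x, y⁆ = 1 := fun h => hx ⟨hxU, h⟩
      obtain ⟨y, hy⟩ := not_forall.1 hy
      exact hO.eq_zero χ.2.isCharacter (y := y) (P.comm_U x hxU y) hy
    · exact S.eq_zero_of_not_mem_U χ h1 hxU)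
    (fun c hc x hx => P.radTwo_act hf hc hx)
    (fun c hc x hx => hcap _ (S.displacement_mem_lcs c hx.1)
      (mul_mem (inv_mem hx) (P.radTwo_act hf hc hx)))
  refine ⟨h1, h2, h3.trans ?_⟩
  have hRU : P.radTwo hf ≤ S.U := fun x hx => hx.1
  have hsup : lcs Q 1 ⊔ P.radTwo hf = S.U := by
    refine le_antisymm (sup_le (lcs_one (Q := Q) ▸ S.commutator_le_U) hRU) fun x hx => ?_
    obtain ⟨z, hz, hzR⟩ := P.exists_mul_mem_radTwo hf hf0 hx
    rw [show x = x * z⁻¹ * z by group]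
    exact mul_mem (Subgroup.mem_sup_right hzR) (Subgroup.mem_sup_left hz)
  rw [← Subgroup.relIndex_mul_index hRU, mul_comm, ← hsup, Subgroup.relIndex_sup_right,
    ← Subgroup.inf_relIndex_right (P.radTwo hf)]
  congr 2
  exact le_antisymm (fun z hz => hcap z hz.2 hz.1)
    (le_inf (P.two_le_radTwo hf) (lcs_le one_le_two))

/-- All non-trivial functions on the third layer have the same stabiliser. -/
theorem fix_two {f g : Q → ℂˣ} (hf : Layer 2 f) (hg : Layer 2 g) (hf0 : NonTriv 2 f)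
    (hg0 : NonTriv 2 g) : S.fixOn 2 f = S.fixOn 2 g := by
  refine S.fixOn_eq (fun f g hf hg hf0 hg0 hle => ?_) hf hg hf0 hg0
  obtain ⟨χ, hχ⟩ := hf.isLam.exists_over
  obtain ⟨η, hη⟩ := hg.isLam.exists_over
  obtain ⟨hd, hfx, hsq⟩ := P.layerTwo_char hf hf0 hχ
  obtain ⟨hd', hfx', hsq'⟩ := P.layerTwo_char hg hg0 hη
  have hdeg : charDegree (η : Q → ℂ) = charDegree (χ : Q → ℂ) :=
    Nat.pow_left_injective two_ne_zero (hsq'.trans hsq.symm)
  have h := S.anti η χ hd' hd (by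
    rw [gdeg, gdeg, hfx, hfx', hdeg]
    exact Nat.mul_dvd_mul_left _ (Subgroup.index_dvd_of_le hle))
  rw [gdeg, gdeg, hfx, hfx', hdeg] at h
  have h0 : charDegree (χ : Q → ℂ) ≠ 0 := fun h0 => χ.2.apply_one_ne_zero
    (by rw [χ.2.apply_one_eq_charDegree, h0, Nat.cast_zero])
  have h' := mul_left_cancel₀ h0 h
  refine le_antisymm hle (Subgroup.relIndex_eq_one.1 ?_)
  have h5 := Subgroup.relIndex_mul_index hle
  rw [← h'] at h5
  exact (mul_eq_right₀ Subgroup.index_ne_zero_of_finite).1 h5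

end Sys.Proper

end Cfsg.Lib.Char.Ndad
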