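import Cfsg.Agent.Lib.Char.Ndad.SysLayer

/-!
# The second layer
-/

set_option autoImplicit false
set_option linter.unusedSectionVars false
set_option linter.style.haveILetI false
set_option maxHeartbeats 400000

namespace Cfsg.Lib.Char.Ndad

open Cfsg Cfsg.Lib.Char
open scoped commutatorElement

universe u v

variable {Q : Type u} [Group Q]

/-- A function is non-trivial on a layer. -/
def NonTriv (k : ℕ) (f : Q → ℂˣ) : Prop := ∃ z ∈ lcs Q k, f z ≠ 1

theorem eq_one_of_not_nonTriv {k : ℕ} {f : Q → ℂˣ} (h : ¬ NonTriv k f) {z : Q} (hz : z ∈ lcs Q k) :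
    f z = 1 := by
  by_contra h1
  exact h ⟨z, hz, h1⟩

/-- The left kernel of the commutator pairing into the second layer. -/
def Layer.radOne {f : Q → ℂˣ} (hf : Layer 1 f) : Subgroup Q where
  carrier := {x | ∀ y, f ⁅x, y⁆ = 1}
  one_mem' y := by simp [hf.isLam.map_one]
  mul_mem' {a b} ha hb y := by
    rw [hf.pair_mul_left (i := 0) (j := 0) rfl (mem_lcs_zero a) (mem_lcs_zero b) (mem_lcs_zero y),
      ha y, hb y, one_mul]
  inv_mem' {a} ha y := by
    rw [hf.pair_inv_left (i := 0) (j := 0) rfl (mem_lcs_zero a) (mem_lcs_zero y), ha y, inv_one]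

theorem Layer.commutator_le_radOne {f : Q → ℂˣ} (hf : Layer 1 f) : lcs Q 1 ≤ hf.radOne :=
  fun _ hx y => hf.pair_deep_left (i := 1) (j := 0) Nat.one_lt_two hx (mem_lcs_zero y)

instance Layer.radOne_normal {f : Q → ℂˣ} (hf : Layer 1 f) : hf.radOne.Normal := ⟨fun x hx g => by
  have h : ⁅g, x⁆ * x ∈ hf.radOne := mul_mem (hf.commutator_le_radOne
    (comm_mem_one g x)) hx
  rwa [show ⁅g, x⁆ * x = g * x * g⁻¹ by simp only [commutatorElement_def]; group] at h⟩

/-- The commutator pairing as a linear character. -/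
def Layer.pairHom {k : ℕ} {f : Q → ℂˣ} (hf : Layer (k + 1) f) {z : Q} (hz : z ∈ lcs Q k) :
    Q →* ℂˣ where
  toFun x := f ⁅z, x⁆
  map_one' := by simp [hf.isLam.map_one]
  map_mul' a b := hf.pair_mul_right (i := k) (j := 0) rfl hz (mem_lcs_zero a) (mem_lcs_zero b)

@[simp] theorem Layer.pairHom_apply {k : ℕ} {f : Q → ℂˣ} (hf : Layer (k + 1) f) {z : Q}
    (hz : z ∈ lcs Q k) (x : Q) : hf.pairHom hz x = f ⁅z, x⁆ := rfl

namespace Sys

variable [Fintype Q] {C : Type v} [Group C] [Finite C] (S : Sys Q C)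

theorem displacement_mem_lcs (c : C) {x : Q} (hx : x ∈ S.U) : x⁻¹ * S.act c x ∈ lcs Q 1 :=
  lcs_one (Q := Q) ▸ S.displacement_mem c hx

theorem pair_act {f : Q → ℂˣ} (hf : Layer 1 f) (c : C) {x : Q} (hx : x ∈ S.U) (y : Q) :
    f ⁅S.act c x, y⁆ = f ⁅x, y⁆ := by
  rw [show S.act c x = x * (x⁻¹ * S.act c x) by group,
    hf.pair_mul_left (i := 0) (j := 0) rfl (mem_lcs_zero _) (mem_lcs_zero _) (mem_lcs_zero y),
    hf.commutator_le_radOne (S.displacement_mem_lcs c hx) y, mul_one]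

/-- Characters over a non-trivial function on the second layer. -/
theorem layerOne_char {f : Q → ℂˣ} (hf : Layer 1 f) (hf0 : NonTriv 1 f) {χ : IrrCharacter Q}
    (hO : Over (lcs Q 1) hf.isLam.hom χ) :
    charDegree (χ : Q → ℂ) ≠ 1 ∧ fixer S.act (χ : Q → ℂ) = S.fixOn 1 f ∧
      charDegree (χ : Q → ℂ) ^ 2 = hf.radOne.index ∧ hf.radOne ≤ S.U := by
  obtain ⟨z, hz, hfz⟩ := hf0
  have h1 := hf.isLam.degree_ne_one (le_of_eq lcs_one) hz hfz hO
  have hR : ∀ x ∈ hf.radOne, ∀ y, ∃ h : ⁅x, y⁆ ∈ lcs Q 1, f ⁅x, y⁆ = 1 := fun x hx y =>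
    ⟨comm_mem_one x y, hx y⟩
  have hRU : hf.radOne ≤ S.U := by
    intro x hx
    obtain ⟨ω, hω, -⟩ := hO.exists_extension hf.radOne hf.commutator_le_radOne
      fun x hx y => by obtain ⟨h, h'⟩ := hR x hx y; exact ⟨h, h'⟩
    by_contra hU
    have h2 := hω ⟨x, hx⟩
    rw [S.eq_zero_of_not_mem_U χ h1 hU] at h2
    exact mul_ne_zero χ.2.apply_one_ne_zero (Units.ne_zero _) h2.symm
  obtain ⟨h2, h3⟩ := S.fixer_eq hf hO hf.radOne hf.commutator_le_radOne hR (fun x hx => by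
    simp only [Layer.radOne, Subgroup.mem_mk, Submonoid.mem_mk, Subsemigroup.mem_mk] at hx
    obtain ⟨y, hy⟩ := not_forall.1 hx
    exact hO.eq_zero χ.2.isCharacter (y := y) (comm_mem_one x y) hy)
    (fun c hc x hx y => by
      obtain ⟨y, rfl⟩ := (S.act c).surjective y
      rw [← map_commutatorElement, hc _ (comm_mem_one x y), hx y])
    (fun c _ x hx => S.displacement_mem_lcs c (hRU hx))
  exact ⟨h1, h2, h3, hRU⟩

/-- A function killing `[U, U]` with a non-trivial stabiliser kills `[U, Q]`. -/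
theorem U_le_radOne {f : Q → ℂˣ} (hf : Layer 1 f) (hUU : ∀ x ∈ S.U, ∀ y ∈ S.U, f ⁅x, y⁆ = 1)
    {c : C} (hc : c ≠ 1) (hfix : c ∈ S.fixOn 1 f) : S.U ≤ hf.radOne := by
  intro x hx y
  have h := S.eq_one_of_fixed (L := hf.pairHom (k := 0) (mem_lcs_zero x))
    (fun y hy => hUU x hx y hy) hc fun y => ?_
  · exact DFunLike.congr_fun h y
  · rw [Layer.pairHom_apply, Layer.pairHom_apply, ← S.pair_act hf c hx (S.act c y), ← map_commutatorElement,
      hfix _ (comm_mem_one x y)]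

theorem act_UU {f : Q → ℂˣ} (hf : Layer 1 f) (c : C) {x y : Q} (hx : x ∈ S.U) (hy : y ∈ S.U) :
    f (S.act c ⁅x, y⁆) = f ⁅x, y⁆ := by
  rw [map_commutatorElement, S.pair_act hf c hx,
    hf.isLam.comm_swap (comm_mem_one _ x),
    S.pair_act hf c hy, ← hf.isLam.comm_swap (comm_mem_one _ x)]

/-- Either the group fixes the second layer, or all its non-trivial functions share a proper
stabiliser and their radical is `U`. -/
theorem dichotomy :
    (∀ f : Q → ℂˣ, Layer 1 f → S.fixOn 1 f = ⊤) ∨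
      ∃ D : Subgroup C, D ≠ ⊤ ∧ (∀ f : Q → ℂˣ, Layer 1 f → NonTriv 1 f → S.fixOn 1 f = D) ∧
        ∀ x ∈ S.U, ∀ y : Q, ⁅x, y⁆ ∈ lcs Q 2 := by
  classical
  by_cases hmoved : ∃ f : Q → ℂˣ, Layer 1 f ∧ S.fixOn 1 f ≠ ⊤
  swap
  · left
    push Not at hmoved
    exact hmoved
  right
  obtain ⟨f₀, hf₀, hf₀m⟩ := hmoved
  -- a moved function killing `[U, U]`
  obtain ⟨c, hc⟩ : ∃ c, c ∉ S.fixOn 1 f₀ := by
    by_contra hh
    push Not at hh
    exact hf₀m (eq_top_iff.2 fun c _ => hh c)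
  set μ : Q → ℂˣ := fun x => f₀ (S.act c x) * (f₀ x)⁻¹ with hμdef
  have hμ : Layer 1 μ := (S.act_layer hf₀ c).mul hf₀.inv
  have hμUU : ∀ x ∈ S.U, ∀ y ∈ S.U, μ ⁅x, y⁆ = 1 := fun x hx y hy => by
    simp only [hμdef]
    rw [S.act_UU hf₀ c hx hy, mul_inv_cancel]
  have hμm : c ∉ S.fixOn 1 μ := by
    intro hcμ
    refine hc fun z hz => ?_
    have hit : ∀ n : ℕ, f₀ (S.act (c ^ n) z) = f₀ z * μ z ^ n := by
      intro n
      induction n with
      | zero => simp
      | succ n ih =>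
        have h1 : μ (S.act (c ^ n) z) = μ z := (pow_mem hcμ n : c ^ n ∈ S.fixOn 1 μ) z hz
        have h2 : f₀ (S.act (c ^ (n + 1)) z) = f₀ (S.act (c ^ n) z) * μ (S.act (c ^ n) z) := by
          rw [pow_succ', S.act_mul]
          simp only [hμdef]
          rw [mul_comm (f₀ (S.act (c ^ n) z)), inv_mul_cancel_right]
        rw [h2, h1, ih, pow_succ, mul_assoc]
    have h1 := hit (orderOf c)
    simp only [pow_orderOf_eq_one, map_one, MulAut.one_apply, left_eq_mul] at h1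
    have h2 := S.eq_one_of_pow hμ hz (S.not_dvd_orderOf c) h1
    simpa [h2] using hit 1
  have hμ0 : NonTriv 1 μ := by
    by_contra h
    exact hμm fun z hz => by
      rw [eq_one_of_not_nonTriv h hz, eq_one_of_not_nonTriv h (S.act_mem_lcs c hz)]
  have hradμ : hμ.radOne = S.U := by
    obtain ⟨z, hz, hz1⟩ := hμ0
    obtain ⟨χ, -, hO, e, he, -, he'⟩ := S.exists_stab le_rfl hμ hz hz1
    exact le_antisymm (S.layerOne_char hμ ⟨z, hz, hz1⟩ hO).2.2.2 (S.U_le_radOne hμ hμUU he he')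
  -- nothing is fixed
  have hnone : ∀ h : Q → ℂˣ, Layer 1 h → S.fixOn 1 h = ⊤ → ∀ w ∈ lcs Q 1, h w = 1 := by
    intro l hl hlfix
    by_contra hl0
    push Not at hl0
    set ν : Q → ℂˣ := fun x => l x * μ x with hν
    have hνl : Layer 1 ν := hl.mul hμ
    have hfixν : S.fixOn 1 ν = S.fixOn 1 μ := by
      ext t
      simp only [mem_fixOn, hν]
      refine forall₂_congr fun z hz => ?_
      rw [(hlfix.symm ▸ Subgroup.mem_top t : t ∈ S.fixOn 1 l) z hz, mul_right_inj]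
    have hν0 : NonTriv 1 ν := by
      by_contra h
      refine hμm (hfixν ▸ fun z hz => ?_)
      rw [eq_one_of_not_nonTriv h hz, eq_one_of_not_nonTriv h (S.act_mem_lcs c hz)]
    obtain ⟨χ, hχ⟩ := hl.isLam.exists_over
    obtain ⟨η, hη⟩ := hνl.isLam.exists_over
    obtain ⟨hd1, hfx, hsq, hle⟩ := S.layerOne_char hl hl0 hχ
    obtain ⟨hd1', hfx', hsq', hle'⟩ := S.layerOne_char hνl hν0 hη
    have hrad : hνl.radOne = hl.radOne := by
      ext x
      have key : x ∈ S.U → ∀ y, ν ⁅x, y⁆ = l ⁅x, y⁆ := fun hx y => by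
        simp only [hν]
        rw [(hradμ.symm ▸ hx : x ∈ hμ.radOne) y, mul_one]
      exact ⟨fun hx y => (key (hle' hx) y).symm.trans (hx y),
        fun hx y => (key (hle hx) y).trans (hx y)⟩
    have hdeg : charDegree (η : Q → ℂ) = charDegree (χ : Q → ℂ) :=
      Nat.pow_left_injective two_ne_zero (by simp only; rw [hsq, hsq', hrad])
    have h1 : gdeg S.act (χ : Q → ℂ) = charDegree (χ : Q → ℂ) := by
      rw [gdeg, hfx, hlfix, Subgroup.index_top, mul_one]
    have h2 : gdeg S.act (η : Q → ℂ) = charDegree (χ : Q → ℂ) * (S.fixOn 1 μ).index := by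
      rw [gdeg, hfx', hfixν, hdeg]
    have h3 := S.anti χ η hd1 hd1' (by rw [h1, h2]; exact dvd_mul_right _ _)
    rw [h1, h2, left_eq_mul₀ (fun h0 => χ.2.apply_one_ne_zero
      (by rw [χ.2.apply_one_eq_charDegree, h0, Nat.cast_zero])), Subgroup.index_eq_one] at h3
    exact hμm (h3 ▸ Subgroup.mem_top c)
  -- every radical is `U`
  have hUU : ∀ f : Q → ℂˣ, Layer 1 f → ∀ x ∈ S.U, ∀ y ∈ S.U, f ⁅x, y⁆ = 1 := fun f hf x hx y hy =>
    S.layer_eq_one_of_fixed hf (comm_mem_one x y)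
      (fun e => S.act_UU hf e hx hy) hnone
  have hrad : ∀ f : Q → ℂˣ, ∀ hf : Layer 1 f, NonTriv 1 f →
      ∃ χ : IrrCharacter Q, charDegree (χ : Q → ℂ) ≠ 1 ∧ S.U ≤ hf.radOne ∧
        gdeg S.act (χ : Q → ℂ) = charDegree (χ : Q → ℂ) * (S.fixOn 1 f).index ∧
        charDegree (χ : Q → ℂ) ^ 2 = S.U.index := by
    rintro f hf ⟨z, hz, hz1⟩
    obtain ⟨χ, hd, hO, e, he, -, he'⟩ := S.exists_stab le_rfl hf hz hz1
    obtain ⟨-, hfx, hsq, hle⟩ := S.layerOne_char hf ⟨z, hz, hz1⟩ hO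
    have hU := S.U_le_radOne hf (hUU f hf) he he'
    exact ⟨χ, hd, hU, by rw [gdeg, hfx], by rw [hsq, le_antisymm hle hU]⟩
  have hanti : ∀ f g : Q → ℂˣ, Layer 1 f → Layer 1 g → NonTriv 1 f → NonTriv 1 g →
      S.fixOn 1 f ≤ S.fixOn 1 g → S.fixOn 1 f = S.fixOn 1 g := by
    intro f g hf hg hf0 hg0 hle
    obtain ⟨χ, hd, -, hgd, hsq⟩ := hrad f hf hf0
    obtain ⟨η, hd', -, hgd', hsq'⟩ := hrad g hg hg0
    have hdeg : charDegree (η : Q → ℂ) = charDegree (χ : Q → ℂ) :=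
      Nat.pow_left_injective two_ne_zero (by simp only; rw [hsq, hsq'])
    have h := S.anti η χ hd' hd (by
      rw [hgd, hgd', hdeg]
      exact Nat.mul_dvd_mul_left _ (Subgroup.index_dvd_of_le hle))
    rw [hgd, hgd', hdeg] at h
    have h0 : charDegree (χ : Q → ℂ) ≠ 0 := fun h0 => χ.2.apply_one_ne_zero
      (by rw [χ.2.apply_one_eq_charDegree, h0, Nat.cast_zero])
    have h' := mul_left_cancel₀ h0 h
    refine le_antisymm hle (Subgroup.relIndex_eq_one.1 ?_)
    have h5 := Subgroup.relIndex_mul_index hle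
    rw [← h'] at h5
    exact (mul_eq_right₀ Subgroup.index_ne_zero_of_finite).1 h5
  refine ⟨S.fixOn 1 μ, fun h => hμm (h ▸ Subgroup.mem_top c),
    fun f hf hf0 => S.fixOn_eq hanti hf hμ hf0 hμ0, fun x hx y => ?_⟩
  refine mem_lcs_succ_of_layer (comm_mem_one x y) fun f hf => ?_
  by_cases hf0 : NonTriv 1 f
  · obtain ⟨-, -, hU, -⟩ := hrad f hf hf0
    exact hU hx y
  · exact eq_one_of_not_nonTriv hf0 (comm_mem_one x y)

/-- If the group fixes the second layer it fixes every non-linear character. -/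
theorem fixer_eq_top (h1 : ∀ f : Q → ℂˣ, Layer 1 f → S.fixOn 1 f = ⊤) [Group.IsNilpotent Q]
    (β : IrrCharacter Q) (hβ : charDegree (β : Q → ℂ) ≠ 1) : fixer S.act (β : Q → ℂ) = ⊤ := by
  -- the group fixes every layer
  have hlayer : ∀ k, ∀ f : Q → ℂˣ, Layer (k + 1) f → S.fixOn (k + 1) f = ⊤ := by
    intro k
    induction k with
    | zero => exact h1
    | succ k ih =>
      intro f hf
      refine eq_top_iff.2 fun d _ => ?_
      by_cases hf0 : NonTriv (k + 2) f
      swap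
      · exact fun z hz => by
          rw [eq_one_of_not_nonTriv hf0 hz, eq_one_of_not_nonTriv hf0 (S.act_mem_lcs d hz)]
      obtain ⟨w, hw, hfw⟩ := hf0
      obtain ⟨-, -, -, c, hc, -, hcf⟩ := S.exists_stab (by omega) hf hw hfw
      have hstep : ∀ (e : C) {z : Q}, z ∈ lcs Q (k + 1) →
          ∀ x, f ⁅S.act e z, x⁆ = f ⁅z, x⁆ := by
        intro e z hz x
        have hd : S.act e z * z⁻¹ ∈ lcs Q (k + 2) :=
          mem_lcs_succ_of_layer (mul_mem (S.act_mem_lcs e hz) (inv_mem hz)) fun h hh => by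
            rw [hh.map_mul _ (S.act_mem_lcs e hz) _ (inv_mem hz), hh.isLam.map_inv hz,
              ((ih h hh).symm ▸ Subgroup.mem_top e : e ∈ S.fixOn (k + 1) h) z hz, mul_inv_cancel]
        conv_lhs => rw [show S.act e z = S.act e z * z⁻¹ * z by group]
        rw [hf.pair_mul_left (i := k + 1) (j := 0) rfl (lcs_le (Nat.le_succ _) hd) hz (mem_lcs_zero x),
          hf.pair_deep_left (i := k + 2) (j := 0) (by omega) hd (mem_lcs_zero x), one_mul]
      have hgen : ∀ z, z ∈ lcs Q (k + 1) → ∀ x, f (S.act d ⁅z, x⁆) = f ⁅z, x⁆ := by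
        intro z hz x
        have h := S.lin (hf.pairHom hz) c hc (fun y => by
          rw [Layer.pairHom_apply, Layer.pairHom_apply, ← hstep c hz, ← map_commutatorElement,
            hcf _ (comm_mem_succ hz y)]) d x
        rw [map_commutatorElement, hstep d hz]
        exact h
      let T : Subgroup Q :=
        { carrier := {z | z ∈ lcs Q (k + 2) ∧ f (S.act d z) = f z}
          one_mem' := ⟨one_mem _, by simp⟩
          mul_mem' := fun {a b} ha hb => ⟨mul_mem ha.1 hb.1, by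
            rw [map_mul, hf.map_mul _ (S.act_mem_lcs d ha.1) _ (S.act_mem_lcs d hb.1),
              hf.map_mul _ ha.1 _ hb.1, ha.2, hb.2]⟩
          inv_mem' := fun {a} ha => ⟨inv_mem ha.1, by
            rw [map_inv, hf.isLam.map_inv (S.act_mem_lcs d ha.1), hf.isLam.map_inv ha.1, ha.2]⟩ }
      have hT : lcs Q (k + 2) ≤ T := by
        show ⁅lcs Q (k + 1), (⊤ : Subgroup Q)⁆ ≤ T
        exact Subgroup.commutator_le.2 fun z hz x _ =>
          ⟨comm_mem_succ hz x, hgen z hz x⟩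
      exact fun z hz => (hT hz).2
  obtain ⟨n, hn⟩ := Subgroup.nilpotent_iff_lowerCentralSeries.1 (inferInstance : Group.IsNilpotent Q)
  -- a displacement that is fixed is trivial
  have hcop : ∀ (c : C) (z : Q), S.act c (z⁻¹ * S.act c z) = z⁻¹ * S.act c z → S.act c z = z := by
    intro c z h
    set δ := z⁻¹ * S.act c z with hδ
    have hit : ∀ i : ℕ, S.act (c ^ i) z = z * δ ^ i ∧ S.act (c ^ i) δ = δ := by
      intro i
      induction i with
      | zero => simp
      | succ i ih =>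
        refine ⟨?_, by rw [pow_succ, S.act_mul, h, ih.2]⟩
        rw [pow_succ, S.act_mul, show S.act c z = z * δ by rw [hδ, mul_inv_cancel_left], map_mul,
          ih.1, ih.2, pow_succ, mul_assoc]
    have h2 := (hit (orderOf c)).1
    simp only [pow_orderOf_eq_one, map_one, MulAut.one_apply, left_eq_mul] at h2
    obtain ⟨m, hm⟩ := S.hpQ δ
    have h3 := RelDeg.eq_one_of_pow_coprime h2 hm
      ((Nat.Coprime.pow_left m ((S.hq.coprime_iff_not_dvd).2 (S.not_dvd_orderOf c))).symm)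
    rwa [hδ, inv_mul_eq_one, eq_comm] at h3
  have hfixL : ∀ j k, n ≤ k + j → ∀ z ∈ lcs Q (k + 1), ∀ c, S.act c z = z := by
    intro j
    induction j with
    | zero =>
      intro k hk z hz c
      have hz1 : z = 1 := Subgroup.mem_bot.1 (hn ▸ lcs_le (show n ≤ k + 1 by omega) hz)
      rw [hz1, map_one]
    | succ j ih =>
      intro k hk z hz c
      refine hcop c z (ih (k + 1) (by omega) _ ?_ c)
      refine mem_lcs_succ_of_layer (mul_mem (inv_mem hz) (S.act_mem_lcs c hz)) fun h hh => ?_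
      rw [hh.map_mul _ (inv_mem hz) _ (S.act_mem_lcs c hz), hh.isLam.map_inv hz,
        ((hlayer k h hh).symm ▸ Subgroup.mem_top c : c ∈ S.fixOn (k + 1) h) z hz, inv_mul_cancel]
  refine eq_top_iff.2 fun c _ x => ?_
  by_cases hx : x ∈ S.U
  · rw [hcop c x (hfixL n 0 (by omega) _ (S.displacement_mem_lcs c hx) c)]
  · rw [S.eq_zero_of_not_mem_U β hβ hx, S.eq_zero_of_not_mem_U β hβ fun h => hx ?_]
    simpa [← S.act_mul] using S.act_mem_U c⁻¹ h

end Sys

end Cfsg.Lib.Char.Ndad
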