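import Cfsg.Agent.Lib.Char.Ndad.Layer

/-!
# The action on the layers of the lower central series
-/

set_option autoImplicit false
set_option linter.unusedSectionVars false
set_option linter.style.haveILetI false

namespace Cfsg.Lib.Char.Ndad

open Cfsg Cfsg.Lib.Char
open scoped commutatorElement

universe u v

namespace Sys

variable {Q : Type u} [Group Q] [Fintype Q] {C : Type v} [Group C] [Finite C] (S : Sys Q C)

theorem act_mem_lcs (c : C) : ∀ {k : ℕ} {x : Q}, x ∈ lcs Q k → S.act c x ∈ lcs Q k := by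
  intro k x hx
  have h : (lcs Q k).map (S.act c).toMonoidHom = lcs Q k :=
    Subgroup.characteristic_iff_map_eq.1 inferInstance _
  rw [← h]
  exact ⟨x, hx, rfl⟩

theorem act_layer {k : ℕ} {f : Q → ℂˣ} (hf : Layer k f) (c : C) : Layer k fun x => f (S.act c x) :=
  ⟨fun a ha b hb => by rw [map_mul, hf.map_mul _ (S.act_mem_lcs c ha) _ (S.act_mem_lcs c hb)],
    fun a ha => hf.kills _ (S.act_mem_lcs c ha)⟩

/-- The elements fixing a function on a layer. -/
def fixOn (k : ℕ) (f : Q → ℂˣ) : Subgroup C where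
  carrier := {c | ∀ z ∈ lcs Q k, f (S.act c z) = f z}
  one_mem' z _ := by simp
  mul_mem' {a b} ha hb z hz := by rw [S.act_mul, ha _ (S.act_mem_lcs b hz), hb z hz]
  inv_mem' {a} ha z hz := by
    conv_rhs => rw [show z = S.act a (S.act a⁻¹ z) by rw [← S.act_mul, mul_inv_cancel, S.act_one]]
    rw [ha _ (S.act_mem_lcs _ hz)]

theorem mem_fixOn {k : ℕ} {f : Q → ℂˣ} {c : C} :
    c ∈ S.fixOn k f ↔ ∀ z ∈ lcs Q k, f (S.act c z) = f z := Iff.rfl

/-- A power with exponent prime to `q` that is trivial. -/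
theorem eq_one_of_pow {k : ℕ} {f : Q → ℂˣ} (hf : Layer k f) {z : Q} (hz : z ∈ lcs Q k) {o : ℕ}
    (ho : ¬ S.q ∣ o) (h : f z ^ o = 1) : f z = 1 := by
  obtain ⟨n, hn⟩ := S.hpQ z
  exact RelDeg.eq_one_of_pow_coprime h (by rw [← hf.isLam.map_pow hz, hn, hf.isLam.map_one])
    ((Nat.Coprime.pow_left n ((S.hq.coprime_iff_not_dvd).2 ho)).symm)

theorem over_fixer_le {k : ℕ} {f : Q → ℂˣ} (hf : Layer k f) {χ : IrrCharacter Q}
    (hO : Over (lcs Q k) hf.isLam.hom χ) : fixer S.act (χ : Q → ℂ) ≤ S.fixOn k f := by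
  intro c hc z hz
  have h := hc z
  rw [hf.isLam.over_apply hO (S.act_mem_lcs c hz), hf.isLam.over_apply hO hz] at h
  exact Units.ext (mul_left_cancel₀ χ.2.apply_one_ne_zero h)

/-- A non-trivial function on a layer of the derived group has a non-linear character over it,
and is fixed by a non-trivial element. -/
theorem exists_stab {k : ℕ} (hk : 1 ≤ k) {f : Q → ℂˣ} (hf : Layer k f) {z : Q} (hz : z ∈ lcs Q k)
    (hfz : f z ≠ 1) :
    ∃ χ : IrrCharacter Q, charDegree (χ : Q → ℂ) ≠ 1 ∧ Over (lcs Q k) hf.isLam.hom χ ∧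
      ∃ c : C, c ≠ 1 ∧ c ∈ fixer S.act (χ : Q → ℂ) ∧ c ∈ S.fixOn k f := by
  obtain ⟨χ, hχ⟩ := hf.isLam.exists_over
  have h1 := hf.isLam.degree_ne_one (lcs_one (Q := Q) ▸ lcs_le hk) hz hfz hχ
  obtain ⟨c, hc, hfix⟩ := S.stab χ h1
  exact ⟨χ, h1, hχ, c, hc, hfix, S.over_fixer_le hf hχ hfix⟩

/-- The product over an orbit. -/
def orbProd (c : C) (z : Q) : ℕ → Q
  | 0 => 1
  | n + 1 => orbProd c z n * S.act (c ^ n) z

theorem orbProd_mem {N : Subgroup Q} (c : C) {z : Q} (hz : ∀ n : ℕ, S.act (c ^ n) z ∈ N) :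
    ∀ n, S.orbProd c z n ∈ N
  | 0 => one_mem N
  | n + 1 => mul_mem (orbProd_mem c hz n) (hz n)

theorem map_orbProd {N : Subgroup Q} {h : Q → ℂˣ} (h1 : h 1 = 1)
    (hh : ∀ a ∈ N, ∀ b ∈ N, h (a * b) = h a * h b) (c : C) {z : Q}
    (hz : ∀ n : ℕ, S.act (c ^ n) z ∈ N) :
    ∀ n, h (S.orbProd c z n) = ∏ j ∈ Finset.range n, h (S.act (c ^ j) z)
  | 0 => by simpa [orbProd] using h1
  | n + 1 => by
    rw [orbProd, hh _ (S.orbProd_mem c hz n) _ (hz n), map_orbProd h1 hh c hz n,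
      Finset.prod_range_succ]

theorem prod_shift (c : C) (z : Q) (h : Q → ℂˣ) :
    ∏ j ∈ Finset.range (orderOf c), h (S.act (c ^ j) (S.act c z)) =
      ∏ j ∈ Finset.range (orderOf c), h (S.act (c ^ j) z) := by
  rw [Finset.prod_congr rfl fun j _ => by rw [← S.act_mul, ← pow_succ]]
  have h1 := Finset.prod_range_succ' (fun i => h (S.act (c ^ i) z)) (orderOf c)
  have h2 := Finset.prod_range_succ (fun i => h (S.act (c ^ i) z)) (orderOf c)
  rw [pow_orderOf_eq_one] at h2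
  rw [pow_zero] at h1
  exact mul_right_cancel (h1.symm.trans h2)

/-- An element fixing no non-trivial function on a layer fixes no non-trivial element. -/
theorem mem_succ_of_fixed {k : ℕ} {c : C}
    (hfree : ∀ h : Q → ℂˣ, Layer k h → (∀ z ∈ lcs Q k, h (S.act c z) = h z) →
      ∀ z ∈ lcs Q k, h z = 1)
    {z : Q} (hz : z ∈ lcs Q k) (hfix : ∀ h : Q → ℂˣ, Layer k h → h (S.act c z) = h z) :
    z ∈ lcs Q (k + 1) := by
  refine mem_lcs_succ_of_layer hz fun h hh => ?_
  let P : Q → ℂˣ := fun y => ∏ j ∈ Finset.range (orderOf c), h (S.act (c ^ j) y)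
  have hP : Layer k P := ⟨fun a ha b hb => by
      simp only [P, ← Finset.prod_mul_distrib]
      exact Finset.prod_congr rfl fun j _ => (S.act_layer hh _).map_mul a ha b hb,
    fun a ha => Finset.prod_eq_one fun j _ => (S.act_layer hh _).kills a ha⟩
  have h1 := hfree P hP (fun y _ => S.prod_shift c y h) z hz
  have h2 : ∀ j : ℕ, h (S.act (c ^ j) z) = h z := by
    intro j
    induction j with
    | zero => simp
    | succ j ih => rw [pow_succ, S.act_mul, ← ih]; exact hfix _ (S.act_layer hh _)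
  simp only [P, h2, Finset.prod_const, Finset.card_range] at h1
  exact S.eq_one_of_pow hh hz (S.not_dvd_orderOf c) h1

/-- The averaged function is fixed by the whole group. -/
theorem layer_eq_one_of_fixed {k : ℕ} {f : Q → ℂˣ} (hf : Layer k f) {z : Q} (hz : z ∈ lcs Q k)
    (hfix : ∀ c, f (S.act c z) = f z)
    (hnone : ∀ h : Q → ℂˣ, Layer k h → S.fixOn k h = ⊤ → ∀ w ∈ lcs Q k, h w = 1) : f z = 1 := by
  classical
  haveI := Fintype.ofFinite C
  let F : Q → ℂˣ := fun x => ∏ c : C, f (S.act c x)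
  have hF : Layer k F := ⟨fun a ha b hb => by
      simp only [F, ← Finset.prod_mul_distrib]
      exact Finset.prod_congr rfl fun c _ => (S.act_layer hf c).map_mul a ha b hb,
    fun a ha => Finset.prod_eq_one fun c _ => (S.act_layer hf c).kills a ha⟩
  have h1 := hnone F hF (eq_top_iff.2 fun d _ w _ => by
    simp only [F]
    exact Fintype.prod_equiv (Equiv.mulRight d) _ _ fun e => by simp [S.act_mul]) z hz
  simp only [F, hfix, Finset.prod_const, Finset.card_univ] at h1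
  exact S.eq_one_of_pow hf hz (Nat.card_eq_fintype_card (α := C) ▸ S.cop) h1

/-- A common subgroup of extensions: a left kernel lies in the next layer. -/
theorem ker_le_succ {k : ℕ} {f : Q → ℂˣ} (hf : Layer (k + 1) f) {w : Q}
    (hw : w ∈ lcs Q (k + 1)) (hfw : f w ≠ 1)
    (hfree : ∀ c ∈ S.fixOn (k + 1) f, c ≠ 1 → ∀ h : Q → ℂˣ, Layer k h →
      (∀ z ∈ lcs Q k, h (S.act c z) = h z) → ∀ z ∈ lcs Q k, h z = 1)
    {z₀ : Q} (hz₀ : z₀ ∈ lcs Q k) (hker : ∀ x, f ⁅z₀, x⁆ = 1) : z₀ ∈ lcs Q (k + 1) := by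
  classical
  by_contra hnot
  have hmem : ∀ {z : Q}, z ∈ lcs Q k → ∀ x, ⁅z, x⁆ ∈ lcs Q (k + 1) := fun hz x => by
    simpa using comm_mem_lcs hz (mem_lcs_zero x)
  -- the left kernel
  let N : Subgroup Q :=
    { carrier := {z | z ∈ lcs Q k ∧ ∀ x, f ⁅z, x⁆ = 1}
      one_mem' := ⟨one_mem _, fun x => by simp [hf.isLam.map_one]⟩
      mul_mem' := fun {a b} ha hb => ⟨mul_mem ha.1 hb.1, fun x => by
        rw [hf.isLam.comm_mul_left (hmem ha.1 x) (hmem hb.1 x), ha.2, hb.2, one_mul]⟩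
      inv_mem' := fun {a} ha => ⟨inv_mem ha.1, fun x => by
        rw [hf.isLam.comm_inv_left (hmem ha.1 x), ha.2, inv_one]⟩ }
  have hZN : lcs Q (k + 1) ≤ N := fun z hz => ⟨lcs_le (Nat.le_succ k) hz, fun x =>
    hf.kills _ (by simpa using comm_mem_lcs hz (mem_lcs_zero x))⟩
  haveI hNn : N.Normal := ⟨fun z hz g => by
    have h1 : ⁅g, z⁆ ∈ N := hZN (by simpa using comm_mem_lcs (mem_lcs_zero g) hz.1)
    have h2 := mul_mem h1 hz
    rwa [show ⁅g, z⁆ * z = g * z * g⁻¹ by simp only [commutatorElement_def]; group] at h2⟩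
  obtain ⟨χ, -, hχ, -⟩ := S.exists_stab (by omega) hf hw hfw
  obtain ⟨ω, -, hω⟩ := hχ.exists_extension N hZN (fun z hz x => ⟨hmem hz.1 x, hz.2 x⟩)
  let g : Q → ℂˣ := fun x => if hx : x ∈ N then ω ⟨x, hx⟩ else 1
  have hg : ∀ x (hx : x ∈ N), g x = ω ⟨x, hx⟩ := fun x hx => dif_pos hx
  have hgmul : ∀ a ∈ N, ∀ b ∈ N, g (a * b) = g a * g b := fun a ha b hb => by
    rw [hg _ (mul_mem ha hb), hg a ha, hg b hb, ← map_mul]; rfl
  have hgZ : ∀ z ∈ lcs Q (k + 1), g z = f z := fun z hz => (hg z (hZN hz)).trans (hω ⟨z, hz⟩)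
  -- all extensions are fixed by non-trivial elements
  have hext : ∀ e : Q → ℂˣ, (∀ a ∈ N, ∀ b ∈ N, e (a * b) = e a * e b) →
      (∀ z ∈ lcs Q (k + 1), e z = f z) →
      ∃ c : C, c ≠ 1 ∧ c ∈ S.fixOn (k + 1) f ∧ ∀ x ∈ N, e (S.act c x) = e x := by
    intro e he heZ
    have hl : IsLam N e := ⟨he, fun x z hz => by
      have h1 : ⁅x, z⁆ ∈ lcs Q (k + 1) := by simpa using comm_mem_lcs (mem_lcs_zero x) hz.1
      rw [show x * z * x⁻¹ = ⁅x, z⁆ * z by simp only [commutatorElement_def]; group,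
        he _ (hZN h1) _ hz, heZ _ h1, hf.isLam.comm_swap (hmem hz.1 x), hz.2 x, inv_one, one_mul]⟩
    obtain ⟨η, hη⟩ := hl.exists_over
    have hdeg : charDegree (η : Q → ℂ) ≠ 1 := by
      intro h
      have h1 : (η : Q → ℂ) 1 = 1 := by rw [η.2.apply_one_eq_charDegree, h, Nat.cast_one]
      obtain ⟨L, hL⟩ := exists_hom_of_degree_one η.2.isCharacter h1
      have h2 := hl.over_apply hη (hZN hw)
      rw [congrFun hL w, h1, one_mul, heZ w hw, Abelianization.commutator_subset_ker L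
        (lcs_one (Q := Q) ▸ lcs_le (show 1 ≤ k + 1 by omega) hw)] at h2
      exact hfw (Units.ext h2.symm)
    obtain ⟨c, hc, hfix⟩ := S.stab η hdeg
    have hzero : ∀ x ∈ N, S.act c x ∈ N → e (S.act c x) = e x := fun x hx hx' => by
      have h := hfix x
      rw [hl.over_apply hη hx', hl.over_apply hη hx] at h
      exact Units.ext (mul_left_cancel₀ η.2.apply_one_ne_zero h)
    have hcS : c ∈ S.fixOn (k + 1) f := fun z hz => by
      rw [← heZ _ (S.act_mem_lcs c hz), ← heZ z hz]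
      exact hzero z (hZN hz) (hZN (S.act_mem_lcs c hz))
    refine ⟨c, hc, hcS, fun x hx => hzero x hx ⟨S.act_mem_lcs c hx.1, fun y => ?_⟩⟩
    obtain ⟨y, rfl⟩ := (S.act c).surjective y
    rw [← map_commutatorElement, hcS _ (hmem hx.1 y), hx.2 y]
  -- an element fixing `f` preserves `N`
  have hNact : ∀ c ∈ S.fixOn (k + 1) f, ∀ x ∈ N, S.act c x ∈ N := fun c hc x hx =>
    ⟨S.act_mem_lcs c hx.1, fun y => by
      obtain ⟨y, rfl⟩ := (S.act c).surjective y
      rw [← map_commutatorElement, hc _ (hmem hx.1 y), hx.2 y]⟩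
  -- no non-trivial fixed function on `N` modulo the next layer
  have hN1 : ∀ c ∈ S.fixOn (k + 1) f, c ≠ 1 → ∀ d : Q → ℂˣ,
      (∀ a ∈ N, ∀ b ∈ N, d (a * b) = d a * d b) → (∀ z ∈ lcs Q (k + 1), d z = 1) →
      (∀ x ∈ N, d (S.act c x) = d x) → ∀ x ∈ N, d x = 1 := by
    intro c hc hc1 d hd hdZ hdfix x hx
    have hit : ∀ n : ℕ, S.act (c ^ n) x ∈ N := fun n => hNact _ (pow_mem hc n) x hx
    have hy : S.orbProd c x (orderOf c) ∈ lcs Q (k + 1) := by
      refine S.mem_succ_of_fixed (hfree c hc hc1) (S.orbProd_mem c (fun n => (hit n).1) _)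
        fun h hh => ?_
      have h1 := S.map_orbProd (h := h) hh.isLam.map_one hh.map_mul c (fun n => (hit n).1) (orderOf c)
      have h2 := S.map_orbProd (h := fun y => h (S.act c y)) (S.act_layer hh c).isLam.map_one
        (S.act_layer hh c).map_mul c (fun n => (hit n).1) (orderOf c)
      rw [h1]
      exact h2.trans ((Finset.prod_congr rfl fun j _ => by rw [S.act_comm c (c ^ j)]).trans
        (S.prod_shift c x h))
    have h1 := hdZ _ hy
    have hd1 : d 1 = 1 := hdZ 1 (one_mem _)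
    rw [S.map_orbProd hd1 hd c hit] at h1
    have h2 : ∀ j : ℕ, d (S.act (c ^ j) x) = d x := by
      intro j
      induction j with
      | zero => simp
      | succ j ih => rw [pow_succ', S.act_mul, hdfix _ (hit j), ih]
    rw [Finset.prod_congr rfl fun j _ => h2 j, Finset.prod_const, Finset.card_range] at h1
    obtain ⟨n, hn⟩ := S.hpQ x
    have hpow : ∀ m : ℕ, d (x ^ m) = d x ^ m := by
      intro m
      induction m with
      | zero => simpa using hd1
      | succ m ih => rw [pow_succ, pow_succ, hd _ (pow_mem hx m) _ hx, ih]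
    exact RelDeg.eq_one_of_pow_coprime h1 (by rw [← hpow, hn, hd1])
      ((Nat.Coprime.pow_left n ((S.hq.coprime_iff_not_dvd).2 (S.not_dvd_orderOf c))).symm)
  -- two different extensions
  obtain ⟨η, hη, hηz⟩ : ∃ h : Q → ℂˣ, Layer k h ∧ h z₀ ≠ 1 := by
    by_contra hh
    push Not at hh
    exact hnot (mem_lcs_succ_of_layer hz₀ hh)
  obtain ⟨s, hs1, hs, hsg⟩ := hext g hgmul hgZ
  obtain ⟨s', hs1', hs', hsg'⟩ := hext (fun x => g x * η x)
    (fun a ha b hb => by rw [hgmul a ha b hb, hη.map_mul a ha.1 b hb.1, mul_mul_mul_comm])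
    (fun z hz => by rw [hη.kills z hz, mul_one, hgZ z hz])
  have hsd : ∀ x ∈ N, η (S.act s x) * (η x)⁻¹ = 1 := by
    refine hN1 s' hs' hs1' _ (fun a ha b hb => ?_) (fun z hz => ?_) fun x hx => ?_
    · rw [map_mul, hη.map_mul _ (S.act_mem_lcs s ha.1) _ (S.act_mem_lcs s hb.1),
        hη.map_mul a ha.1 b hb.1, mul_inv, mul_mul_mul_comm]
    · rw [hη.kills z hz, hη.kills _ (S.act_mem_lcs s hz), inv_one, one_mul]
    · have hx' := hNact s' hs' x hx
      have h1 := hsg' x hx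
      have h2 := hsg' _ (hNact s hs x hx)
      rw [← S.act_comm s s', hsg _ hx', hsg x hx] at h2
      calc η (S.act s (S.act s' x)) * (η (S.act s' x))⁻¹
          = g (S.act s' x) * η (S.act s (S.act s' x)) * (g (S.act s' x) * η (S.act s' x))⁻¹ := by
            rw [mul_inv, mul_mul_mul_comm, mul_inv_cancel, one_mul]
        _ = η (S.act s x) * (η x)⁻¹ := by
            rw [h2, h1, mul_inv, mul_mul_mul_comm, mul_inv_cancel, one_mul]
  exact hηz (hN1 s hs hs1 η (fun a ha b hb => hη.map_mul a ha.1 b hb.1) hη.kills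
    (fun x hx => mul_inv_eq_one.1 (hsd x hx)) z₀ ⟨hz₀, hker⟩)

/-- Stabilisers of the functions on a layer without proper inclusions are equal. -/
theorem fixOn_eq {k : ℕ}
    (hanti : ∀ f g : Q → ℂˣ, Layer k f → Layer k g → (∃ z ∈ lcs Q k, f z ≠ 1) →
      (∃ z ∈ lcs Q k, g z ≠ 1) → S.fixOn k f ≤ S.fixOn k g → S.fixOn k f = S.fixOn k g)
    {f g : Q → ℂˣ} (hf : Layer k f) (hg : Layer k g) (hf0 : ∃ z ∈ lcs Q k, f z ≠ 1)
    (hg0 : ∃ z ∈ lcs Q k, g z ≠ 1) : S.fixOn k f = S.fixOn k g := by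
  by_cases hfg : ∃ z ∈ lcs Q k, f z * g z ≠ 1
  · set D₃ := S.fixOn k fun x => f x * g x
    have hle : D₃ ≤ S.fixOn k f ∨ S.fixOn k f = S.fixOn k g := by
      by_cases hex : ∃ s ∈ D₃, ∃ z ∈ lcs Q k, f (S.act s z) * (f z)⁻¹ ≠ 1
      · obtain ⟨s, hs, hne⟩ := hex
        right
        set h : Q → ℂˣ := fun x => f (S.act s x) * (f x)⁻¹ with hh
        have hl : Layer k h := (S.act_layer hf s).mul hf.inv
        have e : ∀ x ∈ lcs Q k, h x = g x * (g (S.act s x))⁻¹ := fun x hx => by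
          have h3 : f (S.act s x) * g (S.act s x) = f x * g x := hs x hx
          rw [hh]
          show f (S.act s x) * (f x)⁻¹ = _
          rw [eq_mul_inv_of_mul_eq h3, mul_right_comm (f x * g x), mul_right_comm (f x) (g x),
            mul_inv_cancel, one_mul]
        have h1 : S.fixOn k f ≤ S.fixOn k h := fun t ht x hx => by
          simp only [hh]
          rw [← S.act_comm t s, ht _ (S.act_mem_lcs s hx), ht x hx]
        have h2 : S.fixOn k g ≤ S.fixOn k h := fun t ht x hx => by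
          rw [e _ (S.act_mem_lcs t hx), e x hx, ← S.act_comm t s, ht _ (S.act_mem_lcs s hx),
            ht x hx]
        rw [hanti f h hf hl hf0 hne h1, hanti g h hg hl hg0 hne h2]
      · left
        push Not at hex
        exact fun s hs z hz => mul_inv_eq_one.1 (hex s hs z hz)
    rcases hle with h | h
    · have h3 := hanti _ _ (hf.mul hg) hf hfg hf0 h
      refine hanti f g hf hg hf0 hg0 fun t ht x hx => ?_
      have h4 : f (S.act t x) * g (S.act t x) = f x * g x := by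
        rw [← h3] at ht
        exact ht x hx
      rw [ht x hx] at h4
      exact mul_left_cancel h4
    · exact h
  · push Not at hfg
    ext t
    simp only [mem_fixOn]
    refine forall₂_congr fun x hx => ?_
    rw [eq_inv_of_mul_eq_one_right (hfg _ (S.act_mem_lcs t hx)),
      eq_inv_of_mul_eq_one_right (hfg x hx), inv_inj]

/-- An invariant character of an invariant supporting subgroup is fixed by the stabiliser. -/
theorem fixer_eq {k : ℕ} {f : Q → ℂˣ} (hf : Layer k f) {χ : IrrCharacter Q}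
    (hO : Over (lcs Q k) hf.isLam.hom χ) (R : Subgroup Q) [R.Normal] (hZR : lcs Q k ≤ R)
    (hR : ∀ x ∈ R, ∀ y, ∃ h : ⁅x, y⁆ ∈ lcs Q k, f ⁅x, y⁆ = 1)
    (hsupp : ∀ x ∉ R, (χ : Q → ℂ) x = 0)
    (hinv : ∀ c ∈ S.fixOn k f, ∀ x ∈ R, S.act c x ∈ R)
    (hdisp : ∀ c ∈ S.fixOn k f, ∀ x ∈ R, x⁻¹ * S.act c x ∈ lcs Q k) :
    fixer S.act (χ : Q → ℂ) = S.fixOn k f ∧ charDegree (χ : Q → ℂ) ^ 2 = R.index := by
  obtain ⟨ω, hω, hωf⟩ := hO.exists_extension R hZR fun x hx y => by
    obtain ⟨h, h'⟩ := hR x hx y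
    exact ⟨h, h'⟩
  refine ⟨le_antisymm (S.over_fixer_le hf hO) fun c hc x => ?_, hω.degree_sq hsupp⟩
  by_cases hx : x ∈ R
  · set d := x⁻¹ * S.act c x with hd'
    have hd : d ∈ lcs Q k := hdisp c hc x hx
    have hm : ∀ n : ℕ, S.act (c ^ n) x ∈ R := fun n => hinv _ (pow_mem hc _) x hx
    have hpow : ∀ n : ℕ, ω ⟨S.act (c ^ n) x, hm n⟩ = ω ⟨x, hx⟩ * f d ^ n := by
      intro n
      induction n with
      | zero => simp
      | succ n ih =>
        have hdn : S.act (c ^ n) d ∈ lcs Q k := S.act_mem_lcs _ hd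
        have e : (⟨S.act (c ^ (n + 1)) x, hm (n + 1)⟩ : R) = ⟨S.act (c ^ n) x, hm n⟩ *
            ⟨S.act (c ^ n) d, hZR hdn⟩ := Subtype.ext (by
          show S.act (c ^ (n + 1)) x = S.act (c ^ n) x * S.act (c ^ n) d
          rw [← map_mul, hd', mul_inv_cancel_left, ← S.act_mul, ← pow_succ])
        rw [e, map_mul, ih, show ω ⟨_, hZR hdn⟩ = f _ from hωf ⟨_, hdn⟩,
          (pow_mem hc n : c ^ n ∈ S.fixOn k f) d hd, pow_succ, mul_assoc]
    have h1 := hpow (orderOf c)
    simp only [pow_orderOf_eq_one, map_one, MulAut.one_apply, left_eq_mul] at h1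
    have h2 := S.eq_one_of_pow hf hd (S.not_dvd_orderOf c) h1
    have h3 := hpow 1
    simp only [pow_one, h2, mul_one] at h3
    rw [show S.act c x = ((⟨S.act c x, hinv c hc x hx⟩ : R) : Q) from rfl, hω,
      show (χ : Q → ℂ) x = (χ : Q → ℂ) ((⟨x, hx⟩ : R) : Q) from rfl, hω, h3]
  · rw [hsupp x hx, hsupp]
    intro h
    exact hx (by simpa [← S.act_mul] using hinv _ (inv_mem hc) _ h)

end Sys

end Cfsg.Lib.Char.Ndad
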